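import Mathlib
import Cfsg.Prelude.Def_Sporadic_a
import Cfsg.Agent.H14.GolaySteiner

/-!
Stabiliser chain of `M24` on the base `0,1,2,3,4,7,5`.
* entries `e` of 240 bits (table + inverse table): `goodP e` ⇒ `exists_of_goodP : ∃ σ ∈ M24, Tab σ e`; `ent L i`; `transOK`, `trans_spec`.
* `card_eq_mul_stab` (orbit-stabiliser inside a subgroup), `card_M24`.
* `exists_map5` (5-transitivity from the base), `M24_map_inj` (k ≤ 5 points anywhere), `M24_smul_eq` (k-homogeneous),
  `exists_map7`, `octad_trans`, `octad_pt_trans` (octad + ≤ 5 points in it), `octad_out_trans` (pointwise stabiliser of an octad is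
  transitive outside), `eq_one_of_fix_octad` (6 points of an octad and one outside form a base),
  `dodecad_map5` (dodecad + 5 points in it), `dodecad_trans`, `dodecad_pt_trans`, `sq_eq_one_of_fix_octad`.
-/

namespace H14

open Finset Cfsg
open scoped Pointwise symmDiff

/-- entry `i` of a list of 240-bit entries. -/
def ent (L i : ℕ) : ℕ :=
  Nat.land (Nat.shiftRight L (Nat.mul 240 i)) 0xffffffffffffffffffffffffffffffffffffffffffffffffffffffffffff

noncomputable def goodP (e : ℕ) : Bool := band (isInv e (Nat.shiftRight e 120)) (inM24 e)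

theorem exists_of_goodP {e : ℕ} (h : goodP e = true) : ∃ σ ∈ M24, Tab σ e := by
  rw [goodP, band_iff] at h
  exact ⟨_, (mkPerm_tab _ _ h.1).mem_M24 h.2, mkPerm_tab _ _ h.1⟩

noncomputable def fixes (e F : ℕ) : Bool := allLt 24 fun i => bimp (bit F i) (Nat.beq (ap e i) i)

theorem Tab.fix {σ : Equiv.Perm GolayPt} {e F : ℕ} (h : Tab σ e) (hF : fixes e F = true) :
    ∀ x ∈ toSet F, σ x = x := by
  intro x hx
  have := (allLt_iff _ _).1 hF (idx x) (idx_lt x)
  rw [bimp_iff, bit_eq, ← mem_toSet, Nat.beq_eq] at this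
  rw [← pt_idx x, h.apply_pt (idx_lt x), this hx]

noncomputable def transOK (L F p S : ℕ) : Bool :=
  allLt 24 fun q => bimp (bit S q)
    (band (goodP (ent L q)) (band (Nat.beq (ap (ent L q) p) q) (fixes (ent L q) F)))

theorem trans_spec {L F p S : ℕ} (h : transOK L F p S = true) (hp : p < 24) :
    ∀ q ∈ toSet S, ∃ σ ∈ M24, (∀ x ∈ toSet F, σ x = x) ∧ σ (pt p) = q := by
  intro q hq
  have := (allLt_iff _ _).1 h (idx q) (idx_lt q)
  rw [bimp_iff, bit_eq, ← mem_toSet, band_iff, band_iff, Nat.beq_eq] at this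
  obtain ⟨h1, h2, h3⟩ := this hq
  obtain ⟨σ, hσ, hT⟩ := exists_of_goodP h1
  exact ⟨σ, hσ, hT.fix h3, by rw [hT.apply_pt hp, h2, pt_idx]⟩

def chainL0 : ℕ := 0x5883388a1c8f5140b46cd317aed7005883388a1c8f5140b46cd317aed7b01672b469144d40bc936491072ab705c2c419c450e47a8a05a36698bd7640c0f4b4515c950a1d860cc952bad70048b33a0ca0a497b67752065b44f545120111d329e55340616a9917aed7005968348a1c4e511ab772df24cd14851060052b8dcac6a8f3254521b9f6700d6411f70896c82a354d1a719653bc894501a7755e884d8b484d110cb6b81d45588b6be2944cec8143510cd208d253cc0b31054b3e2d6225072ab702c2c9152450d0780aa69be8eb36f11962d2568092a079b829608c87aed7006515bead1aa8713904616d3b9930936e119522031c832e71a11ea3c2d5a84074dd022b6ce5122c1ae469c28f230adb2e157026790a88485e688d5704e096ac712be96904e8612b7128ce821467c42b4880e250ed9d65760cb6200ca396579b103855f64d02b13a2d6ca020dce83552052c859b2911b9f6901c53d89508ae652db08bd091d26c111464502c394750424e6a6717aed7005922a48a1a0f0154d37d1d66de2b114647c9916ce863802b4b90aac2d70046d74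a02999f1410e55b2d4add2a1120c1d2768a5e693408584a772ab7040328adf568d54389c8230b69dcc93cd1608db221a342bc406257072ab70502cb41a450e27288d5bb96f9266838ace430305452f9996504874236b705424599d0650524bdb3ba9032da279c8ca60ca8706954c087680517aed70058dbd88a1bcf31517045629915c6230d40a9222c870734f3aa0117aed7004f44388c1ad5614a264d5f76c265154c93c6746bdc362144848202aed7006d089a47735eb1268a9d46865ca474a08494cd89d6c9d5547888100ef6081485d9f53de0c6a6747464511883bd2728c1ee6b16a4a0e629062082d5b8416ad2728c1ee6b16a4a0e629062bd6939460f7358b525073148310416b82d5a4e5183dcd62d4941cc520c41bdab49ca307b9ac5a928398a418820bdab49ca307b9ac5a928398a418820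
def chainL1 : ℕ := 0x8d736ba25b5ea2a3d483c990490c073daba1a2454a65aa46838602b32e03055359e9143d23b4a0e28aac692e00acb1a2a09720649d5af95ce261ac011035429c9bc4f65c8ac1ce866be007b285329c1144685ca13691363dea04c9e12c282221d6ab22a98ced59ae00b1713d932ab48a1a2ee28a6f342808d5270894c95ccd72d142d87323e0071ac823ee112d90546a9a34e32ca60bccb5585c87da098d1ac508f2190c0bba8ab116d7c52899d90286a219a40ab0f78b8226c2c95d1f3520b2190c0a36ea4126e4c9f659d86a84a21c2202bee3551c194d954a0f1592cd81840a959273d03b448d3cd6a48ae6a06007adcda09560b130ace2540ce434ae00c1735092cbd68eb45a728d04349e0a354560875804d28a5c7b226f592e009e172b16f226d31d546436828c9c08a5678484c50c2f2d50ea5a77690c0219472caf362070abec9a0562745a074e2315d093d9415b0a6a36b223e00938a7b12a115cca5b6117a123a4d807156c9a0f16d9f40aa024d6f2190c02b8cc992096ddf4aa8f2886c21a1607b64a72597b2290106672c575190c083c8d4d4ccbced12d24e404e21ad40694efaa8438a590a4c2b459c434ae009a6b509eca16ed449c7a8ec4845208b90bab265835e9bd2c151c52190c05a66a892ef6d9d2a1d9530602195007b97211907b36f362a90090a91d6206bc4965028bd9cbaa891848a61cce0928ebb0e08355ac4ce91704a4b89e01cdc955d1109daca5970abca4908c03c570b92cd33c6c452a92cc2a149c09c52a30ad47060ca910bbbcf268ca0bace589acc7cd0d75609a11411c840bc54770a697ad90b150daca86184807ce29518ee9218da597580ca2092e00a90bb3ea7bc18d4ce8e8c8a231060abee33aa3225914640ab989c9684c0abaec3c22ab146b4488d9852fa1840bdab49ca307b9ac5a928398a418820bdab49ca307b9ac5a928398a418820000000000000000000000000000000000000000000000000000000000000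
def chainL2 : ℕ := 0x155965aa74711b031df1ba0a34c8203d2d08890c4bdb59c86652cae25c2018a898d90c9388d9c2e57996aa9c204c8755be6a3b990292911190dbd820b38492dcc3912878b58baa2707a82095ced2bd641d94940a866466e85420b5622ba27470d26849ec5a8a469c209ded08aaab4bc68399b2130a4750204522513173bba50b3c866a46aa9c207ac76836ac538f2890d7122892cc20338a4b8aa33be6a8b570b510c4c82099e2668968759444b0657deb4848209a1914945425e4d1c1d67accaa9c2072070bb68a3a595312761164f5c42073c779c222250ed42aa5619764c820a112e98a32b5d872a86b6990fac020a3ee329d6413a0a436b3b1a2c4c820a9d37408adb39448b06b91a70a3c2033a2ca4ae9b08ad5c10478e6aa9c208bc732caaa3d9945920915da8338205dcb379228ab84d3da0650e8c4c820b29e5a0a299b984b9c705a2b233420428b1830d3b24e2b8c8b6b9f4ac8205bc6480a93298f2459d76c6a9530205aaa9b21a5a1dec13a379c0833482044eaf389266aa2cbda9270e0522c203a4afaad177506668ac48b270548208266e288e4a3d6690ed1bb2a86a8201ce3442ce6ac1ca2b44fb12ec4c82029df4b0aae43544930738c166ba420495639a2c6b91cd8c2427b28aa9c207c4659a56a3b586a92f2142cea202069ab31c1848a96e2bee815127b482048ea6a09f2532f16b8a82597099c20395cb7d07535e2a9b488b0a0c4c82071e12589a59d544a3068bbec9898209b62b228c57d6d2a258883843b9c201b5cbbb2a779ac9a49481461321420432913bab719965692d09a9e24c8208263538a882c976698779b98a790206560a21ae54a22e1d9b37d167148208aac6409b53b1372d1ee24a1358c20bdab49ca307b9ac5a928398a418820bdab49ca307b9ac5a928398a418820000000000000000000000000000000000000000000000000000000000000000000000000000000000000000000000000000000000000000000000000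
def chainL3 : ℕ := 0x1d6117a96d2da443baec44d34308204bac4336959aa088c8a758decb882090e764c57575e8653cf02910d608207520dade4853c838ae654b0e6b08202346662cb074ecf8d11551e57488202350a7157063ed391c6935237a88208b1233ad53bcac47b8b543614308207b50483ae55a8d6946a798d2ca08205cd301d50a3ddcf8968435a4d6082071a49b157463483bc2b179d4898820add7620e132b8cda21528bd8748820b52eb820f133985aa46a235f39082052ea9b4073a1dc693ef12a08d608204ceaf82d1253483b5e86730e5888206c8f34dca35b2a483956445f430820921a4a58cb2aaee7a667a8e2c80820225ac81ab31acaea1d48b5e327882031e2b810b31b2b4726c8549b7788205b265690c838e4fad21153ad7488202156aab50961a76b9c707c692708202c6cba988e8486f6d0ec52277488202566a2bacf64168a1c664caf1688208b572ade89859032a8ce23e676082093a712d2ef322c3aaa0d2256760820bb290496a86996e1d8917aa7238820baa35291143b1f669a701ba4958820790f0b51b54197748e6a749912882064e1249894b9e256a16fab8765082071da559a12bd5f4244689a93660820791cc3c1516dea3998a8b4a8b48820b411252e243d2e64bdc32d66d608206dcce2d2365248394d757b0f04082069e86a926962917b15f01c9717082062e758988848eef2ba0db515238820abdb695dd15248799506a0d8b80820952e75ce03b46a523dc96214d3082051928a34902b22e9daab7dc723882032933591b03b24e45eb41d9f128820b9688512b194dd66ad904bce330820bb23573e083356954cf428ed220820bdab49ca307b9ac5a928398a418820bdab49ca307b9ac5a928398a418820000000000000000000000000000000000000000000000000000000000000000000000000000000000000000000000000000000000000000000000000000000000000000000000000000000000000000000000000000000000000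
def chainL4 : ℕ := 0x254ae4dd8b31e306a2969c94f18820922c9399ac251718166a73eb718820592e593935a1a33540ed432cf18820a960f64daa24906bae274ba96188207a4878b1177414d34ac5aae7418820824e42aa6ebbd92336d1a2d1518820824e42aa6ebbd92336d1a2d15188207a4878b1177414d34ac5aae74188205c23723ac7624ad9c90aabcd418820a44e45aab63498fba1c9815b318820b3d8aa1132aacf78150d8ccce1882065df3340ebb1115752296955218820526b22b49789e935c0ce4598f1882081aad651ea222455dec77267118820351f3642c43ad1195eaa2b52e1882054536a2d92a90d3720ad7dcf0188205de953b4cc25a5373e2a8152818820b3a956352752e50ba0a49c4cf18820646084bcf65926d2cae6ab954188204c0e46aad591997796748a16e188204194c29deebcc8d4c971ada1418820798e4729058c1944d57795a6d188209d16672511bbec491ea55360c188207b536bae0574cc4a9e515510c18820ba8cb9d9cf4152d24990a9e3418820bc8e49a8a884589a59af355cb188202d113b3e2b4de0c69246555c71882074cd6a262d9156c81df5222ea18820a1de84cdab3561163896baa45188203a1d79158daaa2b81a74b3c89188202b6cb525cc3c4d394284456ef188202d4c962dca246d0a4e477b6e81882075a95434af85e4a5b13321a271882075a95434af85e4a5b13321a27188209a92695a0daa17165cf4291ee18820549e8bcd912920b6daae4d0e6188203966f3218bb2a0d8c9c9adc941882033ce4aa96da259183912bcec518820bdab49ca307b9ac5a928398a418820bdab49ca307b9ac5a928398a418820000000000000000000000000000000000000000000000000000000000000000000000000000000000000000000000000000000000000000000000000000000000000000000000000000000000000000000000000000000000000000000000000000000000000000000000000000000000000000000000000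
def chainL5 : ℕ := 0x2cec6aaef26b927831f452224188208d668b40ab4b9ea91da6652e4188200000000000000000000000000000000000000000000000000000000000008d668b40ab4b9ea91da6652e4188202cec6aaef26b927831f45222418820000000000000000000000000000000000000000000000000000000000000000000000000000000000000000000000000000000000000000000000000bdab49ca307b9ac5a928398a418820bdab49ca307b9ac5a928398a418820000000000000000000000000000000000000000000000000000000000000000000000000000000000000000000000000000000000000000000000000000000000000000000000000000000000000000000000000000000000000000000000000000000000000000000000000000000000000000000000000000000000000000000000000000000000000000000000000000000000000000000000000000000000000000000000000000000000000000000000000000000000000000000000000000000000000000000000000000000000000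
def chainL6 : ℕ := 0x2a695835d34464c32acf3aee4188202a695835d34464c32acf3aee4188204950f6c0d2a2e6c72af53c6c4188204950f6c0d2a2e6c72af53c6c418820a20b75c6464b5cc9a9f63c2a418820a20b75c6464b5cc9a9f63c2a418820abee5339abb4a2c829093ce8418820abee5339abb4a2c829093ce8418820835662a5f78a2ccaaa4e3d26418820835662a5f78a2ccaaa4e3d264188206c22e496b65d2ec7aa663a244188206c22e496b65d2ec7aa663a2441882071a4d7d4a89de8c4a9703da241882071a4d7d4a89de8c4a9703da24188209c8cbbd90573d2ca29b13d604188209c8cbbd90573d2ca29b13d60418820451368ae6e2c0cc92ab73b5e418820451368ae6e2c0cc92ab73b5e4188208adb2452ef816acb28d33a5c4188208adb2452ef816acb28d33a5c41882094dd1b5e89354ac42a0b3bda41882094dd1b5e89354ac42a0b3bda41882000000000000000000000000000000000000000000000000000000000000033a70abd349590c2aa2d3dd641882033a70abd349590c2aa2d3dd6418820000000000000000000000000000000000000000000000000000000000000b5de894d6da9a0c8a8b43b92418820b5de894d6da9a0c8a8b43b924188207d6c971a11bcd6c6aa853c904188207d6c971a11bcd6c6aa853c904188200000000000000000000000000000000000000000000000000000000000005c613a22d56a5ecba9d2394c4188205c613a22d56a5ecba9d2394c418820bdab49ca307b9ac5a928398a418820bdab49ca307b9ac5a928398a418820000000000000000000000000000000000000000000000000000000000000000000000000000000000000000000000000000000000000000000000000000000000000000000000000000000000000000000000000000000000000000000000000000000000000000000000000000000000000000000000000000000000000000000000000000000000000000000000000000000000000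
def chainD : ℕ := 0x8bcd6925d5a5d674326d540a4188207520f4cee6b450a69e4b654a4188202c9f0322295de6aa9e96635c418820721696da34a94c77b21254ee41882071a4d7d4a89de8c4a9703da241882071a4d7d4a89de8c4a9703da2418820926088bda5bd267b316e51aa4188207acae6de759222a49ed461a0418820ac52685a4f9d16a29ee8639a4188204caee7c6d3818a76b2a855164188206c22e496b65d2ec7aa663a244188206c22e496b65d2ec7aa663a244188204caee7c6d3818a76b2a85516418820ac52685a4f9d16a29ee8639a4188205be54bb53129aaa99e0e622c418820995b45d609b2247bb226539e418820b5de894d6da9a0c8a8b43b92418820b5de894d6da9a0c8a8b43b92418820a19f3bc2ae8c9075b2c5525a4188209a637a39f2ac0aa59ccd65904188206dcc97ae9044aca71e33616a418820b34b1439309aee79328f554c418820abee5339abb4a2c829093ce8418820abee5339abb4a2c829093ce8418820b34b1439309aee79328f554c4188206dcc97ae9044aca71e33616a418820321b52cacebae8a81e7163d24188207c68d4c90b342a7730b655e64188204950f6c0d2a2e6c72af53c6c4188204950f6c0d2a2e6c72af53c6c4188207c68d4c90b342a7730b655e6418820321b52cacebae8a81e7163d241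88209a637a39f2ac0aa59ccd6590418820a19f3bc2ae8c9075b2c5525a418820451368ae6e2c0cc92ab73b5e418820451368ae6e2c0cc92ab73b5e418820bc12ba18ad946c79b11553dc418820bb5135bdd63160aa1ea964a24188207520f4cee6b450a69e4b654a4188208bcd6925d5a5d674326d540a4188202a695835d34464c32acf3aee4188202a695835d34464c32acf3aee41882043ab2b35e65ce878b2e951604188204cead751658da4a79d17640c418820859c5ac50da4eea31d72625e4188206da6f722572d6074b0d152e84188207d6c971a11bcd6c6aa853c904188207d6c971a11bcd6c6aa853c9041882085e55352764bda72b1cb5450418820b42928d4d7725aa41de564d641882041af1916146bdcab1d3562e6418820aad102ce91735e73313755a44188209c8cbbd90573d2ca29b13d604188209c8cbbd90573d2ca29b13d60418820721696da34a94c77b21254ee4188202c9f0322295de6aa9e96635c418820bb5135bdd63160aa1ea964a2418820bc12ba18ad946c79b11553dc4188208adb2452ef816acb28d33a5c4188208adb2452ef816acb28d33a5c418820995b45d609b2247bb226539e4188205be54bb53129aaa99e0e622c4188207acae6de759222a49ed461a0418820926088bda5bd267b316e51aa418820835662a5f78a2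ccaaa4e3d26418820835662a5f78a2ccaaa4e3d264188203522585d687a5c7ab1b354ac4188209157641ab37b52a89dd065e8418820b42928d4d7725aa41de564d641882085e55352764bda72b1cb54504188205c613a22d56a5ecba9d2394c4188205c613a22d56a5ecba9d2394c4188206da6f722572d6074b0d152e8418820859c5ac50da4eea31d72625e418820a3acb9a5a8854cab9caf64644188205d5d7994cf45a27a3250535241882094dd1b5e89354ac42a0b3bda41882094dd1b5e89354ac42a0b3bda4188205d5d7994cf45a27a32505352418820a3acb9a5a8854cab9caf64644188204cead751658da4a79d17640c41882043ab2b35e65ce878b2e9516041882033a70abd349590c2aa2d3dd641882033a70abd349590c2aa2d3dd6418820aad102ce91735e73313755a441882041af1916146bdcab1d3562e64188209157641ab37b52a89dd065e84188203522585d687a5c7ab1b354ac418820a20b75c6464b5cc9a9f63c2a418820a20b75c6464b5cc9a9f63c2a4188202cec6aaef26b927831f452224188208d668b40ab4b9ea91da6652e4188208d668b40ab4b9ea91da6652e4188202cec6aaef26b927831f45222418820bdab49ca307b9ac5a928398a418820bdab49ca307b9ac5a928398a418820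

theorem chain0 : transOK chainL0 0 0 0xffffff = true := by decide +kernel
theorem chain1 : transOK chainL1 1 1 0xfffffe = true := by decide +kernel
theorem chain2 : transOK chainL2 3 2 0xfffffc = true := by decide +kernel
theorem chain3 : transOK chainL3 7 3 0xfffff8 = true := by decide +kernel
theorem chain4 : transOK chainL4 15 4 0xfffff0 = true := by decide +kernel
theorem chain5 : transOK chainL5 31 7 0x1480 = true := by decide +kernel
theorem chain6 : transOK chainL6 0x149f 5 0xffeb60 = true := by decide +kernel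
theorem chain6_sq : allLt 24 (fun q => bimp (bit 0xffeb60 q)
  (allLt 24 fun i => Nat.beq (ap (ent chainL6 q) (ap (ent chainL6 q) i)) i)) = true := by decide +kernel
theorem chainD_ok : allLt 48 (fun j => band (goodP (ent chainD j)) (fixes (ent chainD j) 31)) = true := by
  decide +kernel
theorem chainD_cover : all2 64 64 (fun a => bimp (Nat.beq (Nat.land a 31) 31) (bimp (Nat.beq (pc (cw a)) 12)
    (anyLt 48 fun j => Nat.beq (pm (ent chainD j) 0x5335f) (cw a)))) = true := by decide +kernel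

theorem card_eq_mul_stab {G α : Type*} [Group G] [MulAction G α] (H : Subgroup G) (p : α)
    (S : Set α) (h : ∀ g ∈ H, g • p ∈ S) (h' : ∀ q ∈ S, ∃ g ∈ H, g • p = q) :
    Nat.card H = S.ncard * Nat.card ↥(H ⊓ MulAction.stabilizer G p) := by
  have h1 : Nat.card ↥(H ⊓ MulAction.stabilizer G p) = Nat.card (MulAction.stabilizer H p) := by
    have : (MulAction.stabilizer H p).map H.subtype = H ⊓ MulAction.stabilizer G p := by
      ext g
      simp only [Subgroup.mem_map, MulAction.mem_stabilizer_iff, Subgroup.mem_inf]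
      constructor
      · rintro ⟨x, hx, rfl⟩; exact ⟨x.2, hx⟩
      · rintro ⟨h1, h2⟩; exact ⟨⟨g, h1⟩, h2, rfl⟩
    rw [← this, Subgroup.card_map_of_injective H.subtype_injective]
  rw [h1, ← (MulAction.stabilizer H p).index_mul_card, MulAction.index_stabilizer]
  congr 2
  ext q
  constructor
  · rintro ⟨g, rfl⟩; exact h g g.2
  · intro hq
    obtain ⟨g, hg, rfl⟩ := h' q hq
    exact ⟨⟨g, hg⟩, rfl⟩

theorem card_stab_mul {G α : Type*} [Group G] [MulAction G α] (p : α)
    (S : Set α) (h : ∀ g : G, g • p ∈ S) (h' : ∀ q ∈ S, ∃ g : G, g • p = q) :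
    Nat.card G = S.ncard * Nat.card (MulAction.stabilizer G p) := by
  have := card_eq_mul_stab (⊤ : Subgroup G) p S (fun g _ => h g)
    (fun q hq => by obtain ⟨g, hg⟩ := h' q hq; exact ⟨g, trivial, hg⟩)
  rwa [Subgroup.card_top, top_inf_eq] at this

/-- one step of extending a partial map. -/
theorem extend_step {F p S : ℕ} (_hp : p < 24)
    (h : ∀ q ∈ toSet S, ∃ σ ∈ M24, (∀ x ∈ toSet F, σ x = x) ∧ σ (pt p) = q)
    {g : Equiv.Perm GolayPt} (hg : g ∈ M24) {y : GolayPt} (hy : g⁻¹ y ∈ toSet S) :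
    ∃ g' ∈ M24, (∀ x ∈ toSet F, g' x = g x) ∧ g' (pt p) = y := by
  obtain ⟨σ, hσ, h1, h2⟩ := h _ hy
  exact ⟨g * σ, mul_mem hg hσ, fun x hx => by rw [Equiv.Perm.mul_apply, h1 x hx],
    by rw [Equiv.Perm.mul_apply, h2]; simp⟩

theorem inv_ne_of {g : Equiv.Perm GolayPt} {x y z : GolayPt} (h : g x = y) (hne : z ≠ y) :
    g⁻¹ z ≠ x := fun e => hne (by rw [← h, ← e]; simp)

set_option synthInstance.maxSize 1000 in
theorem exists_map5' {a b c d e : GolayPt} (hab : b ≠ a) (hac : c ≠ a) (hbc : c ≠ b) (had : d ≠ a)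
    (hbd : d ≠ b) (hcd : d ≠ c) (hae : e ≠ a) (hbe : e ≠ b) (hce : e ≠ c) (hde : e ≠ d) :
    ∃ g ∈ M24, g (pt 0) = a ∧ g (pt 1) = b ∧ g (pt 2) = c ∧ g (pt 3) = d ∧ g (pt 4) = e := by
  obtain ⟨g0, hg0, -, h0⟩ := trans_spec chain0 (by norm_num) a (by rw [toSet_ones]; exact mem_univ _)
  obtain ⟨g1, hg1, f1, h1⟩ := extend_step (by norm_num) (trans_spec chain1 (by norm_num)) hg0 (y := b) (by
    have := inv_ne_of h0 hab
    revert this; generalize g0⁻¹ b = q; revert q; decide +kernel)
  replace h0 := (f1 (pt 0) (by decide +kernel)).trans h0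
  obtain ⟨g2, hg2, f2, h2⟩ := extend_step (by norm_num) (trans_spec chain2 (by norm_num)) hg1 (y := c) (by
    have i0 := inv_ne_of h0 hac
    have i1 := inv_ne_of h1 hbc
    revert i0 i1; generalize g1⁻¹ c = q; revert q; decide +kernel)
  replace h0 := (f2 (pt 0) (by decide +kernel)).trans h0
  replace h1 := (f2 (pt 1) (by decide +kernel)).trans h1
  obtain ⟨g3, hg3, f3, h3⟩ := extend_step (by norm_num) (trans_spec chain3 (by norm_num)) hg2 (y := d) (by
    have i0 := inv_ne_of h0 had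
    have i1 := inv_ne_of h1 hbd
    have i2 := inv_ne_of h2 hcd
    revert i0 i1 i2; generalize g2⁻¹ d = q; revert q; decide +kernel)
  replace h0 := (f3 (pt 0) (by decide +kernel)).trans h0
  replace h1 := (f3 (pt 1) (by decide +kernel)).trans h1
  replace h2 := (f3 (pt 2) (by decide +kernel)).trans h2
  obtain ⟨g4, hg4, f4, h4⟩ := extend_step (by norm_num) (trans_spec chain4 (by norm_num)) hg3 (y := e) (by
    have i0 := inv_ne_of h0 hae
    have i1 := inv_ne_of h1 hbe
    have i2 := inv_ne_of h2 hce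
    have i3 := inv_ne_of h3 hde
    revert i0 i1 i2 i3; generalize g3⁻¹ e = q; revert q; decide +kernel)
  exact ⟨g4, hg4, (f4 (pt 0) (by decide +kernel)).trans h0, (f4 (pt 1) (by decide +kernel)).trans h1,
    (f4 (pt 2) (by decide +kernel)).trans h2, (f4 (pt 3) (by decide +kernel)).trans h3, h4⟩

theorem exists_map5 (x : Fin 5 → GolayPt) (hx : Function.Injective x) :
    ∃ g ∈ M24, ∀ i : Fin 5, g (pt i) = x i := by
  obtain ⟨g, hg, h0, h1, h2, h3, h4⟩ := exists_map5' (a := x 0) (b := x 1) (c := x 2) (d := x 3) (e := x 4)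
    (hx.ne (by decide)) (hx.ne (by decide)) (hx.ne (by decide)) (hx.ne (by decide)) (hx.ne (by decide))
    (hx.ne (by decide)) (hx.ne (by decide)) (hx.ne (by decide)) (hx.ne (by decide)) (hx.ne (by decide))
  refine ⟨g, hg, fun i => ?_⟩
  fin_cases i <;> assumption

theorem M24_five_trans : MulAction.IsMultiplyPretransitive M24 GolayPt 5 := by
  refine ⟨fun x y => ?_⟩
  obtain ⟨g, hg, h⟩ := exists_map5 x x.injective
  obtain ⟨g', hg', h'⟩ := exists_map5 y y.injective
  refine ⟨⟨g' * g⁻¹, mul_mem hg' (inv_mem hg)⟩, ?_⟩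
  ext i : 1
  change (g' * g⁻¹) (x i) = y i
  rw [← h, ← h']; simp

theorem M24_map_inj {k : ℕ} (hk : k ≤ 5) (x y : Fin k → GolayPt) (hx : Function.Injective x)
    (hy : Function.Injective y) : ∃ g ∈ M24, ∀ i, g (x i) = y i := by
  have := M24_five_trans
  have h2 : MulAction.IsMultiplyPretransitive M24 GolayPt k :=
    MulAction.isMultiplyPretransitive_of_le hk (by rw [Nat.card_eq_fintype_card, card_pt]; norm_num)
  obtain ⟨g, hg⟩ := h2.exists_smul_eq ⟨x, hx⟩ ⟨y, hy⟩
  exact ⟨g, g.2, fun i => DFunLike.congr_fun hg i⟩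

/-- a bijection between two sets of at most five points is induced by `M24`. -/
theorem M24_map_finset {s : Finset GolayPt} (hs : s.card ≤ 5) (f : GolayPt → GolayPt)
    (hf : Set.InjOn f s) : ∃ g ∈ M24, ∀ x ∈ s, g x = f x := by
  let e := s.equivFin.symm
  obtain ⟨g, hg, h⟩ := M24_map_inj hs (fun i => (e i : GolayPt)) (fun i => f (e i))
    (fun i j h => e.injective (Subtype.ext h))
    (fun i j h => e.injective (Subtype.ext (hf (e i).2 (e j).2 h)))
  refine ⟨g, hg, fun x hx => ?_⟩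
  have := h (e.symm ⟨x, hx⟩)
  simpa using this

theorem exists_injOn_map {α : Type*} [DecidableEq α] {s t : Finset α} (h : s.card = t.card) :
    ∃ f : α → α, Set.InjOn f s ∧ s.image f = t := by
  let e : s ≃ t := s.equivFinOfCardEq h |>.trans t.equivFin.symm
  refine ⟨fun x => if hx : x ∈ s then (e ⟨x, hx⟩ : α) else x, ?_, ?_⟩
  · intro x hx y hy hxy
    simp only [mem_coe] at hx hy
    simp only [hx, hy, dif_pos] at hxy
    exact congrArg Subtype.val (e.injective (Subtype.ext hxy))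
  · ext y
    simp only [mem_image]
    constructor
    · rintro ⟨x, hx, rfl⟩; simp only [hx, dif_pos]; exact (e ⟨x, hx⟩).2
    · intro hy
      refine ⟨e.symm ⟨y, hy⟩, (e.symm ⟨y, hy⟩).2, ?_⟩
      simp

theorem M24_smul_eq {s t : Finset GolayPt} (hs : s.card ≤ 5) (h : s.card = t.card) :
    ∃ g ∈ M24, g • s = t := by
  obtain ⟨f, hf, hst⟩ := exists_injOn_map h
  obtain ⟨g, hg, h⟩ := M24_map_finset hs f hf
  refine ⟨g, hg, ?_⟩
  rw [← hst, smul_finset_def]
  exact image_congr fun x hx => h x hx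

theorem toSet31_card : (toSet 31).card = 5 := by decide +kernel

theorem smul_oct0_eq {g : Equiv.Perm GolayPt} (hg : g ∈ M24) {o : Finset GolayPt} (ho : o ∈ octads)
    (h : ∀ i : Fin 5, g (pt i) ∈ o) : g • toSet 0x149f = o := by
  apply octad_eq_of_five (smul_octad hg oct0_mem) ho
  rw [← toSet31_card, ← card_smul_finset g]
  apply card_le_card
  apply subset_inter
  · exact smul_finset_subset_smul_finset (by decide +kernel)
  · intro y hy
    obtain ⟨x, hx, rfl⟩ := mem_smul_finset.1 hy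
    have : ∀ x ∈ toSet 31, ∃ i : Fin 5, x = pt i := by decide +kernel
    obtain ⟨i, rfl⟩ := this x hx
    exact h i

set_option synthInstance.maxSize 1000 in
theorem exists_map7 {o : Finset GolayPt} (ho : o ∈ octads) (x : Fin 5 → GolayPt)
    (hx : Function.Injective x) (hxo : ∀ i, x i ∈ o) {y z : GolayPt} (hy : y ∈ o) (hxy : ∀ i, y ≠ x i)
    (hz : z ∉ o) : ∃ g ∈ M24, (∀ i : Fin 5, g (pt i) = x i) ∧ g (pt 7) = y ∧ g (pt 5) = z ∧
      g • toSet 0x149f = o := by
  obtain ⟨g, hg, h⟩ := exists_map5 x hx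
  have hgo := smul_oct0_eq hg ho (fun i => h i ▸ hxo i)
  obtain ⟨g5, hg5, f5, h5⟩ := extend_step (by norm_num) (trans_spec chain5 (by norm_num)) hg (y := y) (by
    have i0 : g⁻¹ y ≠ pt 0 := inv_ne_of (h 0) (hxy 0)
    have i1 : g⁻¹ y ≠ pt 1 := inv_ne_of (h 1) (hxy 1)
    have i2 : g⁻¹ y ≠ pt 2 := inv_ne_of (h 2) (hxy 2)
    have i3 : g⁻¹ y ≠ pt 3 := inv_ne_of (h 3) (hxy 3)
    have i4 : g⁻¹ y ≠ pt 4 := inv_ne_of (h 4) (hxy 4)
    have i5 : g⁻¹ y ∈ toSet 0x149f := by rw [← hgo] at hy; exact inv_smul_mem_iff.2 hy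
    revert i0 i1 i2 i3 i4 i5; generalize g⁻¹ y = q; revert q; decide +kernel)
  have h' : ∀ i : Fin 5, g5 (pt i) = x i := fun i => (f5 _ (by revert i; decide +kernel)).trans (h i)
  have hgo5 := smul_oct0_eq hg5 ho (fun i => h' i ▸ hxo i)
  obtain ⟨g6, hg6, f6, h6⟩ := extend_step (by norm_num) (trans_spec chain6 (by norm_num)) hg5 (y := z) (by
    have i5 : g5⁻¹ z ∉ toSet 0x149f := by rw [← hgo5] at hz; exact fun h => hz (inv_smul_mem_iff.1 h)
    revert i5; generalize g5⁻¹ z = q; revert q; decide +kernel)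
  have h'' : ∀ i : Fin 5, g6 (pt i) = x i := fun i => (f6 _ (by revert i; decide +kernel)).trans (h' i)
  exact ⟨g6, hg6, h'', (f6 _ (by decide +kernel)).trans h5, h6,
    smul_oct0_eq hg6 ho (fun i => h'' i ▸ hxo i)⟩

theorem exists_inj_of_card {α : Type*} {s : Finset α} {k : ℕ} (h : k ≤ s.card) :
    ∃ x : Fin k → α, Function.Injective x ∧ ∀ i, x i ∈ s := by
  let e := s.equivFin.symm
  exact ⟨fun i => e (Fin.castLE h i), fun i j hij =>
    Fin.castLE_injective h (e.injective (Subtype.ext hij)), fun i => (e _).2⟩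

theorem exists_smul_oct0 {o : Finset GolayPt} (ho : o ∈ octads) : ∃ g ∈ M24, g • toSet 0x149f = o := by
  obtain ⟨x, hx, hxo⟩ := exists_inj_of_card (s := o) (k := 5) (by rw [ho.2]; norm_num)
  obtain ⟨g, hg, h⟩ := exists_map5 x hx
  exact ⟨g, hg, smul_oct0_eq hg ho (fun i => h i ▸ hxo i)⟩

theorem octad_trans {o o' : Finset GolayPt} (ho : o ∈ octads) (ho' : o' ∈ octads) :
    ∃ g ∈ M24, g • o = o' := by
  obtain ⟨g, hg, rfl⟩ := exists_smul_oct0 ho
  obtain ⟨g', hg', rfl⟩ := exists_smul_oct0 ho'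
  exact ⟨g' * g⁻¹, mul_mem hg' (inv_mem hg), by rw [mul_smul, inv_smul_smul]⟩

/-- transitivity on (octad, at most five points in it). -/
theorem octad_pt_trans {o o' s : Finset GolayPt} (ho : o ∈ octads) (ho' : o' ∈ octads) (hs : s ⊆ o)
    (h5 : s.card ≤ 5) (f : GolayPt → GolayPt) (hf : Set.InjOn f s) (hfo : ∀ x ∈ s, f x ∈ o') :
    ∃ g ∈ M24, g • o = o' ∧ ∀ x ∈ s, g x = f x := by
  obtain ⟨u, hsu, huo, hu⟩ := exists_subsuperset_card_eq hs h5 (by rw [ho.2]; norm_num)
  have hsub : s.image f ⊆ o' := fun y hy => by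
    obtain ⟨x, hx, rfl⟩ := mem_image.1 hy; exact hfo x hx
  obtain ⟨u', hsu', huo', hu'⟩ := exists_subsuperset_card_eq hsub (card_image_le.trans h5)
    (by rw [ho'.2]; norm_num)
  obtain ⟨f', hf', hst⟩ := exists_injOn_map (s := u \ s) (t := u' \ s.image f) (by
    rw [card_sdiff_of_subset hsu, card_sdiff_of_subset hsu', hu, hu', card_image_of_injOn hf])
  have hm : ∀ x ∈ u, x ∉ s → f' x ∈ u' \ s.image f := fun x hx hxs =>
    hst ▸ mem_image_of_mem _ (mem_sdiff.2 ⟨hx, hxs⟩)
  obtain ⟨g, hg, h⟩ := M24_map_finset hu.le (fun x => if x ∈ s then f x else f' x) (by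
    intro x hx y hy hxy
    by_cases h1 : x ∈ s <;> by_cases h2 : y ∈ s <;> simp only [h1, h2, if_true, if_false] at hxy
    · exact hf h1 h2 hxy
    · exact absurd (hxy ▸ mem_image_of_mem f h1) (mem_sdiff.1 (hm y hy h2)).2
    · exact absurd (hxy.symm ▸ mem_image_of_mem f h2) (mem_sdiff.1 (hm x hx h1)).2
    · exact hf' (mem_coe.2 (mem_sdiff.2 ⟨hx, h1⟩)) (mem_coe.2 (mem_sdiff.2 ⟨hy, h2⟩)) hxy)
  refine ⟨g, hg, ?_, fun x hx => by rw [h x (hsu hx), if_pos hx]⟩
  apply octad_eq_of_five (smul_octad hg ho) ho'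
  rw [← hu, ← card_smul_finset g]
  apply card_le_card
  apply subset_inter (smul_finset_subset_smul_finset huo)
  intro y hy
  obtain ⟨x, hx, rfl⟩ := mem_smul_finset.1 hy
  rw [Equiv.Perm.smul_def, h x hx]
  split_ifs with h1
  · exact hfo x h1
  · exact huo' (mem_sdiff.1 (hm x hx h1)).1

theorem octad_out_trans {o : Finset GolayPt} (ho : o ∈ octads) {p q : GolayPt} (hp : p ∉ o) (hq : q ∉ o) :
    ∃ g ∈ M24, (∀ x ∈ o, g x = x) ∧ g p = q := by
  obtain ⟨g, hg, rfl⟩ := exists_smul_oct0 ho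
  have key : ∀ r, r ∉ g • toSet 0x149f → g⁻¹ r ∈ toSet 0xffeb60 := by
    intro r hr
    have : g⁻¹ r ∉ toSet 0x149f := fun h => hr (inv_smul_mem_iff.1 h)
    revert this; generalize g⁻¹ r = q; revert q; decide +kernel
  obtain ⟨a, ha, a1, a2⟩ := trans_spec chain6 (by norm_num) _ (key p hp)
  obtain ⟨b, hb, b1, b2⟩ := trans_spec chain6 (by norm_num) _ (key q hq)
  refine ⟨g * b * a⁻¹ * g⁻¹, mul_mem (mul_mem (mul_mem hg hb) (inv_mem ha)) (inv_mem hg), ?_, ?_⟩
  · intro x hx
    have hx' : g⁻¹ x ∈ toSet 0x149f := inv_smul_mem_iff.2 hx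
    have : a⁻¹ (g⁻¹ x) = g⁻¹ x := by rw [Equiv.Perm.inv_eq_iff_eq, a1 _ hx']
    simp only [Equiv.Perm.mul_apply, this, b1 _ hx']; simp
  · have : a⁻¹ (g⁻¹ p) = pt 5 := by rw [Equiv.Perm.inv_eq_iff_eq, a2]
    simp only [Equiv.Perm.mul_apply, this, b2]; simp

theorem eq_one_of_fix_octad {g : Equiv.Perm GolayPt} (hg : g ∈ M24) {o s : Finset GolayPt}
    (ho : o ∈ octads) (hs : s ⊆ o) (h6 : 6 ≤ s.card) {p : GolayPt} (hp : p ∉ o)
    (h : ∀ x ∈ s, g x = x) (h' : g p = p) : g = 1 := by
  obtain ⟨x, hx, hxs⟩ := exists_inj_of_card h6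
  obtain ⟨k, hk, k1, k2, k3, -⟩ := exists_map7 ho (fun i => x i.castSucc)
    (hx.comp (Fin.castSucc_injective 5)) (fun i => hs (hxs _)) (hs (hxs 5))
    (fun i => hx.ne (Fin.castSucc_lt_last i).ne') hp
  have e : ∀ y, g (k y) = k y → (k⁻¹ * g * k) y = y := fun y hy => by
    simp only [Equiv.Perm.mul_apply, hy]; simp
  have := eq_one_of_fix7 (mul_mem (mul_mem (inv_mem hk) hg) hk)
    (e _ (by rw [show pt 0 = pt (0 : Fin 5) from rfl, k1]; exact h _ (hxs _)))
    (e _ (by rw [show pt 1 = pt (1 : Fin 5) from rfl, k1]; exact h _ (hxs _)))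
    (e _ (by rw [show pt 2 = pt (2 : Fin 5) from rfl, k1]; exact h _ (hxs _)))
    (e _ (by rw [show pt 3 = pt (3 : Fin 5) from rfl, k1]; exact h _ (hxs _)))
    (e _ (by rw [show pt 4 = pt (4 : Fin 5) from rfl, k1]; exact h _ (hxs _)))
    (e _ (by rw [k2]; exact h _ (hxs _))) (e _ (by rw [k3]; exact h'))
  calc g = k * (k⁻¹ * g * k) * k⁻¹ := by group
    _ = 1 := by rw [this]; group

theorem sq_eq_one_of_fix_octad {g : Equiv.Perm GolayPt} (hg : g ∈ M24) {o : Finset GolayPt}
    (ho : o ∈ octads) (h : ∀ x ∈ o, g x = x) : g * g = 1 := by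
  obtain ⟨k, hk, rfl⟩ := exists_smul_oct0 ho
  set g' := k⁻¹ * g * k with hg'
  have hm : g' ∈ M24 := mul_mem (mul_mem (inv_mem hk) hg) hk
  have hf : ∀ x ∈ toSet 0x149f, g' x = x := fun x hx => by
    have : g (k x) = k x := h _ (smul_mem_smul_finset hx)
    simp only [hg', Equiv.Perm.mul_apply, this]; simp
  have hq : g' (pt 5) ∈ toSet 0xffeb60 := by
    have : g' (pt 5) ∉ toSet 0x149f := fun h => by
      have := g'.injective (hf _ h)
      rw [this] at h; revert h; decide +kernel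
    revert this; generalize g' (pt 5) = q; revert q; decide +kernel
  have h1 := (allLt_iff _ _).1 chain6 _ (idx_lt (g' (pt 5)))
  have h2 := (allLt_iff _ _).1 chain6_sq _ (idx_lt (g' (pt 5)))
  rw [bimp_iff, bit_eq, ← mem_toSet] at h1 h2
  have h3 := h1 hq
  have h4 := (allLt_iff _ _).1 (h2 hq)
  rw [band_iff, band_iff, Nat.beq_eq] at h3
  obtain ⟨σ, hσ, hT⟩ := exists_of_goodP h3.1
  have e1 : σ⁻¹ * g' = 1 := by
    apply eq_one_of_fix_octad (mul_mem (inv_mem hσ) hm) oct0_mem Subset.rfl (by decide +kernel)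
      (p := pt 5) (by decide +kernel)
    · intro x hx
      rw [Equiv.Perm.mul_apply, hf x hx, Equiv.Perm.inv_eq_iff_eq, hT.fix h3.2.2 x hx]
    · rw [Equiv.Perm.mul_apply, Equiv.Perm.inv_eq_iff_eq, hT.apply_pt (by norm_num), h3.2.1, pt_idx]
  have e2 : σ * σ = 1 := by
    ext p : 1
    have := h4 _ (idx_lt p)
    rw [Nat.beq_eq] at this
    rw [← pt_idx p, Equiv.Perm.mul_apply, hT.apply_pt (idx_lt p), hT.apply_pt (hT.lt (idx_lt p)), this]
    rfl
  rw [inv_mul_eq_one] at e1
  calc g * g = k * (g' * g') * k⁻¹ := by rw [hg']; group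
    _ = 1 := by rw [← e1, e2]; group

theorem dodec0_mem : toSet 0x5335f ∈ dodecads :=
  ⟨toSet_mem_Code (by decide +kernel), by rw [card_toSet (by norm_num)]; decide +kernel⟩

theorem dodecad_map5 {d : Finset GolayPt} (hd : d ∈ dodecads) (x : Fin 5 → GolayPt)
    (hx : Function.Injective x) (hxd : ∀ i, x i ∈ d) :
    ∃ g ∈ M24, (∀ i : Fin 5, g (pt i) = x i) ∧ g • toSet 0x5335f = d := by
  obtain ⟨g, hg, h⟩ := exists_map5 x hx
  have hd' := smul_dodecad (inv_mem hg) hd
  obtain ⟨a, ha, e⟩ := mem_Code_iff.1 hd'.1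
  have h31 : toSet 31 ⊆ toSet (cw a) := by
    rw [← e]
    intro y hy
    have : ∀ x ∈ toSet 31, ∃ i : Fin 5, x = pt i := by decide +kernel
    obtain ⟨i, rfl⟩ := this y hy
    rw [← smul_mem_smul_finset_iff g, smul_inv_smul, Equiv.Perm.smul_def, h]; exact hxd i
  rw [toSet_subset_iff _ (by norm_num)] at h31
  have h2 := (all2_iff _ _ _).1 chainD_cover a ha
  rw [bimp_iff, bimp_iff, Nat.beq_eq, Nat.beq_eq, anyLt_iff] at h2
  obtain ⟨j, hj, h3⟩ := h2 (by
    rw [← cw_mod ha]
    change (cw a % 2 ^ 12) &&& 31 = 31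
    rw [← Nat.and_two_pow_sub_one_eq_mod, Nat.and_assoc, Nat.and_comm]; exact h31)
    (by rw [← card_toSet (cw_lt ha), ← e, hd'.2])
  have h4 := (allLt_iff _ _).1 chainD_ok j hj
  rw [band_iff] at h4
  obtain ⟨σ, hσ, hT⟩ := exists_of_goodP h4.1
  rw [Nat.beq_eq] at h3
  refine ⟨g * σ, mul_mem hg hσ, fun i => ?_, ?_⟩
  · rw [Equiv.Perm.mul_apply, hT.fix h4.2 _ (by revert i; decide +kernel), h]
  · rw [mul_smul, hT.smul_toSet, h3, ← e, smul_inv_smul]

theorem dodecad_five_trans {d d' : Finset GolayPt} (hd : d ∈ dodecads) (hd' : d' ∈ dodecads)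
    (x y : Fin 5 → GolayPt) (hx : Function.Injective x) (hy : Function.Injective y)
    (hxd : ∀ i, x i ∈ d) (hyd : ∀ i, y i ∈ d') :
    ∃ g ∈ M24, g • d = d' ∧ ∀ i, g (x i) = y i := by
  obtain ⟨g, hg, h, rfl⟩ := dodecad_map5 hd x hx hxd
  obtain ⟨g', hg', h', rfl⟩ := dodecad_map5 hd' y hy hyd
  refine ⟨g' * g⁻¹, mul_mem hg' (inv_mem hg), by rw [mul_smul, inv_smul_smul], fun i => ?_⟩
  rw [← h, ← h']; simp

theorem dodecad_trans {d d' : Finset GolayPt} (hd : d ∈ dodecads) (hd' : d' ∈ dodecads) :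
    ∃ g ∈ M24, g • d = d' := by
  obtain ⟨x, hx, hxo⟩ := exists_inj_of_card (s := d) (k := 5) (by rw [hd.2]; norm_num)
  obtain ⟨y, hy, hyo⟩ := exists_inj_of_card (s := d') (k := 5) (by rw [hd'.2]; norm_num)
  obtain ⟨g, hg, h, -⟩ := dodecad_five_trans hd hd' x y hx hy hxo hyo
  exact ⟨g, hg, h⟩

theorem exists_inj_head {α : Type*} [DecidableEq α] {s : Finset α} {k : ℕ} (h : k + 1 ≤ s.card) {p : α}
    (hp : p ∈ s) : ∃ x : Fin (k + 1) → α, Function.Injective x ∧ (∀ i, x i ∈ s) ∧ x 0 = p := by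
  obtain ⟨x, hx, hxs⟩ := exists_inj_of_card (s := s.erase p) (k := k) (by rw [card_erase_of_mem hp]; omega)
  refine ⟨Fin.cons p x, ?_, ?_, rfl⟩
  · rw [Fin.cons_injective_iff]
    exact ⟨by rintro ⟨i, hi⟩; exact (mem_erase.1 (hxs i)).1 hi, hx⟩
  · intro i
    refine Fin.cases ?_ (fun i => ?_) i
    · exact hp
    · exact mem_of_mem_erase (hxs i)

theorem dodecad_pt_trans {d d' : Finset GolayPt} (hd : d ∈ dodecads) (hd' : d' ∈ dodecads)
    {p q : GolayPt} (hp : p ∈ d) (hq : q ∈ d') : ∃ g ∈ M24, g • d = d' ∧ g p = q := by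
  obtain ⟨x, hx, hxo, rfl⟩ := exists_inj_head (s := d) (k := 4) (by rw [hd.2]; norm_num) hp
  obtain ⟨y, hy, hyo, rfl⟩ := exists_inj_head (s := d') (k := 4) (by rw [hd'.2]; norm_num) hq
  obtain ⟨g, hg, h, h'⟩ := dodecad_five_trans hd hd' x y hx hy hxo hyo
  exact ⟨g, hg, h, h' 0⟩

set_option synthInstance.maxSize 1000 in
theorem card_M24 : Nat.card M24 = 244823040 := by
  let st := fun i => MulAction.stabilizer (Equiv.Perm GolayPt) (pt i)
  have step : ∀ (H : Subgroup (Equiv.Perm GolayPt)) (i m n : ℕ),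
      (∀ q ∈ toSet m, ∃ g ∈ H, g (pt i) = q) → n ≤ Nat.card ↥(H ⊓ st i) → (toSet m).card * n ≤ Nat.card H := by
    intro H i m n h hn
    rw [card_eq_mul_stab H (pt i) (MulAction.orbit H (pt i)) (fun g hg => ⟨⟨g, hg⟩, rfl⟩)
      (by rintro _ ⟨g, rfl⟩; exact ⟨g, g.2, rfl⟩)]
    apply Nat.mul_le_mul _ hn
    rw [← Set.ncard_coe_finset]
    apply Set.ncard_le_ncard _ (Set.toFinite _)
    intro q hq
    obtain ⟨g, hg, rfl⟩ := h q hq
    exact ⟨⟨g, hg⟩, rfl⟩
  have c6 := step (M24 ⊓ st 0 ⊓ st 1 ⊓ st 2 ⊓ st 3 ⊓ st 4 ⊓ st 7) 5 0xffeb60 1 (fun q hq => by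
    obtain ⟨g, hg, f, h⟩ := trans_spec chain6 (by norm_num) q hq
    exact ⟨g, ⟨⟨⟨⟨⟨⟨hg, f _ (by decide +kernel)⟩, f _ (by decide +kernel)⟩, f _ (by decide +kernel)⟩,
      f _ (by decide +kernel)⟩, f _ (by decide +kernel)⟩, f _ (by decide +kernel)⟩, h⟩) Nat.card_pos
  have c5 := step (M24 ⊓ st 0 ⊓ st 1 ⊓ st 2 ⊓ st 3 ⊓ st 4) 7 0x1480 _ (fun q hq => by
    obtain ⟨g, hg, f, h⟩ := trans_spec chain5 (by norm_num) q hq
    exact ⟨g, ⟨⟨⟨⟨⟨hg, f _ (by decide +kernel)⟩, f _ (by decide +kernel)⟩, f _ (by decide +kernel)⟩,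
      f _ (by decide +kernel)⟩, f _ (by decide +kernel)⟩, h⟩) c6
  have c4 := step (M24 ⊓ st 0 ⊓ st 1 ⊓ st 2 ⊓ st 3) 4 0xfffff0 _ (fun q hq => by
    obtain ⟨g, hg, f, h⟩ := trans_spec chain4 (by norm_num) q hq
    exact ⟨g, ⟨⟨⟨⟨hg, f _ (by decide +kernel)⟩, f _ (by decide +kernel)⟩, f _ (by decide +kernel)⟩,
      f _ (by decide +kernel)⟩, h⟩) c5
  have c3 := step (M24 ⊓ st 0 ⊓ st 1 ⊓ st 2) 3 0xfffff8 _ (fun q hq => by
    obtain ⟨g, hg, f, h⟩ := trans_spec chain3 (by norm_num) q hq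
    exact ⟨g, ⟨⟨⟨hg, f _ (by decide +kernel)⟩, f _ (by decide +kernel)⟩, f _ (by decide +kernel)⟩, h⟩) c4
  have c2 := step (M24 ⊓ st 0 ⊓ st 1) 2 0xfffffc _ (fun q hq => by
    obtain ⟨g, hg, f, h⟩ := trans_spec chain2 (by norm_num) q hq
    exact ⟨g, ⟨⟨hg, f _ (by decide +kernel)⟩, f _ (by decide +kernel)⟩, h⟩) c3
  have c1 := step (M24 ⊓ st 0) 1 0xfffffe _ (fun q hq => by
    obtain ⟨g, hg, f, h⟩ := trans_spec chain1 (by norm_num) q hq
    exact ⟨g, ⟨hg, f _ (by decide +kernel)⟩, h⟩) c2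
  have c0 := step M24 0 0xffffff _ (fun q hq => by
    obtain ⟨g, hg, f, h⟩ := trans_spec chain0 (by norm_num) q hq
    exact ⟨g, hg, h⟩) c1
  refine le_antisymm card_M24_le (le_trans (le_of_eq ?_) c0)
  decide +kernel

end H14
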