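import Mathlib
import Cfsg.Prelude.Def_Spor_Mathieu
import Cfsg.Agent.H14.PK2
import Cfsg.Agent.H14.M24Stab

/-!
Tables for the Mathieu groups: `H14.SP` (all permutations of the 24 points), `S24` (`M24`), checks `okP`, `ok24`, `okS` with
`in_perm`, `in_M24`, `in24`, `okS_spec`, `in_M23/22/12/11`; `toSS` (sets of sets); orders `card_M23/22/12/11`; `full24`, `base24`.
-/

namespace H14

open Finset Cfsg MulAction PK PK.TS
open scoped Pointwise

theorem exists_SP : ∃ S : TS (Equiv.Perm GolayPt) 5 24, ∀ g, ∀ i < 24, g • pt i = pt (S.ap g i) :=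
  exists_act pt (by norm_num) (by norm_num) (fun _ hi _ hj => pt_inj hi hj) (fun g i _ => ⟨_, idx_lt _, (pt_idx _).symm⟩)
    fun _ h => Equiv.ext (forall_pt.2 h)

/-- tables of the permutations of the 24 points -/
noncomputable def SP : TS (Equiv.Perm GolayPt) 5 24 := exists_SP.choose

/-- tables of the elements of `M24` -/
noncomputable abbrev S24 : TS M24 5 24 := SP.sub M24

theorem ap_eq_get (T i : ℕ) : ap T i = H13.get 5 T i := rfl

theorem SP_pt (g : Equiv.Perm GolayPt) {i : ℕ} (hi : i < 24) : g (pt i) = pt (SP.ap g i) := exists_SP.choose_spec g i hi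

theorem SP_tab (g : Equiv.Perm GolayPt) : Tab g (SP.tb g) := fun i hi => by
  rw [SP_pt g hi, idx_pt (SP.ap_lt g hi)]; rfl

theorem Tab.tb_eq {g : Equiv.Perm GolayPt} {T : ℕ} (h : Tab g T) (hT : T < 2 ^ 120) : SP.tb g = T :=
  SP.tb_eq hT fun i hi => (SP_tab g i hi).symm.trans (h i hi)

theorem SP_smul (g : Equiv.Perm GolayPt) (m : ℕ) : g • toSet m = toSet (pm (SP.tb g) m) := (SP_tab g).smul_toSet m

theorem SP_fix {g : Equiv.Perm GolayPt} {i : ℕ} (hi : i < 24) : g (pt i) = pt i ↔ SP.ap g i = i := by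
  rw [SP_pt g hi]; exact ⟨pt_inj (SP.ap_lt g hi) hi, congrArg _⟩

/-- the table of a permutation -/
noncomputable def okP (T : ℕ) : Bool := band (Nat.blt T (2 ^ 120)) (H13.force (ti 5 24 T) (isInv T))

theorem in_perm {T : ℕ} (h : okP T = true) : SP.In ⊤ T := by
  simp only [okP, band_iff, Nat.blt_eq, H13.force_eq] at h
  exact ⟨_, trivial, (mkPerm_tab _ _ h.2).tb_eq h.1⟩

/-- the table of an element of `M24` -/
noncomputable def ok24 (T : ℕ) : Bool := band (okP T) (inM24 T)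

theorem in_M24 {T : ℕ} (h : ok24 T = true) : SP.In M24 T := by
  obtain ⟨g, -, rfl⟩ := in_perm ((band_iff _ _).1 h).1
  exact ⟨g, (SP_tab g).mem_M24 ((band_iff _ _).1 h).2, rfl⟩

theorem in24 {T : ℕ} (h : ok24 T = true) : S24.In ⊤ T := (in_M24 h).sub

variable {K : Subgroup M24} {T : ℕ}

theorem el24_pt (h : S24.In K T) {i : ℕ} (hi : i < 24) : (S24.el T : Equiv.Perm GolayPt) (pt i) = pt (ap T i) := by
  rw [SP_pt _ hi]; exact congrArg _ (h.ap_el i)

theorem el24_smul (h : S24.In K T) (m : ℕ) : S24.el T • toSet m = toSet (pm T m) :=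
  (SP_smul _ m).trans (congrArg (fun t => toSet (pm t m)) h.tb_el)

/-- a set of sets -/
def toSS (L : List ℕ) : Finset (Finset GolayPt) := (L.map toSet).toFinset

theorem mem_toSS {L : List ℕ} {s : Finset GolayPt} : s ∈ toSS L ↔ ∃ m ∈ L, toSet m = s := by simp [toSS]

/-- the table maps the sets `L` into `L'` -/
noncomputable def mapSS (T : ℕ) (L L' : List ℕ) : Bool := H13.allL (fun m => H13.force (pm T m) fun x => memL x L') L

theorem smul_toSS_sub (g : Equiv.Perm GolayPt) {L L' : List ℕ} (h : mapSS (SP.tb g) L L' = true) : g • toSS L ⊆ toSS L' := by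
  intro s hs
  obtain ⟨t, ht, rfl⟩ := mem_smul_finset.1 hs
  obtain ⟨m, hm, rfl⟩ := mem_toSS.1 ht
  exact mem_toSS.2 ⟨_, memL_iff.1 (H13.allL_iff.1 h m hm), (SP_smul g m).symm⟩

theorem smul_toSS (g : Equiv.Perm GolayPt) {L : List ℕ} (h : mapSS (SP.tb g) L L = true) : g • toSS L = toSS L :=
  eq_of_subset_of_card_le (smul_toSS_sub g h) (card_smul_finset _ _).ge

/-- an element of `M24` that fixes the points `bs`, the sets `ms` and the sets of sets `ss` -/
noncomputable def okS (bs ms : List ℕ) (ss : List (List ℕ)) (T : ℕ) : Bool :=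
  band (ok24 T) (band (H13.allL (fun b => band (Nat.blt b 24) (Nat.beq (ap T b) b)) bs)
    (band (H13.allL (fun m => Nat.beq (pm T m) m) ms) (H13.allL (fun L => mapSS T L L) ss)))

theorem okS_spec {bs ms : List ℕ} {ss : List (List ℕ)} (h : okS bs ms ss T = true) : ∃ g : M24, S24.tb g = T ∧
    (∀ b ∈ bs, g • pt b = pt b) ∧ (∀ m ∈ ms, g • toSet m = toSet m) ∧ ∀ L ∈ ss, g • toSS L = toSS L := by
  simp only [okS, band_iff, H13.allL_iff, Nat.beq_eq, Nat.blt_eq] at h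
  obtain ⟨g, -, rfl⟩ := in24 h.1
  exact ⟨g, rfl, fun b hb => (SP_fix (h.2.1 b hb).1).2 (h.2.1 b hb).2,
    fun m hm => (SP_smul _ m).trans (congrArg _ (h.2.2.1 m hm)), fun L hL => smul_toSS _ (h.2.2.2 L hL)⟩

theorem sqD_eq : Spor.squareDodecad = toSet 0x5335f := support_qrWord 0

theorem in_M23 (h : okS [23] [] [] T = true) : SP.In Spor.M23 T := by
  obtain ⟨g, a, b, -⟩ := okS_spec h
  exact ⟨g, ⟨g.2, b 23 (by simp)⟩, a⟩

theorem in_M22 (h : okS [23, 0] [] [] T = true) : SP.In Spor.M22 T := by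
  obtain ⟨g, a, b, -⟩ := okS_spec h
  exact ⟨g, ⟨⟨g.2, b 23 (by simp)⟩, b 0 (by simp)⟩, a⟩

theorem in_M12 (h : okS [] [0x5335f] [] T = true) : SP.In Spor.M12 T := by
  obtain ⟨g, a, -, b, -⟩ := okS_spec h
  exact ⟨g, ⟨g.2, sqD_eq ▸ b _ (by simp)⟩, a⟩

theorem in_M11 (h : okS [0] [0x5335f] [] T = true) : SP.In Spor.M11 T := by
  obtain ⟨g, a, c, b, -⟩ := okS_spec h
  exact ⟨g, ⟨⟨g.2, sqD_eq ▸ b _ (by simp)⟩, c 0 (by simp)⟩, a⟩

/-- a subgroup of `M24` as a group of permutations -/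
noncomputable def eqvM {H : Subgroup (Equiv.Perm GolayPt)} {K : Subgroup M24} (h : ∀ g, g ∈ H ↔ ∃ hg : g ∈ M24, ⟨g, hg⟩ ∈ K) :
    K ≃* H :=
  (K.equivMapOfInjective _ M24.subtype_injective).trans (MulEquiv.subgroupCongr (Subgroup.ext fun g => by
    rw [h]; exact ⟨fun ⟨x, a, b⟩ => b ▸ ⟨x.2, a⟩, fun ⟨a, b⟩ => ⟨_, b, rfl⟩⟩))

/-- `M23` as a stabiliser in `M24` -/
noncomputable def eqv23 : stabilizer M24 (none : GolayPt) ≃* Spor.M23 := eqvM fun _ => ⟨fun h => ⟨h.1, h.2⟩, fun ⟨a, b⟩ => ⟨a, b⟩⟩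

/-- `M22` as a stabiliser in `M24` -/
noncomputable def eqv22 : ↥(stabilizer M24 (none : GolayPt) ⊓ stabilizer M24 (some 0 : GolayPt)) ≃* Spor.M22 :=
  eqvM fun _ => ⟨fun h => ⟨h.1.1, h.1.2, h.2⟩, fun ⟨a, b, c⟩ => ⟨⟨a, b⟩, c⟩⟩

/-- `M12` as a stabiliser in `M24` -/
noncomputable def eqv12 : stabilizer M24 Spor.squareDodecad ≃* Spor.M12 := eqvM fun _ => ⟨fun h => ⟨h.1, h.2⟩, fun ⟨a, b⟩ => ⟨a, b⟩⟩

/-- `M11` as a stabiliser in `M24` -/
noncomputable def eqv11 : ↥(stabilizer M24 Spor.squareDodecad ⊓ stabilizer M24 (some 0 : GolayPt)) ≃* Spor.M11 :=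
  eqvM fun _ => ⟨fun h => ⟨h.1.1, h.1.2, h.2⟩, fun ⟨a, b, c⟩ => ⟨⟨a, b⟩, c⟩⟩

theorem sqD_mem : Spor.squareDodecad ∈ dodecads := sqD_eq ▸ dodec0_mem

theorem zero_mem_sqD : (some 0 : GolayPt) ∈ Spor.squareDodecad := by rw [sqD_eq]; decide

theorem card_M23 : Nat.card Spor.M23 = 10200960 := (Nat.card_congr eqv23.toEquiv).symm.trans (card_stab_pt _)

theorem card_M22 : Nat.card Spor.M22 = 443520 := (Nat.card_congr eqv22.toEquiv).symm.trans (card_stab_pt2 (by simp))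

theorem card_M12 : Nat.card Spor.M12 = 95040 := (Nat.card_congr eqv12.toEquiv).symm.trans (card_stab_dodecad sqD_mem)

theorem card_M11 : Nat.card Spor.M11 = 7920 :=
  (Nat.card_congr eqv11.toEquiv).symm.trans (card_stab_dodecad_pt sqD_mem zero_mem_sqD)

theorem fullP {H : Subgroup (Equiv.Perm GolayPt)} {N : ℕ} (hH : Nat.card H = N) {p : ℕ → Bool} (hp : ∀ {T}, p T = true → SP.In H T)
    {ch : Ch} (e : band (H13.band (chOk 5 24 ch []) (Nat.beq N (chN ch))) (allCh p ch) = true) : SP.Full H ch :=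
  full_of hH ((band_iff _ _).1 e).1 fun l hl t ht => hp (allCh_iff.1 ((band_iff _ _).1 e).2 l hl t ht)

theorem full24K {N : ℕ} (hH : Nat.card K = N) {p : ℕ → Bool} (hp : ∀ {T}, p T = true → S24.In K T)
    {ch : Ch} (e : band (H13.band (chOk 5 24 ch []) (Nat.beq N (chN ch))) (allCh p ch) = true) : S24.Full K ch :=
  full_of hH ((band_iff _ _).1 e).1 fun l hl t ht => hp (allCh_iff.1 ((band_iff _ _).1 e).2 l hl t ht)

theorem full24_of {ch : Ch} (e : band (H13.band (chOk 5 24 ch []) (Nat.beq 244823040 (chN ch))) (allCh ok24 ch) = true) :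
    S24.Full ⊤ ch := (fullP card_M24 in_M24 e).sub

/-- a complete chain for `M24` -/
def ch24 : Ch := [(0, [nat_lit 0xbdab49ca307b9ac5a928398a418820, nat_lit 0xb82d5a4e5183dcd62d4941cc520c41, nat_lit 0xb8416ad2728c1ee6b16a4a0e629062, nat_lit 0xb8820b56939460f7358b5250731483, nat_lit 0xb8c4105ab49ca307b9ac5a928398a4, nat_lit 0xb9062082d5a4e5183dcd62d4941cc5, nat_lit 0xb948310416ad2728c1ee6b16a4a0e6, nat_lit 0xb98a418820b56939460f7358b52507, nat_lit 0xb9cc520c4105ab49ca307b9ac5a928, nat_lit 0xba0e629062082d5a4e5183dcd62d49, nat_lit 0xba5073148310416ad2728c1ee6b16a, nat_lit 0xba928398a418820b56939460f7358b, nat_lit 0xbad4941cc520c4105ab49ca307b9ac, nat_lit 0xbb16a4a0e629062082d5a4e5183dcd, nat_lit 0xbb58b525073148310416ad2728c1ee, nat_lit 0xbb9ac5a928398a418820b56939460f, nat_lit 0xbbdcd62d4941cc520c4105ab49ca30, nat_lit 0xbc1ee6b16a4a0e629062082d5a4e51, nat_lit 0xbc60f7358b525073148310416ad272, nat_lit 0xbca307b9ac5a928398a418820b5693,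 nat_lit 0xbce5183dcd62d4941cc520c4105ab4, nat_lit 0xbd2728c1ee6b16a4a0e629062082d5, nat_lit 0xbd6939460f7358b525073148310416, nat_lit 0x5883388a1c8f5140b46cd317aed7]),
  (1, [nat_lit 0xbdab49ca307b9ac5a928398a418820, nat_lit 0xbace589acc7cd0d75609a11411c840, nat_lit 0x63e9182495996ca5a0ee30a416dc60, nat_lit 0xbc54770a697ad90b150daca8618480, nat_lit 0x59eca721347dc4688e53231b0a84a0, nat_lit 0xbccb5585c87da098d1ac508f2190c0, nat_lit 0x8aa74b31b57dc8270c2b92608298e0, nat_lit 0x8526d792d171aab4c8aa10cf760500, nat_lit 0x6162878576990ee8195590e9768920, nat_lit 0x751759a6057de44b0cd10b50c38940, nat_lit 0x54d31711e6a04f6aa04dbb25028d60, nat_lit 0x455707ca6eb08b1684f420d5749980, nat_lit 0x74d0bb2af17d0a685644188293b1a0, nat_lit 0xac616985e428a8b3a648bb4cc50dc0, nat_lit 0x915d058a69306844586a656e78b5e0, nat_lit 0x6aac9789cb88693612a730cb744a00, nat_lit 0xa2daeb49e2a99532b090ba42838e20, nat_lit 0xbba8ab116d7c52899d90286a219a40,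 nat_lit 0x3d98b889e1548aea40c9ba08da8e60, nat_lit 0x741e5b5eb310d6d3c941324888b280, nat_lit 0xb21e79dcab20e30506861364c726a0, nat_lit 0x398aa988905a50f75e321b68ca86c0, nat_lit 0x62cd2209ea9c1d62d2a7885036a6e0]),
  (2, [nat_lit 0xbdab49ca307b9ac5a928398a418820, nat_lit 0x9d14c488b7934887b8d0ac6cb38c20, nat_lit 0x3aeacb4cb21ddae80951a25e641020, nat_lit 0x126c7535d25de666428faa22419420, nat_lit 0xa42ae5d9f341db7910456286989820, nat_lit 0x88c566ca74bc1e5aa96c4a08671c20, nat_lit 0xb5050a8eed625f1918e42a9cb9a020, nat_lit 0x64ab782c768d1a79988f7090a2a420, nat_lit 0x74ea79410b2b1b4b24c3b92227a820, nat_lit 0x2c851a55c39d9e96a0d781d8a22c20, nat_lit 0x338a87d2333dc6aada0b688924b020, nat_lit 0x78ae78b90552d891c2a49cac6a3420, nat_lit 0x88d30a32c59984a410ef92db7ab820, nat_lit 0x95d36a958d39223589ca41a9383c20, nat_lit 0xa206d72e55492253ccc2559f764020, nat_lit 0x5b092aa0ed728659a68678af0b4420, nat_lit 0x6d4aa73c94498779b2d1440e25c820,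 nat_lit 0x2386a5d4477962d41acca5e504cc20, nat_lit 0x19496b9e48809267a9d15cdacad020, nat_lit 0x4baef28e8241d938c8ca5b490b5420, nat_lit 0x6d4643a12e12a345de0f2cd8695820, nat_lit 0x51c65439eb65224ac2726993615c20]),
  (3, [nat_lit 0xbdab49ca307b9ac5a928398a418820, nat_lit 0x732cd7dcd55a2051cd5191e8920820, nat_lit 0x69e72711f11b1368569752cc828820, nat_lit 0x6d211b29834be5371d0bb90b530820, nat_lit 0x8b24f339b3aa6c51ac978291438820, nat_lit 0x9dd312b475b40ee5d18a249e640820, nat_lit 0x959b1a226f514ec5c0d7a8c8e48820, nat_lit 0xbb2066c5eb9d2451d4eeb112850820, nat_lit 0xb9d4e7b6558a27680ca44d18658820, nat_lit 0x9a5ed41a325d8a7aa9d71c28460820, nat_lit 0x9116e42a8938e6683ed165ea568820, nat_lit 0x6dcef4c95062ed4198b54466470820, nat_lit 0x919379d0f0439556ad83216d178820, nat_lit 0xba4688cdaa911e7aad862bad480820, nat_lit 0x6d0b77b9352206a9c2cb330f288820, nat_lit 0x8a074754c7b29a45cd8f2de0990820, nat_lit 0x890f769acb752b090caa4258f98820,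 nat_lit 0x9bab238ecb2c5af42490b998aa0820, nat_lit 0xb956493e6369a29542d4620eea8820, nat_lit 0x75069bade481cca9d58d2c648b0820, nat_lit 0x3448d458f264e091bcaba3aaab8820]),
  (4, [nat_lit 0xbdab49ca307b9ac5a928398a418820, nat_lit 0x81d26ada7493d772454d7310518820, nat_lit 0x438ea6b274ac08bbd8b24c5e618820, nat_lit 0x74a685c2f6345eca9289534a718820, nat_lit 0xa394c49ea6b48902ce2b7dda818820, nat_lit 0x831b2bd10e8ceab39945b11e918820, nat_lit 0x7deb25b509b428c29dc62466a18820, nat_lit 0x64a708bd5771d066a6a5b508b18820, nat_lit 0x9222e3168bb56e499de9541ac18820, nat_lit 0x5a9f08a0ce2da72650f7a912d18820, nat_lit 0x9ae926550a23db7315278da0e18820, nat_lit 0xa90d6ba5b12c9706214e99e8f18820, nat_lit 0x4d547b90ce8ad93921a57d2d018820, nat_lit 0x9413622daa3d0d7439ec2ceb118820, nat_lit 0x45cd62260c53d6d8d4a7a3a7218820, nat_lit 0x650ae35c964aa28942ab7b4f318820, nat_lit 0x29ec941a309dd6d6488faa9d418820, nat_lit 0x39a2e414937b2f45cad06a55518820,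 nat_lit 0x522eea449569ca682e724bd9618820, nat_lit 0x5c9f32412c51905a39a78d6d718820]),
  (7, [nat_lit 0xbdab49ca307b9ac5a928398a418820, nat_lit 0x8bcd6925d5a5d674326d540a418820, nat_lit 0x7520f4cee6b450a69e4b654a418820]),
  (5, [nat_lit 0xbdab49ca307b9ac5a928398a418820, nat_lit 0x5c613a22d56a5ecba9d2394c418820, nat_lit 0x7d6c971a11bcd6c6aa853c90418820, nat_lit 0xb5de894d6da9a0c8a8b43b92418820, nat_lit 0x33a70abd349590c2aa2d3dd6418820, nat_lit 0x94dd1b5e89354ac42a0b3bda418820, nat_lit 0x8adb2452ef816acb28d33a5c418820, nat_lit 0x451368ae6e2c0cc92ab73b5e418820, nat_lit 0x9c8cbbd90573d2ca29b13d60418820, nat_lit 0x71a4d7d4a89de8c4a9703da2418820, nat_lit 0x6c22e496b65d2ec7aa663a24418820, nat_lit 0x835662a5f78a2ccaaa4e3d26418820, nat_lit 0xabee5339abb4a2c829093ce8418820, nat_lit 0xa20b75c6464b5cc9a9f63c2a418820, nat_lit 0x4950f6c0d2a2e6c72af53c6c418820, nat_lit 0x2a695835d34464c32acf3aee418820])]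

theorem full24 : S24.Full ⊤ ch24 := full24_of (by decide +kernel)

theorem base24 : S24.Base [0, 1, 2, 3, 4, 7, 5] := full24.base

theorem baseM {H : Subgroup (Equiv.Perm GolayPt)} (h : H ≤ M24) : (SP.sub H).Base [0, 1, 2, 3, 4, 7, 5] :=
  ⟨base24.1, fun g e => Subtype.ext (congrArg (fun x : M24 => x.1) (base24.2 ⟨g, h g.2⟩ e))⟩

end H14
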