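import Mathlib
import Cfsg.Agent.H13.Orbs
import Cfsg.Agent.H14.P24
import Cfsg.Agent.H14.Sharp

/-!
Simplicity of the Mathieu groups: `H14.simple_M24`, `simple_stab_pt`, `simple_stab_pt2`, `simple_stab_dodecad`,
`simple_stab_dodecad_pt`, `simple_M23/22/12/11`; the action `dodAct` on a dodecad and `sharp_dod`; `stabStab`.
-/

namespace H14

open Cfsg MulAction SubMulAction PK PK.TS
open scoped Pointwise

/-- the stabiliser of a point in a subgroup -/
noncomputable def stabStab {G α β : Type*} [Group G] [MulAction G α] {K : Subgroup G} [MulAction K β] {b : β} {a : α}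
    (h : ∀ g : K, g • b = b ↔ (g : G) • a = a) : stabilizer K b ≃* ↥(K ⊓ stabilizer G a) where
  toFun g := ⟨g.1.1, g.1.2, (h _).1 g.2⟩
  invFun g := ⟨⟨g.1, g.2.1⟩, (h _).2 g.2.2⟩
  left_inv _ := rfl
  right_inv _ := rfl
  map_mul' _ _ := rfl

theorem M24_mt {k : ℕ} (hk : k ≤ 5) : IsMultiplyPretransitive M24 GolayPt k := H18.mt_le M24_five_trans hk (by decide)

instance : IsPretransitive M24 GolayPt := is_one_pretransitive_iff.1 (M24_mt (by norm_num))

theorem faithful_ofStab {G α : Type*} [Group G] [MulAction G α] [FaithfulSMul G α] (a : α) :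
    FaithfulSMul (stabilizer G a) (ofStabilizer G a) :=
  ⟨fun {g g'} e => Subtype.ext (FaithfulSMul.eq_of_smul_eq_smul (α := α) fun x => by
    by_cases h : x = a
    · rw [h, g.2, g'.2]
    · exact congrArg Subtype.val (e ⟨x, h⟩))⟩

theorem simple_stab_pt (p : GolayPt) : IsSimpleGroup (stabilizer M24 p) := by
  classical
  have := faithful_ofStab (G := M24) p
  have : IsPretransitive (stabilizer M24 p) (ofStabilizer M24 p) :=
    is_one_pretransitive_iff.1 (ofStabilizer.isMultiplyPretransitive.1 (M24_mt (by norm_num)))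
  have := Sharp.card_ofStab (G := M24) p
  rw [card_pt] at this
  exact chapman (α := ofStabilizer M24 p) (p := 23) (m := 443520) (by norm_num) (by omega) (card_stab_pt p) (by norm_num)
    (by norm_num)

theorem simple_M24 : IsSimpleGroup M24 :=
  have := simple_stab_pt none
  simple_of_stab (M24_mt (by norm_num)) none Nat.prime_two Nat.prime_three (by norm_num) (by simp) (by simp)

/-- the action on a dodecad -/
def dodAct (d : Finset GolayPt) : SubMulAction (stabilizer M24 d) GolayPt :=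
  ⟨d, fun g _ hx => (mem_iff_of_smul_eq (g := ((g : M24) : Equiv.Perm GolayPt)) g.2 _).2 hx⟩

instance (d : Finset GolayPt) : Fintype (dodAct d) := inferInstanceAs (Fintype d)

theorem card_dodAct (d : Finset GolayPt) : Fintype.card (dodAct d) = d.card := Fintype.card_coe d

theorem sharp_dod {d : Finset GolayPt} (hd : d ∈ dodecads) : Sharp (stabilizer M24 d) (dodAct d) 5 := by
  refine ⟨H18.mt_iff.2 fun x y hx hy => ?_, H18.sharp_iff.2 fun g x hx h => Subtype.ext (Subtype.ext ?_)⟩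
  · obtain ⟨g, hg, a, b⟩ := dodecad_five_trans hd hd (fun i => (x i : GolayPt)) (fun i => (y i : GolayPt))
      (Subtype.val_injective.comp hx) (Subtype.val_injective.comp hy) (fun i => (x i).2) fun i => (y i).2
    exact ⟨⟨⟨g, hg⟩, a⟩, fun i => Subtype.ext (b i)⟩
  · exact eq_one_of_fix_dodecad5 g.1.2 hd g.2 ⟨_, Subtype.val_injective.comp hx⟩ (fun i => (x i).2)
      fun i => congrArg Subtype.val (h i)

theorem simple_stab_dodecad {d : Finset GolayPt} (hd : d ∈ dodecads) : IsSimpleGroup (stabilizer M24 d) :=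
  ((sharp_dod hd).simple12 ((card_dodAct d).trans hd.2)).1

theorem simple_stab_dodecad_pt {d : Finset GolayPt} (hd : d ∈ dodecads) {p : GolayPt} (hp : p ∈ d) :
    IsSimpleGroup ↥(stabilizer M24 d ⊓ stabilizer M24 p) := by
  classical
  have h := (card_dodAct d).trans hd.2
  have := Sharp.card_ofStab (G := stabilizer M24 d) (⟨p, hp⟩ : dodAct d)
  have := (((sharp_dod hd).stab (by omega) (⟨p, hp⟩ : dodAct d)).simple11 (by omega)).1
  exact (stabStab (b := (⟨p, hp⟩ : dodAct d)) fun _ => Subtype.ext_iff).symm.isSimpleGroup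

def s22L : List ℕ := [nat_lit 0xb9acb2c282231239c51553c323b5c0, nat_lit 0xbcc248358642df6a545191d4570d20]

def s22Pr : List (List ℕ) := [[], [2, 1, 1, 2], [2, 2, 2, 3, 2], [0, 1, 1, 0, 0], [2, 2, 1, 2, 1], [2, 3, 2, 3, 2, 2], [1, 0], [3, 2], [4, 2, 3, 4], [1, 2], [0, 0], [2, 4], [5, 4], [4, 5], [6, 5], [7, 3], [7, 3], [9, 3], [11, 3], [11, 4], [11, 5], [12, 5], [14, 3], [18, 19], [18, 20], [21, 19], [20, 20], [23, 3], [24, 3], [24, 4], [24, 5], [26, 5], [28, 5], [28, 6], [28, 6], [30, 6], [31, 6], [33, 5], [32, 5], [34, 4], [38, 38], [38, 39], [40, 39], [40, 40], [42, 3], [42, 4], [44, 4], [44, 5], [46, 4], [46, 4], [48, 4], [49, 4], [50, 4], [51, 3], [52, 3], [53, 3], [54, 1], [54, 1], [58, 58], [60, 59], [60, 61], [62, 62], [62, 3], [64, 4], [64, 4], [66, 5], [66, 5], [68, 6], [68, 6], [69, 6], [70, 6], [71, 6], [73, 7], [74, 7], [75, 5], [75, 5], [77, 6]]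

def s22Ch : Ch := [(1, [nat_lit 0xbdab49ca307b9ac5a928398a418820, nat_lit 0xb9acb2c282231239c51553c323b5c0, nat_lit 0xbcc248358642df6a545191d4570d20, nat_lit 0xbbcd30896d90d072d2b6891d052580, nat_lit 0xb9e74518832d84e83221aa12d93d60, nat_lit 0xb95d21246facc865d9b482a2161d00, nat_lit 0xbc12533ec78d1132046c6caaa5b840, nat_lit 0xb91e57366981eaa0aec6a49828a060, nat_lit 0xba0f048e8f6ba325103361566a8ac0, nat_lit 0xba8ab8be47099ac10e8eb550981260, nat_lit 0xbca04a9cae54c6b359890c44f6a280, nat_lit 0xb85906a0e4b164f9992b1468e1aaa0, nat_lit 0xba96d189c80c0a7a4de435589b4a20, nat_lit 0xb8901790caa2ea5938e34c2d19b1a0, nat_lit 0xbc881624a812ad174ccf5c06da54e0, nat_lit 0xbd54241d644b2908c9c51866fb34c0, nat_lit 0xbc433a120a73d2369d6c35aa8148a0, nat_lit 0xbd554621b249df61b88b9862231600, nat_lit 0xbb4c50c94bac1d43cec24b0687c480, nat_lit 0xb8e29414f52502a6ae4e11a6c859e0, nat_lit 0xbc24e1a0356c4d4615e4988e95d940, nat_lit 0xbb4a9b09511d66c5c0e8a19cf20640]),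
  (2, [nat_lit 0xbdab49ca307b9ac5a928398a418820, nat_lit 0xba6c67c6459a9a881c541b08b75420, nat_lit 0xbd1c55c851611074aa6379ad56c020, nat_lit 0xb892c9ca2479db428ea67217055820, nat_lit 0xbce8660a565a9038be0569ea923820, nat_lit 0xb9944846b242e8311dee9b13669420, nat_lit 0xb94964ca023d46f9a96d61a8e44420, nat_lit 0xbd4487c64b98da623acc552053a420, nat_lit 0xbc2675c85563d05b35c620d3155020, nat_lit 0xbbccc4562981e8e94ca468ec25a820, nat_lit 0xbaca63c2544a86d1323643dd3a9020, nat_lit 0xb9169144b51d9d379e0d430caa4820, nat_lit 0xbba0360a495b506a9287516367cc20, nat_lit 0xb95e3846b644e844b54c5b85239820, nat_lit 0xbcd88a5a4228cca8bc8b6b93581c20, nat_lit 0xbc08c1962611dcdaa249a4d4fb2c20, nat_lit 0xba8ae456228368cb2cc3392499bc20, nat_lit 0xb926e2cac9a3ccb134e882ab11b020, nat_lit 0xbbd14326352398794d706a85628c20, nat_lit 0xbadea2452234d90ab47429ed272020, nat_lit 0xbb06534c4ea90ef92d3142a14b3420]),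
  (3, [nat_lit 0xbdab49ca307b9ac5a928398a418820, nat_lit 0xba63074ab424d4c5b6c828cef30820, nat_lit 0xbd20cb3a6a419311ae45234efa8820, nat_lit 0xbd0f2ad869645ed22d10998aa70820, nat_lit 0xbca6a33a0c7d9711a6853d48868820, nat_lit 0xbc28c4cdcd40ed532e477a8a488820, nat_lit 0xbb151a1acb2b653a8dc77a48880820, nat_lit 0xbc0b28a4d66548a7ad1470ced98820, nat_lit 0xbc9cd1ce8c2257535a072c5e850820, nat_lit 0xbda2f7564d520873513328d9058820, nat_lit 0xbbacb6995145073ac987241e548820, nat_lit 0xbc92da46ab81903712c553e6c38820, nat_lit 0xbb1b580d2b3aa4e89a65259e8a0820, nat_lit 0xbb5e74b9049aed119aa55519090820, nat_lit 0xba8ee9c9b48c1eb40cac35489b0820, nat_lit 0xbdaab3452d650837224599d5078820, nat_lit 0xba0eaa8ecb7c18572691999b220820, nat_lit 0xbcaca8562ba0d069bd27691cc28820, nat_lit 0xbc5305564322dc69b6c77d10560820, nat_lit 0xbbcb58d9693c94481a6d70d9440820]),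
  (4, [nat_lit 0xbdab49ca307b9ac5a928398a418820, nat_lit 0xba64d4562f83a87312d362caa18820, nat_lit 0xba0d6aa4b26c56a792143cdcc18820, nat_lit 0xbb1f3a4232ab916218ed4a8ab18820, nat_lit 0xb9e086be3593a6952d94b10a618820, nat_lit 0xbcd69958b5a44c4829ed621c718820, nat_lit 0xbb54c79cb044486aae534d1d618820, nat_lit 0xba9b5b48a93468864ceb811cf18820, nat_lit 0xb9e545b4a64c6b023d56431d318820, nat_lit 0xbd087830af9c54b91aa8b35c918820, nat_lit 0xbac8a69dd2a159333d3585a2818820, nat_lit 0xb92924d4b65c5b33a1867a9d018820, nat_lit 0xb9166425d0996d4554ef9322d18820, nat_lit 0xb990f640a75466db512492dd518820, nat_lit 0xba613220aa3c5f25d4cc6d9d418820, nat_lit 0xbb2c9819c8795753d1536923218820]),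
  (5, [nat_lit 0xbdab49ca307b9ac5a928398a418820, nat_lit 0xbc12ba18ad946c79b11553dc418820, nat_lit 0xbb5135bdd63160aa1ea964a2418820])]

theorem simple_M22 : IsSimpleGroup Spor.M22 := by
  have h1 : ∀ t ∈ s22L, SP.In Spor.M22 t := fun t ht =>
    in_M22 (H13.allL_iff.1 (by decide +kernel : H13.allL (okS [23, 0] [] []) _ = true) t ht)
  have h2 : (SP.sub Spor.M22).cl s22L = ⊤ := cl_eq (Subgroup.card_top.trans card_M22) (fun t ht => (h1 t ht).sub)
    (pr := s22Pr) (ch := s22Ch) (by decide +kernel)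
  let X : SubMulAction Spor.M22 GolayPt := ⟨{x | x ≠ none ∧ x ≠ some 0}, fun g x hx =>
    ⟨fun e => hx.1 (g.1.injective (e.trans g.2.1.2.symm)), fun e => hx.2 (g.1.injective (e.trans g.2.2.symm))⟩⟩
  have : FaithfulSMul Spor.M22 X := ⟨fun {g g'} e => Subtype.ext (Equiv.ext fun x => by
    by_cases a : x = none
    · exact a ▸ g.2.1.2.trans g'.2.1.2.symm
    by_cases b : x = some 0
    · exact b ▸ g.2.2.trans g'.2.2.symm
    exact congrArg Subtype.val (e ⟨x, a, b⟩))⟩
  have : Nontrivial X := ⟨⟨some 1, by decide, by decide⟩, ⟨some 2, by decide, by decide⟩, fun e =>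
    absurd (congrArg Subtype.val e) (by decide)⟩
  have h3 : IsMultiplyPretransitive Spor.M22 X 2 := H18.mt_two_iff.2 fun a b c d h h' => by
    obtain ⟨g, e1, e2, e3, e4⟩ := H18.mt_four_iff.1 (M24_mt (by norm_num)) none (some 0) a b none (some 0) c d (by decide)
      a.2.1.symm b.2.1.symm a.2.2.symm b.2.2.symm (Subtype.coe_ne_coe.2 h) (by decide) c.2.1.symm d.2.1.symm c.2.2.symm
      d.2.2.symm (Subtype.coe_ne_coe.2 h')
    exact ⟨⟨g, ⟨g.2, e1⟩, e2⟩, Subtype.ext e3, Subtype.ext e4⟩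
  have := isPreprimitive_of_is_two_pretransitive h3
  have h4 := H18.card_eq_card_mul_stabilizer (G := Spor.M22) (⟨some 1, by decide, by decide⟩ : X)
  rw [card_M22, show Nat.card X = 22 from
    (Nat.card_eq_fintype_card (α := {x : GolayPt // x ≠ none ∧ x ≠ some 0})).trans (by decide)] at h4
  refine simple_of_pgen (⟨some 1, by decide, by decide⟩ : X) (p := 11) (by
    rw [show Nat.card (stabilizer Spor.M22 (⟨some 1, by decide, by decide⟩ : X)) = 20160 by omega]; norm_num) h2 ?_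
  rintro _ ⟨t, ht, rfl⟩
  rw [← (h1 t ht).sub.order (by norm_num : Nat.Prime 11) (H13.allL_iff.1
    (by decide +kernel : H13.allL (ordOk 5 24 · 11) _ = true) t ht), pow_orderOf_eq_one]

theorem exists_pt2 {p q p' q' : GolayPt} (h : p ≠ q) (h' : p' ≠ q') : ∃ g : M24, g • p = p' ∧ g • q = q' :=
  H18.mt_two_iff.1 (M24_mt (by norm_num)) p q p' q' h h'

theorem simple_stab_pt2 {p q : GolayPt} (h : p ≠ q) : IsSimpleGroup ↥(stabilizer M24 p ⊓ stabilizer M24 q) := by
  obtain ⟨g, rfl, rfl⟩ := exists_pt2 (by decide : (none : GolayPt) ≠ some 0) h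
  have := simple_M22
  rw [← H13.cj_stabilizer, ← H13.cj_stabilizer, ← H13.cj_inf]
  exact H13.simple_cj g eqv22.isSimpleGroup

theorem simple_M23 : IsSimpleGroup Spor.M23 := have := simple_stab_pt none; eqv23.symm.isSimpleGroup

theorem simple_M12 : IsSimpleGroup Spor.M12 := have := simple_stab_dodecad sqD_mem; eqv12.symm.isSimpleGroup

theorem simple_M11 : IsSimpleGroup Spor.M11 := have := simple_stab_dodecad_pt sqD_mem zero_mem_sqD; eqv11.symm.isSimpleGroup

end H14
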