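import Cfsg.Agent.L.SZM

/-! Recognition of the sporadic Suzuki group (namespace `H14.SzC`): `u4tr`, relations transfer from `PSU(4,3)`. -/

set_option autoImplicit false
set_option maxRecDepth 100000

namespace H14.SzC
open H13 H14.PK H14.PK.TS H27.PKx H27.MG L L.DC L.SZ Subgroup Cfsg

theorem el1 {X : Type*} [Group X] (e : ℕ → X) : ∀ i < 11, el 36 U4.WT e (nd 0 (U4.LK ++ [288, 576]) i) = e i := fun i hi =>
  el_eq ((by decide +kernel : ∀ i < 11, eqL (wc 36 U4.WT (nd 0 (U4.LK ++ [288, 576]) i)) [i] = true) i hi)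

variable {G : Type*} [Group G] [Finite G] {Q : Subgroup G} {g : ℕ → G} (h : Mid Q g)
include h

theorem cardD : Nat.card (centralizer {g 0} ⊓ (centralizer {th g 32} ⊓ centralizer {th g 64}) : Subgroup G) ≤ 1152 := by
  generalize hD : (centralizer {th g 32} ⊓ centralizer {th g 64} : Subgroup G) = D
  have hP := orb_spec (ap := pa) (gs := [0, 1, 2, 3, 4, 5, 6, 7, 8, 9, 10, 11]) (P := fun x => x < 16384 ∧ ∃ c ∈ centralizer {g 0},
    c * th g 32 * c⁻¹ = th g (x % 128) ∧ c * th g 64 * c⁻¹ = th g (x / 128)) (by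
      rintro i hi x ⟨x1, c, c1, c2, c3⟩
      have hi : i < 12 := by simp at hi; omega
      obtain ⟨a1, a2⟩ := h.sim i hi (x % 128) (Nat.mod_lt _ (by decide))
      obtain ⟨b1, b2⟩ := h.sim i hi (x / 128) (by omega)
      have z := (h.sim i hi 1 (by decide)).2
      rw [(by decide +kernel : ∀ i < 12, ac i 1 = 1) i hi, th_one, mul_inv_eq_iff_eq_mul] at z
      change ac i (x % 128) + 128 * ac i (x / 128) < 16384 ∧ ∃ c ∈ centralizer {g 0},
        c * th g 32 * c⁻¹ = th g ((ac i (x % 128) + 128 * ac i (x / 128)) % 128) ∧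
        c * th g 64 * c⁻¹ = th g ((ac i (x % 128) + 128 * ac i (x / 128)) / 128)
      generalize ac i (x % 128) = a at *
      generalize ac i (x / 128) = b at *
      refine ⟨by omega, g i * c, mul_mem (mem_centralizer_singleton_iff.2 z) c1, ?_, ?_⟩
      · rw [show (a + 128 * b) % 128 = a by omega, ← a2, ← c2]; group
      · rw [show (a + 128 * b) / 128 = b by omega, ← b2, ← c3]; group) 3000 (st := [8224]) (M := sb 0 8224)
    (fun p r => by obtain rfl := List.mem_singleton.1 r; exact ⟨by decide, 1, one_mem _, by simp, by simp⟩)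
    fun p r => by obtain rfl := (bt_sb.1 r).resolve_left bt_zero; exact ⟨by decide, 1, one_mem _, by simp, by simp⟩
  have o := pa_ok
  generalize orb pa _ _ _ _ = M at hP o
  choose! x1 c c1 c2 c3 using hP
  rw [DC.cnt_eq, ← Nat.card_eq_finsetCard] at o
  have := Nat.card_le_card_of_injective (fun p : ((Finset.range 16384).filter fun i => bt M i = true) =>
    ((⟨c p, c1 _ (Finset.mem_filter.1 p.2).2⟩ : centralizer {g 0}) : centralizer {g 0} ⧸ D.subgroupOf (centralizer {g 0}))) fun p q r => by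
      have r : (c p)⁻¹ * c q ∈ D := mem_subgroupOf.1 (QuotientGroup.eq.1 r)
      have a := (Finset.mem_filter.1 p.2).2
      have b := (Finset.mem_filter.1 q.2).2
      have k : ∀ t, (c p)⁻¹ * c q ∈ centralizer {t} → c p * t * (c p)⁻¹ = c q * t * (c q)⁻¹ := fun t r => by
        calc _ = c p * (t * ((c p)⁻¹ * c q)) * (c q)⁻¹ := by group
          _ = _ := by rw [← mem_centralizer_singleton_iff.1 r]; group
      rw [← hD] at r
      have := x1 _ a
      have := x1 _ b
      have := h.cg.inj _ (Nat.mod_lt _ (by decide)) _ (Nat.mod_lt _ (by decide)) ((c2 _ a).symm.trans ((k _ r.1).trans (c2 _ b)))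
      have := h.cg.inj _ (by omega) _ (by omega) ((c3 _ a).symm.trans ((k _ r.2).trans (c3 _ b)))
      exact Subtype.ext (by omega)
  have d := (D.subgroupOf (centralizer {g 0})).card_mul_index
  rw [o, ← index] at this
  rw [h.card, ← inf_subgroupOf_right, Nat.card_congr (subgroupOfEquivOfLe inf_le_right).toEquiv, inf_comm, inf_subgroupOf_left] at d
  nlinarith

omit [Finite G] in
theorem toD {x : G} (z : x * g 0 = g 0 * x) (y : x * g 7 = g 7 * x) :
    ∃ k : ℕ, g 7 ^ k * x ∈ (centralizer {g 0} ⊓ (centralizer {th g 32} ⊓ centralizer {th g 64}) : Subgroup G) := by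
  have s := h.sim 7 (by decide)
  have yz : g 7 * g 0 = g 0 * g 7 := mul_one (g 0) ▸ (h.cy [0]).eq.symm
  have cm : ∀ {x α}, x * g 7 = g 7 * x → Im g x α → ∀ a < 128, α (ac 7 a) = ac 7 (α a) := fun y i a ha =>
    (i.mul s).eq h.cg (y ▸ s.mul i) ha
  have k : ∀ {x α}, x * g 0 = g 0 * x → x * g 7 = g 7 * x → Im g x α → α 32 = 32 →
      x ∈ (centralizer {g 0} ⊓ (centralizer {th g 32} ⊓ centralizer {th g 64}) : Subgroup G) := fun {x α} z y i e => by
    have a := cm y i 32 (by decide)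
    rw [e, show ac 7 32 = 64 by decide +kernel] at a
    refine ⟨mem_centralizer_singleton_iff.2 z, mem_centralizer_singleton_iff.2 (mul_inv_eq_iff_eq_mul.1 ?_),
      mem_centralizer_singleton_iff.2 (mul_inv_eq_iff_eq_mul.1 ?_)⟩
    · rw [(i 32 (by decide)).2, e]
    · rw [(i 64 (by decide)).2, a]
  have m : ∀ {x t : G}, g 7 * t = t * g 7 → x * t = t * x → g 7 * x * t = t * (g 7 * x) := fun a b => Commute.mul_left a b
  obtain ⟨α, i⟩ := h.im z
  have A := i.au h.cg z
  have a := cm y i 32 (by decide)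
  have b := cm y i 64 (by decide)
  rw [show ac 7 32 = 64 by decide +kernel] at a
  rw [show ac 7 64 = 97 by decide +kernel, a] at b
  have s2 : ∀ x < 2, α x = x := fun x hx => by interval_cases x; exacts [A.zero, A.one]
  rcases cy_ok _ (A.lt 32 (by decide)) (by rw [← A.mul _ (by decide) _ (by decide)]; exact s2 1 (by decide)) (by
    rw [← b, ← a, ← A.mul _ (by decide) _ (by decide), ← A.mul _ (m7_lt _ _) _ (by decide)]
    exact s2 _ (by decide +kernel)) with r | r | r
  · exact ⟨0, by simpa using k z y i r⟩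
  · exact ⟨2, by simpa [pow_two, mul_assoc] using k (m yz (m yz z)) (m rfl (m rfl y)) (s.mul (s.mul i)) (by rw [r]; decide +kernel)⟩
  · exact ⟨1, by simpa using k (m yz z) (m rfl y) (s.mul i) (by rw [r]; decide +kernel)⟩

theorem u4tr : U4tr g := by
  have y3 : g 7 ^ 3 = 1 := h.cube 0 (by decide)
  obtain ⟨X, hX⟩ : ∃ X, X = centralizer ({g 7} : Set G) := ⟨_, rfl⟩
  have mX : ∀ {x}, x ∈ X ↔ x * g 7 = g 7 * x := by intro x; rw [hX, mem_centralizer_singleton_iff]
  obtain ⟨y, hy⟩ : ∃ y : X, y.1 = g 7 := ⟨⟨_, mX.2 rfl⟩, rfl⟩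
  have yc : ∀ x : X, Commute x y := fun x => Subtype.ext (by simpa [hy] using mX.1 x.2)
  have : (zpowers y).Normal := ⟨by rintro _ ⟨k, rfl⟩ x; rw [((yc x).zpow_right k).eq, mul_inv_cancel_right]; exact ⟨k, rfl⟩⟩
  let π := QuotientGroup.mk' (zpowers y)
  have q : ∀ {a b : X}, π a = π b → ∃ k : ℕ, a.1 = b * g 7 ^ k := fun {a b} r => by
    obtain ⟨k, r⟩ := mem_powers_iff_mem_zpowers.2 (QuotientGroup.eq.1 r.symm)
    exact ⟨k, by rw [← hy, ← coe_pow, show y ^ k = _ from r]; simp⟩
  have y1 : π y = 1 := (QuotientGroup.eq_one_iff _).2 (mem_zpowers y)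
  obtain ⟨x, hx⟩ : ∃ x : ℕ → X, ∀ i, (x i).1 = evalW g (ux [i]) := ⟨fun i => ⟨_, mX.2 (h.cy [i])⟩, fun _ => rfl⟩
  have xw : ∀ w, (evalW x w).1 = evalW g (ux w) := fun w => by
    rw [← coe_subtype, map_evalW, ux, evalW_ex]
    exact congrArg (evalW · w) (funext fun i => (hx i).trans (by rw [ux, evalW_ex]; exact mul_one _))
  obtain ⟨e, he⟩ : ∃ e : ℕ → X ⧸ zpowers y, ∀ w, evalW e w = π (evalW x w) := ⟨_, fun w => (map_evalW π x w).symm⟩
  have e1 : ∀ i, e i = π (x i) := fun i => by simpa using he [i]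
  have x0 : (x 0).1 = g 0 := (hx 0).trans (mul_one _)
  have e12 : e 12 = 1 := by rw [e1, show x 12 = y from Subtype.ext ((hx 12).trans ((mul_one _).trans hy.symm)), y1]
  have k3 : ∀ {z : G} {k : ℕ}, z * z = 1 → g 0 * g 7 ^ k = z → g 7 ^ k = 1 := fun {z k} a b => by
    have c : Commute (g 0) (g 7 ^ k) := Commute.pow_right (x0 ▸ mX.1 (x 0).2) k
    rw [← b, ← pow_two, c.mul_pow, pow_two, h.z2, one_mul] at a
    calc _ = (g 7 ^ k) ^ 2 * g 7 ^ k := by rw [a, one_mul]
      _ = 1 := by rw [← pow_succ, pow_right_comm, y3, one_pow]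
  have hold : Holds e U4.RU := fun r hr => by
    obtain ⟨k, k1, k2⟩ := anyL_iff.1 (allL_iff.1 ru_ok r hr)
    have := congrArg π (Subtype.ext ((xw _).trans ((h.ec k2).trans (xw _).symm)))
    rw [← he, ← he, apd_eq, evalW_append] at this
    simp only [List.mem_cons, List.not_mem_nil, or_false] at k1
    rcases k1 with rfl | rfl | rfl <;> simpa [e12] using this
  have ne : e 0 ≠ 1 := fun r => by
    obtain ⟨k, r⟩ := q ((map_one π).trans (r.symm.trans (e1 0)))
    rw [x0] at r
    rw [k3 (mul_one 1) r.symm, mul_one] at r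
    exact h.z1 r.symm
  have c := CG.ofRules hold ne U4.two
  have z1 : el 36 U4.WT e 1 = e 0 := el1 e 0 (by decide)
  have C := c.cen (z1 ▸ ne) (by
    refine le_trans ?_ (cardD h)
    have t := fun x => toD h (x := x)
    generalize (centralizer {g 0} ⊓ (centralizer {th g 32} ⊓ centralizer {th g 64}) : Subgroup G) = D at t
    refine (card_le_of_le (K := (D.subgroupOf X).map π) fun a r => ?_).trans ((Nat.card_le_card_of_surjective _
      (π.subgroupMap_surjective _)).trans (Nat.card_le_card_of_injective (fun a => ⟨a.1.1, a.2⟩) fun a b r =>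
        Subtype.ext (Subtype.ext (Subtype.mk.inj r))))
    obtain ⟨a, rfl⟩ := QuotientGroup.mk'_surjective _ a
    have r := mem_centralizer_singleton_iff.1 r
    rw [z1, e1, ← map_mul, ← map_mul] at r
    obtain ⟨k, r⟩ := q r
    simp only [coe_mul, x0] at r
    rw [k3 (cj_sq (g := a.1) h.z2) (by rw [r, mul_assoc _ a.1, (Commute.pow_right (mX.1 a.2) k).eq]; group), mul_one] at r
    obtain ⟨j, s⟩ := t _ r (mX.1 a.2)
    exact ⟨y ^ j * a, mem_subgroupOf.2 (by rwa [coe_mul, coe_pow, hy]), by rw [map_mul, map_pow, y1, one_pow, one_mul]⟩) U4.zok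
  have xu : (x 11).1 = evalW g wu := (hx 11).trans (congrArg _ (by decide +kernel))
  have k : ∀ {j : List ℕ} a b, a < 11 → b < 11 → uk j (ux [a]) = true → ec (kx j) (ux [b]) = true →
      e 11 * el 36 U4.WT e (nd 0 (U4.LK ++ [288, 576]) b) * (e 11)⁻¹ = el 36 U4.WT e (nd 0 (U4.LK ++ [288, 576]) a) := fun a b a1 b1 r s => by
    rw [el1 e a a1, el1 e b b1, mul_inv_eq_iff_eq_mul, e1, e1, e1, ← map_mul, ← map_mul]
    exact congrArg π (Subtype.ext (by rw [coe_mul, coe_mul, xu, hx, hx, ← h.ec s, h.uk _ _ r]))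
  obtain ⟨-, -, a0, a1, a2, a3, a4, a5, -, b0, b1, b2, b3, b4, b5, -⟩ := cy2_ok
  have i : Ind (el 36 U4.WT e) (e 11) U4.gs U4.as := (((((c.nil.cons (k 1 0 (by decide) (by decide) a5 b5)).cons
    (k 0 1 (by decide) (by decide) a4 b4)).cons (k 3 9 (by decide) (by decide) a3 b3)).cons (k 4 10 (by decide) (by decide) a2 b2)).cons
    (k 9 3 (by decide) (by decide) a1 b1)).cons (k 10 4 (by decide) (by decide) a0 b0)
  have s : e 11 * e 11 = 1 := by rw [e1, ← map_mul, show x 11 * x 11 = 1 from Subtype.ext (by rw [coe_mul, xu, h.u2]; rfl), map_one]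
  have := Fact.mk Nat.prime_three
  have := Fintype.ofFinite (GaloisField 3 2)
  obtain ⟨S, m⟩ := H27.U43.model (GaloisField 3 2) (by rw [← Nat.card_eq_fintype_card, GaloisField.card 3 2 (by decide)]; rfl)
  have := S.finite
  obtain ⟨t, b, n, d, f, G1⟩ := packX m U4.pack
  have h' := CG.ofRules b n U4.two
  obtain ⟨w, -, w1, w2⟩ := C.fixp i U4.cube
  obtain ⟨φ, a, a', -⟩ := c.hom h' (D := U4.D0) (c.rel i U4.alok (by
    simp only [U4.D0, List.forall_mem_cons]
    exact ⟨rfl, rfl, by simp [W, c.zero, s], w2.trans (Nat.eq_of_beq_eq_true w1 ▸ c.zero),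
      (congrArg _ (by decide +kernel)).trans (C.comm3 i s U4.cm1).1, (congrArg _ (by decide +kernel)).trans (C.comm3 i s U4.cm2).1,
      U4.loc C i s, fun _ r => nomatch r⟩)) (h'.rel d U4.alok f) U4.c0
    (G1 _ (fun a => mem_sup_left (h'.mem' a)) (mem_sup_right (mem_zpowers _))) m.card
  have fe : (fun i => φ (gn S U4.Ts i)) = e := funext fun i => by
    rcases lt_trichotomy i 11 with r | rfl | r
    · rw [← el1 (gn S U4.Ts) i r, a, el1 _ i r]
    · exact a'
    rw [gn_of_le i (by rwa [show U4.Ts.length = 12 from rfl]), map_one]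
    rcases Nat.eq_or_lt_of_le r with rfl | r
    · exact e12.symm
    · rw [e1, show x i = 1 from Subtype.ext (by
        rw [hx, ux, evalW_ex, evalW_cons, nd_eq, List.getD_eq_default _ _ (by simpa [UV, UW] using Nat.succ_le_of_lt r)]; exact mul_one _), map_one]
  intro u v r
  have := congrArg φ (eqX_spec m.base t r)
  rw [map_evalW, map_evalW, fe, he, he] at this
  exact xw u ▸ xw v ▸ q this

end H14.SzC
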