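import Mathlib
import Cfsg.Prelude.Def_Sporadic_a
import Cfsg.Agent.H14.M24Stab

/-!
* `H14.transOKd`, `transd_spec`: transversal certificate inside the stabiliser of a set.
* `compl_dodecad`, `dodecad_three_out_trans` (the stabiliser of a dodecad and 3 of its points is transitive outside),
  `dodecad_k_trans`, `dodecad_pt_out3` (M11 is 3-transitive on the complement), `card_stab_dodecad3` (72).
-/

namespace H14

open Finset Cfsg MulAction
open scoped Pointwise symmDiff

noncomputable def transOKd (L F p S d : ℕ) : Bool :=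
  band (transOK L F p S) (allLt 24 fun q => bimp (bit S q) (Nat.beq (pm (ent L q) d) d))

theorem transd_spec {L F p S d : ℕ} (h : transOKd L F p S d = true) (hp : p < 24) :
    ∀ q ∈ toSet S, ∃ σ ∈ M24, σ • toSet d = toSet d ∧ (∀ x ∈ toSet F, σ x = x) ∧ σ (pt p) = q := by
  intro q hq
  rw [transOKd, band_iff] at h
  have := (allLt_iff _ _).1 h.1 (idx q) (idx_lt q)
  have h' := (allLt_iff _ _).1 h.2 (idx q) (idx_lt q)
  rw [bimp_iff, bit_eq, ← mem_toSet, band_iff, band_iff, Nat.beq_eq] at this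
  rw [bimp_iff, bit_eq, ← mem_toSet, Nat.beq_eq] at h'
  obtain ⟨h1, h2, h3⟩ := this hq
  obtain ⟨σ, hσ, hT⟩ := exists_of_goodP h1
  exact ⟨σ, hσ, by rw [hT.smul_toSet, h' hq], hT.fix h3, by rw [hT.apply_pt hp, h2, pt_idx]⟩

theorem compl_dodecad {d : Finset GolayPt} (hd : d ∈ dodecads) : dᶜ ∈ dodecads :=
  ⟨Code_compl hd.1, by rw [card_compl, card_pt, hd.2]⟩

theorem smul_compl' (g : Equiv.Perm GolayPt) (d : Finset GolayPt) : g • dᶜ = (g • d)ᶜ := by
  ext x; simp only [← inv_smul_mem_iff, mem_compl]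

theorem m9_check : transOKd 0x2be2abca8db1cc99d50470d6c808209bd515caa3b1e042d189736e830820796275a286b29b09ba43a92ec488202bcf15a6acba9a49b872a42c6408208a8b372566a3e4d3d988b8eb0208203a8afa36e474d898da485c2a33082089e65a496873d3055c66b32ad2082051cb3acaec73c868adb0b228348820bd9d52b1449d20859cd288ded48820bda8e7a0ed2d4925c46c526703082000000000000000000000000000000000000000000000000000000000000075576518ac3dd28a3e449b63018820752cb3a4a455cd0acdac7ca2818820000000000000000000000000000000000000000000000000000000000000baeae9c1522d18db4464399e848820baeae9c1522d18db4464399e848820545f3a0ec67160c3ada4ba6b2408203c4b3a12cdabd2c55cc35c1c8908200000000000000000000000000000000000000000000000000000000000000000000000000000000000000000000000000000000000000000000000007ccf1b36835a90c2d48674af0488202cd51b1a84b9e4c7b86daa16980820abaf63b5ec52e12a150399a2920820ad2eb3b0ad8da5073c899994340820000000000000000000000000000000000000000000000000000000000000000000000000000000000000000000000000000000000000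000000000000ad2d7541e33ada974ccc2a23220820a56f6510b28ada874d867a4e380820000000000000000000000000000000000000000000000000000000000000bdab49ca307b9ac5a928398a418820bdab49ca307b9ac5a928398a418820000000000000000000000000000000000000000000000000000000000000000000000000000000000000000000000000000000000000000000000000000000000000000000000000000000000000000000000000000000000000000000000000000000000000000000000000000000000000000000000000000000000000000000000000000000000000000000000000000000000000 7 5 0xfacca0 0x5335f = true := by decide +kernel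

theorem exists_inj_extend {α : Type*} [DecidableEq α] {s : Finset α} {k m : ℕ} (h : k + m ≤ s.card)
    (x : Fin k → α) (hx : Function.Injective x) (hxs : ∀ i, x i ∈ s) :
    ∃ y : Fin (k + m) → α, Function.Injective y ∧ (∀ i, y i ∈ s) ∧ ∀ i, y (Fin.castAdd m i) = x i := by
  have hsub : univ.image x ⊆ s := fun a ha => by
    obtain ⟨i, -, rfl⟩ := mem_image.1 ha; exact hxs i
  obtain ⟨z, hz, hzs⟩ := exists_inj_of_card (s := s \ univ.image x) (k := m) (by
    rw [card_sdiff_of_subset hsub, card_image_of_injective _ hx, card_univ, Fintype.card_fin]; omega)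
  refine ⟨Fin.append x z, ?_, ?_, fun i => Fin.append_left _ _ _⟩
  · rw [Fin.append_injective_iff]
    refine ⟨hx, hz, fun i j hij => ?_⟩
    exact (mem_sdiff.1 (hzs j)).2 (hij ▸ mem_image_of_mem _ (mem_univ i))
  · intro i
    refine Fin.addCases (fun i => ?_) (fun i => ?_) i
    · rw [Fin.append_left]; exact hxs i
    · rw [Fin.append_right]; exact (mem_sdiff.1 (hzs i)).1

theorem dodecad_three_out_trans {d : Finset GolayPt} (hd : d ∈ dodecads) (x : Fin 3 → GolayPt)
    (hx : Function.Injective x) (hxd : ∀ i, x i ∈ d) {p q : GolayPt} (hp : p ∉ d) (hq : q ∉ d) :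
    ∃ g ∈ M24, g • d = d ∧ (∀ i, g (x i) = x i) ∧ g p = q := by
  obtain ⟨y, hy, hyd, hyx⟩ := exists_inj_extend (m := 2) (by rw [hd.2]; norm_num) x hx hxd
  obtain ⟨g, hg, h, rfl⟩ := dodecad_map5 hd y hy hyd
  have key : ∀ r, r ∉ g • toSet 0x5335f → g⁻¹ r ∈ toSet 0xfacca0 := by
    intro r hr
    have : g⁻¹ r ∉ toSet 0x5335f := fun h => hr (inv_smul_mem_iff.1 h)
    revert this; generalize g⁻¹ r = q; revert q; decide +kernel
  obtain ⟨a, ha, a0, a1, a2⟩ := transd_spec m9_check (by norm_num) _ (key p hp)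
  obtain ⟨b, hb, b0, b1, b2⟩ := transd_spec m9_check (by norm_num) _ (key q hq)
  refine ⟨g * b * a⁻¹ * g⁻¹, mul_mem (mul_mem (mul_mem hg hb) (inv_mem ha)) (inv_mem hg), ?_, ?_, ?_⟩
  · rw [mul_smul, inv_smul_smul, mul_smul, inv_smul_eq_iff.2 a0.symm, mul_smul, b0]
  · intro i
    have hx' : pt (Fin.castAdd 2 i : Fin 5) ∈ toSet 7 := by revert i; decide +kernel
    have : a⁻¹ (pt (Fin.castAdd 2 i : Fin 5)) = _ := Equiv.Perm.inv_eq_iff_eq.2 (a1 _ hx').symm
    rw [← hyx, ← h]
    simp only [Equiv.Perm.mul_apply, Equiv.Perm.coe_inv, Equiv.symm_apply_apply]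
    rw [← Equiv.Perm.coe_inv, this, b1 _ hx']
  · have : a⁻¹ (g⁻¹ p) = pt 5 := by rw [Equiv.Perm.inv_eq_iff_eq, a2]
    simp only [Equiv.Perm.mul_apply, this, b2]; simp

theorem dodecad_k_trans {d d' : Finset GolayPt} (hd : d ∈ dodecads) (hd' : d' ∈ dodecads) {k : ℕ}
    (hk : k ≤ 5) (x y : Fin k → GolayPt) (hx : Function.Injective x) (hy : Function.Injective y)
    (hxd : ∀ i, x i ∈ d) (hyd : ∀ i, y i ∈ d') : ∃ g ∈ M24, g • d = d' ∧ ∀ i, g (x i) = y i := by
  have e : 5 = k + (5 - k) := by omega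
  obtain ⟨x', hx', hxd', h1⟩ := exists_inj_extend (m := 5 - k) (by rw [hd.2]; omega) x hx hxd
  obtain ⟨y', hy', hyd', h2⟩ := exists_inj_extend (m := 5 - k) (by rw [hd'.2]; omega) y hy hyd
  obtain ⟨g, hg, h, h'⟩ := dodecad_five_trans hd hd' (fun i => x' (Fin.cast e i))
    (fun i => y' (Fin.cast e i)) (hx'.comp (Fin.cast_injective e)) (hy'.comp (Fin.cast_injective e))
    (fun _ => hxd' _) (fun _ => hyd' _)
  refine ⟨g, hg, h, fun i => ?_⟩
  rw [← h1, ← h2]
  exact h' (Fin.cast e.symm (Fin.castAdd _ i))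

theorem dodecad_pt_out3 {d : Finset GolayPt} (hd : d ∈ dodecads) {p : GolayPt} (hp : p ∈ d)
    (x y : Fin 3 → GolayPt) (hx : Function.Injective x) (hy : Function.Injective y)
    (hxd : ∀ i, x i ∉ d) (hyd : ∀ i, y i ∉ d) :
    ∃ g ∈ M24, g • d = d ∧ g p = p ∧ ∀ i, g (x i) = y i := by
  have hc := compl_dodecad hd
  obtain ⟨g, hg, h, h'⟩ := dodecad_k_trans hc hc (by norm_num) x y hx hy
    (fun i => mem_compl.2 (hxd i)) (fun i => mem_compl.2 (hyd i))
  rw [smul_compl', compl_inj_iff] at h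
  obtain ⟨k, hk, k1, k2, k3⟩ := dodecad_three_out_trans hc y hy (fun i => mem_compl.2 (hyd i))
    (p := g p) (q := p) (by simpa using (mem_iff_of_smul_eq h p).2 hp) (by simpa using hp)
  rw [smul_compl', compl_inj_iff] at k1
  exact ⟨k * g, mul_mem hk hg, by rw [mul_smul, h, k1], k3,
    fun i => by rw [Equiv.Perm.mul_apply, h', k2]⟩

theorem card_stab_dodecad3 {d : Finset GolayPt} (hd : d ∈ dodecads) {p q r : GolayPt} (hp : p ∈ d)
    (hq : q ∈ d) (hr : r ∈ d) (hpq : p ≠ q) (hpr : p ≠ r) (hqr : q ≠ r) :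
    Nat.card ↥(stabilizer M24 d ⊓ stabilizer M24 p ⊓ stabilizer M24 q ⊓ stabilizer M24 r) = 72 := by
  have h2 := card_eq_mul_stab (stabilizer M24 d ⊓ stabilizer M24 p) q (d.erase p : Set GolayPt)
    (fun g hg => mem_coe.2 (mem_erase.2 ⟨fun e =>
      hpq (smul_left_cancel g ((mem_stabilizer_iff.1 hg.2).trans e.symm)),
      (mem_iff_of_smul_eq (g := (g : Equiv.Perm GolayPt)) hg.1 q).2 hq⟩)) (fun s hs => by
    rw [mem_coe, mem_erase] at hs
    obtain ⟨g, hg, h0, h⟩ := dodecad_k_trans hd hd (k := 2) (by norm_num) ![p, q] ![p, s]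
      (by simp [Function.Injective, Fin.forall_fin_two, hpq, hpq.symm])
      (by simp [Function.Injective, Fin.forall_fin_two, hs.1, Ne.symm hs.1])
      (by simp [Fin.forall_fin_two, hp, hq]) (by simp [Fin.forall_fin_two, hp, hs.2])
    exact ⟨⟨g, hg⟩, ⟨h0, h 0⟩, h 1⟩)
  have h3 := card_eq_mul_stab (stabilizer M24 d ⊓ stabilizer M24 p ⊓ stabilizer M24 q) r
    ((d.erase p).erase q : Set GolayPt)
    (fun g hg => mem_coe.2 (mem_erase.2 ⟨fun e =>
      hqr (smul_left_cancel g ((mem_stabilizer_iff.1 hg.2).trans e.symm)), mem_erase.2 ⟨fun e =>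
      hpr (smul_left_cancel g ((mem_stabilizer_iff.1 hg.1.2).trans e.symm)),
      (mem_iff_of_smul_eq (g := (g : Equiv.Perm GolayPt)) hg.1.1 r).2 hr⟩⟩)) (fun s hs => by
    rw [mem_coe, mem_erase, mem_erase] at hs
    obtain ⟨g, hg, h0, h⟩ := dodecad_k_trans hd hd (k := 3) (by norm_num) ![p, q, r] ![p, q, s]
      (by simp [Function.Injective, Fin.forall_fin_succ, hpq, hpq.symm, hpr, hpr.symm, hqr, hqr.symm])
      (by simp [Function.Injective, Fin.forall_fin_succ, hpq, hpq.symm, hs.1, hs.2.1, Ne.symm hs.1,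
        Ne.symm hs.2.1])
      (by simp [Fin.forall_fin_succ, hp, hq, hr]) (by simp [Fin.forall_fin_succ, hp, hq, hs.2.2])
    exact ⟨⟨g, hg⟩, ⟨⟨h0, h 0⟩, h 1⟩, h 2⟩)
  rw [card_stab_dodecad_pt hd hp, Set.ncard_coe_finset, card_erase_of_mem hp, hd.2] at h2
  rw [Set.ncard_coe_finset, card_erase_of_mem (mem_erase.2 ⟨hpq.symm, hq⟩), card_erase_of_mem hp,
    hd.2] at h3
  omega

end H14
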