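import Mathlib
import Cfsg.Agent.H14.GolaySteiner

/-!
Abstract binary Golay codes: `H14.absGolay_steiner` (a 12-dimensional self-orthogonal code of length 24 with minimum weight 8 has
weight-8 supports forming an S(5,8,24)), `ncard_supports`.
-/

namespace H14

open Finset Cfsg
open scoped Pointwise symmDiff

theorem ncard_supports {α : Type*} [Fintype α] [DecidableEq α] (C : Submodule (ZMod 2) (α → ZMod 2)) :
    (supports (C : Set (α → ZMod 2))).ncard = 2 ^ Module.finrank (ZMod 2) C := by
  have : (supports (C : Set (α → ZMod 2))).ncard = (C : Set (α → ZMod 2)).ncard := by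
    apply Set.ncard_image_of_injective
    intro a b h
    rw [← ind_support a, h, ind_support]
  have h2 := Module.natCard_eq_pow_finrank (K := ZMod 2) (V := C)
  rw [Nat.card_zmod] at h2
  rw [this]; exact h2

theorem absGolay_steiner {α : Type*} [Fintype α] [DecidableEq α] (hα : Fintype.card α = 24)
    (C : Submodule (ZMod 2) (α → ZMod 2)) (hdim : Module.finrank (ZMod 2) C = 12)
    (horth : ∀ v ∈ C, ∑ i, v i * v i = 0) (hmin : ∀ w ∈ C, w ≠ 0 → 8 ≤ hammingNorm w) :
    IsSteinerSystem 5 8 (wordsOfWeight (C : Set (α → ZMod 2)) 8) := by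
  have hadd : ∀ s ∈ supports (C : Set (α → ZMod 2)), ∀ t ∈ supports (C : Set (α → ZMod 2)),
      s ∆ t ∈ supports (C : Set (α → ZMod 2)) := by
    intro s hs t ht
    rw [mem_supports_iff_ind] at *
    rw [ind_symmDiff]; exact add_mem hs ht
  have hmin' : ∀ s ∈ supports (C : Set (α → ZMod 2)), s.card < 8 → s = ∅ := by
    intro s hs h
    rw [mem_supports_iff_ind] at hs
    by_contra hne
    have := hmin _ hs (fun h0 => hne (ind_inj (h0.trans ind_empty.symm)))
    rw [hammingNorm_ind] at this; omega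
  have hev : ∀ s ∈ supports (C : Set (α → ZMod 2)), 2 ∣ s.card := by
    intro s hs
    have := horth _ ((mem_supports_iff_ind _ _).1 hs)
    rwa [dot_ind, inter_self, ZMod.natCast_eq_zero_iff] at this
  have huniq : ∀ b ∈ wordsOfWeight (C : Set (α → ZMod 2)) 8, ∀ c ∈ wordsOfWeight (C : Set (α → ZMod 2)) 8,
      5 ≤ (b ∩ c).card → b = c := by
    intro b hb c hc h
    have h1 := card_symmDiff_add b c
    rw [hb.2, hc.2] at h1
    exact symmDiff_eq_bot.1 (hmin' _ (hadd _ hb.1 _ hc.1) (by omega))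
  refine ⟨fun _ hb => hb.2, fun s hs => ?_⟩
  obtain ⟨p, -⟩ : s.Nonempty := card_pos.1 (by omega)
  obtain ⟨u, hu, hC⟩ := exists_leader_gen hα _ (by rw [ncard_supports, hdim]; norm_num) hadd hmin' p s
  have h1 := card_symmDiff_add s u
  have h2 := hev _ hC
  have h3 : ¬ (s ∆ u).card < 8 := fun h => by
    have := symmDiff_eq_bot.1 (hmin' _ hC h)
    rw [this] at hs; omega
  have h4 : Disjoint s u := by rw [disjoint_iff_inter_eq_empty, ← card_eq_zero]; omega
  have hsub : s ⊆ s ∆ u := by rw [h4.symmDiff_eq_sup]; exact subset_union_left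
  refine ⟨s ∆ u, ⟨⟨hC, by omega⟩, hsub⟩, fun c hc => huniq c hc.1 _ ⟨hC, by omega⟩ ?_⟩
  exact hs ▸ card_le_card (subset_inter hc.2 hsub)

end H14
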