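import Mathlib
import Cfsg.Agent.H14.SrchD
import Cfsg.Agent.H14.MSimple
import Cfsg.Agent.H14.M9
import Cfsg.Agent.H13.M24Pair
import Cfsg.Agent.S0369

/-!
Uniqueness and automorphism groups of the Witt designs.
* `H14.Sr.Emb e U B C`: the embedding `e` maps the points onto `U` and the blocks `B` onto `C`; `std21`, `std22`, `std23`, `std24`,
  `std11`, `std12`: every Steiner system with these parameters has such an embedding onto the traces of octads; `Emb.iso`.
* `AU U C`: permutations preserving `U` and `C`; `Emb.res`, `Emb.ext`, `Emb.autEquiv`, `Emb.mt`, `Emb.sharp`; `fixW`.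
-/

namespace H14.Sr

open Finset Cfsg MulAction
open scoped Pointwise symmDiff

variable {U t k A H AH F X X' L n : ℕ} {C : Set (Finset GolayPt)}

theorem W_eq (hF : Disjoint (toSet F) (toSet U)) (h5 : (toSet F).card + t = 5) {b c : Finset GolayPt} (hb : b ∈ W F U k)
    (hc : c ∈ W F U k) (h : t ≤ (b ∩ c).card) : b = c := by
  obtain ⟨-, o, ho, h1, rfl⟩ := hb
  obtain ⟨-, o', ho', h2, rfl⟩ := hc
  have : o = o' := by
    refine octad_eq_of_five ho ho' ?_
    have h3 : toSet F ∪ (o ∩ toSet U ∩ (o' ∩ toSet U)) ⊆ o ∩ o' :=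
      union_subset (subset_inter h1 h2) (inter_subset_inter inter_subset_left inter_subset_left)
    have h4 := card_le_card h3
    rw [card_union_of_disjoint (hF.mono_right (inter_subset_left.trans inter_subset_right))] at h4
    omega
  rw [this]

/-- check of the parameters of the traces -/
noncomputable def wChk (F U t k : ℕ) : Bool :=
  band (Nat.blt F 0x1000000) (band (Nat.beq (Nat.land F U) 0) (band (Nat.beq (Nat.add (pc F) t) 5) (all2 64 64 fun a =>
    H13.force (cw a) fun c => bimp (band (Nat.beq (pc c) 8) (band (Nat.beq (Nat.land F c) F) (Nat.ble t (pc (Nat.land c U)))))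
      (Nat.beq (pc (Nat.land c U)) k))))

theorem wChk_spec (h : wChk F U t k = true) : F < 2 ^ 24 ∧ Disjoint (toSet F) (toSet U) ∧ (toSet F).card + t = 5 ∧
    ∀ s ⊆ toSet U, s.card = t → ∃ b ∈ W F U k, s ⊆ b := by
  rw [wChk, band_iff, band_iff, band_iff, Nat.blt_eq, beq_iff', beq_iff', all2_iff] at h
  obtain ⟨h1, h2, h3, h4⟩ := h
  have a := (disjoint_toSet_iff U h1).2 h2
  have a' : (toSet F).card + t = 5 := (card_toSet h1).symm ▸ h3
  refine ⟨h1, a, a', fun s hs hc => ?_⟩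
  obtain ⟨o, ho, h5⟩ := exists_octad (s := toSet F ∪ s) ((card_union_le _ _).trans (by omega))
  obtain ⟨c, hc', rfl⟩ := mem_Code_iff.1 ho.1
  have h6 := h4 c hc'
  rw [frc, bimp_iff, band_iff, band_iff, beq_iff', beq_iff', beq_iff', Nat.ble_eq] at h6
  have h7 : s ⊆ toSet (cw c) ∩ toSet U := subset_inter (subset_union_right.trans h5) hs
  have h8 : (toSet (cw c) ∩ toSet U).card = pc (Nat.land (cw c) U) := card_inter_toSet U (cw_lt hc')
  refine ⟨_, ⟨h8.trans (h6 ⟨(card_toSet (cw_lt hc')).symm.trans ho.2, (toSet_subset_iff _ h1).1 (subset_union_left.trans h5), ?_⟩),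
    _, ho, subset_union_left.trans h5, rfl⟩, h7⟩
  rw [← h8, ← hc]; exact card_le_card h7

theorem W_sub {b : Finset GolayPt} (hb : b ∈ W F U k) : b ⊆ toSet U := by
  obtain ⟨-, o, -, -, rfl⟩ := hb; exact inter_subset_right

/-- permutations preserving `U` and `C` -/
def AU (U : ℕ) (C : Set (Finset GolayPt)) : Subgroup (Equiv.Perm GolayPt) := stabilizer _ (toSet U) ⊓ setSystemAut C

theorem mem_AU {g : Equiv.Perm GolayPt} : g ∈ AU U C ↔ g • toSet U = toSet U ∧ ∀ c ∈ C, g • c ∈ C := by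
  rw [← mem_setSystemAut_iff]; rfl

theorem mem_AU_W {g : Equiv.Perm GolayPt} (hg : g ∈ M24) (h1 : g • toSet F = toSet F) (h2 : g • toSet U = toSet U) :
    g ∈ AU U (W F U k) := mem_AU.2 ⟨h2, by
  rintro _ ⟨a, o, ho, b, rfl⟩
  exact ⟨(card_smul_finset _ _).trans a, g • o, smul_octad hg ho, h1 ▸ smul_finset_subset_smul_finset b, by
    rw [smul_finset_inter, h2]⟩⟩

theorem W_octads : W 0 0xffffff 8 = octads := by
  ext b
  simp only [W, toSet_zero, toSet_ones, inter_univ, empty_subset, true_and, Set.mem_setOf_eq]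
  exact ⟨fun ⟨_, _, h, e⟩ => e ▸ h, fun h => ⟨h.2, b, h, rfl⟩⟩

/-- the table lists octads through `F` with `k` points in `U` -/
noncomputable def octOk (F U k L n : ℕ) : Bool := allLt n fun i => H13.force (tb L i) fun c => band (isCw c) (wOk F U k c)

theorem octOk_spec (hF : F < 2 ^ 24) (h : octOk F U k L n = true) {i : ℕ} (hi : i < n) :
    toSet (tb L i) ∈ octads ∧ toSet F ⊆ toSet (tb L i) ∧ toSet (tb L i) ∩ toSet U ∈ W F U k := by
  have := (allLt_iff _ _).1 h i hi
  rw [frc, band_iff, wOk, band_iff, band_iff, beq_iff', beq_iff', beq_iff'] at this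
  have a : toSet (tb L i) ∈ octads := ⟨toSet_mem_Code this.1, (card_toSet (tb_lt _ _)).trans this.2.1⟩
  have b := (toSet_subset_iff _ hF).2 this.2.2.1
  exact ⟨a, b, (card_inter_toSet U (tb_lt _ _)).trans this.2.2.2, _, a, b, rfl⟩

/-- blocks with `t` fixed points separate the points of `X'` from the other points -/
noncomputable def sepW (F U t k X X' L n : ℕ) : Bool :=
  band (octOk F U k L n) (band (allLt n fun i => Nat.ble t (pc (Nat.land (Nat.land (tb L i) U) X)))
    (allLt 24 fun p => bimp (bit X' p) (bor (bit X p) (band (bit U p) (allLt 24 fun q => bimp (bit U q) (bor (Nat.beq p q)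
      (bor (bit X q) (anyLt n fun i => xor (bit (tb L i) p) (bit (tb L i) q)))))))))

theorem fixW (hw : wChk F U t k = true) (h : sepW F U t k X X' L n = true) {g : Equiv.Perm GolayPt} (hg : g ∈ AU U (W F U k))
    (hX : ∀ p ∈ toSet X, g p = p) : ∀ p ∈ toSet X', g p = p := by
  obtain ⟨w1, w2, w3, -⟩ := wChk_spec hw
  rw [sepW, band_iff, band_iff, allLt_iff, allLt_iff] at h
  obtain ⟨h0, h1, h2⟩ := h
  intro p hp
  by_cases hpF : p ∈ toSet X
  · exact hX p hpF
  have h3 := h2 (idx p) (idx_lt p)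
  rw [bimp_iff, bor_iff, band_iff, allLt_iff, bit_eq, bit_eq, bit_eq, ← mem_toSet, ← mem_toSet, ← mem_toSet] at h3
  obtain ⟨hU, h4⟩ := (h3 hp).resolve_left hpF
  have hU' := (mem_iff_of_smul_eq (mem_AU.1 hg).1 p).2 hU
  have h4 := h4 (idx (g p)) (idx_lt _)
  rw [bimp_iff, bor_iff, bor_iff, beq_iff', bit_eq, bit_eq, ← mem_toSet, ← mem_toSet, anyLt_iff] at h4
  rcases h4 hU' with h4 | h4 | ⟨i, hi, h4⟩
  · exact (idx_inj h4).symm
  · exact g.injective (hX _ h4)
  · exfalso
    have h5 := (octOk_spec w1 h0 hi).2.2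
    have h6 : g • (toSet (tb L i) ∩ toSet U) = toSet (tb L i) ∩ toSet U := by
      refine W_eq w2 w3 ((mem_AU.1 hg).2 _ h5) h5 ?_
      have a := h1 i hi
      rw [Nat.ble_eq, ← show _ = pc (Nat.land (Nat.land (tb L i) U) X) from card_inter_toSet X (and_lt24 U (tb_lt L i)),
        show toSet (Nat.land (tb L i) U) = _ from toSet_and _ _] at a
      refine a.trans (card_le_card fun x hx => mem_inter.2 ⟨?_, (mem_inter.1 hx).1⟩)
      rw [← hX x (mem_inter.1 hx).2]
      exact smul_mem_smul_finset (mem_inter.1 hx).1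
    have h7 := mem_iff_of_smul_eq h6 p
    rw [mem_inter, mem_inter, and_iff_left hU, and_iff_left hU', mem_toSet, mem_toSet, ← bit_eq, ← bit_eq] at h7
    revert h4 h7
    cases bit (tb L i) (idx p) <;> cases bit (tb L i) (idx (g p)) <;> simp

/-- `b` is mapped to `b'` when `p` is mapped to `q` -/
noncomputable def prOk (t X p q b b' : ℕ) : Bool :=
  band (bit b p) (band (bit b' q) (Nat.ble t (Nat.succ (pc (Nat.land (Nat.land b b') X)))))

/-- mapping `p` to another point changes the size of an intersection of blocks -/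
noncomputable def sepW2 (F U t k X p L : ℕ) : Bool :=
  band (octOk F U k L 96) (band (Nat.blt p 24) (band (bit U p) (band (!bit X p) (allLt 24 fun q => bimp (bit U q) (bor (Nat.beq p q)
    (bor (bit X q) (band (prOk t X p q (Nat.land (tb L (4 * q)) U) (Nat.land (tb L (4 * q + 1)) U))
      (band (prOk t X p q (Nat.land (tb L (4 * q + 2)) U) (Nat.land (tb L (4 * q + 3)) U))
        (!Nat.beq (pc (Nat.land (Nat.land (tb L (4 * q)) U) (Nat.land (tb L (4 * q + 2)) U)))
          (pc (Nat.land (Nat.land (tb L (4 * q + 1)) U) (Nat.land (tb L (4 * q + 3)) U))))))))))))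

theorem fixW2 {p : ℕ} (hw : wChk F U t k = true) (h : sepW2 F U t k X p L = true) {g : Equiv.Perm GolayPt}
    (hg : g ∈ AU U (W F U k)) (hX : ∀ p ∈ toSet X, g p = p) : ∀ q ∈ toSet (X ||| 2 ^ p), g q = q := by
  obtain ⟨w1, w2, w3, -⟩ := wChk_spec hw
  rw [sepW2, band_iff, band_iff, band_iff, band_iff, allLt_iff, Nat.blt_eq] at h
  obtain ⟨h0, hp, hU, hpX, h2⟩ := h
  suffices g (pt p) = pt p by
    intro q hq
    rw [toSet_or, toSet_two_pow hp, mem_union, mem_singleton] at hq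
    rcases hq with hq | rfl
    exacts [hX q hq, this]
  have hU' := (mem_iff_of_smul_eq (mem_AU.1 hg).1 _).2 ((pt_mem_toSet hp).2 hU)
  have hq := idx_lt (g (pt p))
  have h4 := h2 _ hq
  rw [bimp_iff, bor_iff, bor_iff, beq_iff', bit_eq, bit_eq, ← mem_toSet, ← mem_toSet, band_iff, band_iff] at h4
  by_cases hx : g (pt p) ∈ toSet X
  · exact g.injective (hX _ hx)
  rcases h4 hU' with h4 | h4 | ⟨a, b, c⟩
  · rw [← pt_idx (g (pt p)), ← h4]
  · exact absurd h4 hx
  · exfalso
    have key : ∀ i < 96, ∀ j < 96, prOk t X p (idx (g (pt p))) (Nat.land (tb L i) U) (Nat.land (tb L j) U) = true →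
        g • toSet (Nat.land (tb L i) U) = toSet (Nat.land (tb L j) U) := by
      intro i hi j hj h
      have h5 : toSet (Nat.land (tb L i) U) ∈ W F U k := (toSet_and _ _).symm ▸ (octOk_spec w1 h0 hi).2.2
      have h6 : toSet (Nat.land (tb L j) U) ∈ W F U k := (toSet_and _ _).symm ▸ (octOk_spec w1 h0 hj).2.2
      have l1 : Nat.land (tb L i) U < 2 ^ 24 := and_lt24 U (tb_lt L i)
      generalize Nat.land (tb L i) U = b at *
      generalize Nat.land (tb L j) U = b' at *
      rw [prOk, band_iff, band_iff, Nat.ble_eq, ← pt_mem_toSet hp, ← pt_mem_toSet hq, pt_idx,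
        ← show _ = pc (Nat.land (Nat.land b b') X) from card_inter_toSet X (and_lt24 b' l1),
        show toSet (Nat.land b b') = _ from toSet_and _ _, Nat.succ_eq_add_one,
        ← card_insert_of_notMem fun h => hx (mem_inter.1 h).2] at h
      refine W_eq w2 w3 ((mem_AU.1 hg).2 _ h5) h6 (h.2.2.trans (card_le_card (insert_subset
        (mem_inter.2 ⟨smul_mem_smul_finset h.1, h.2.1⟩) fun x hx => mem_inter.2 ⟨?_, (mem_inter.1 (mem_inter.1 hx).1).2⟩)))
      rw [← hX x (mem_inter.1 hx).2]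
      exact smul_mem_smul_finset (mem_inter.1 (mem_inter.1 hx).1).1
    have a' := key _ (by omega) _ (by omega) a
    have b' := key _ (by omega) _ (by omega) b
    rw [Bool.not_eq_true', ← Bool.not_eq_true, beq_iff'] at c
    refine c ((card_inter_toSet _ (and_lt24 U (tb_lt L _))).symm.trans (Eq.trans ?_ (card_inter_toSet _ (and_lt24 U (tb_lt L _)))))
    exact (card_smul_finset g _).symm.trans (congrArg card ((smul_finset_inter ..).trans (congrArg₂ _ a' b')))

section
variable {α : Type*} [Fintype α] [DecidableEq α] {B : Set (Finset α)} {e : α ↪ GolayPt}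

/-- `e` maps the points onto `U` and the blocks onto `C` -/
structure Emb (e : α ↪ GolayPt) (U : ℕ) (B : Set (Finset α)) (C : Set (Finset GolayPt)) : Prop where
  pts : univ.map e = toSet U
  blk : (fun b => b.map e) '' B = C

theorem exists_emb (hU : U < 2 ^ 24) (h : Fintype.card α = pc U) : ∃ e : α ↪ GolayPt, univ.map e = toSet U := by
  obtain ⟨f⟩ : Nonempty (α ≃ toSet U) := Fintype.card_eq.1 (by rw [Fintype.card_coe, card_toSet hU, h])
  refine ⟨f.toEmbedding.trans (Function.Embedding.subtype _), ?_⟩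
  ext p
  simp only [mem_map, mem_univ, true_and]
  exact ⟨fun ⟨a, h⟩ => h ▸ (f a).2, fun h => ⟨f.symm ⟨p, h⟩, by simp⟩⟩

omit [DecidableEq α] in
theorem exists_pre (hU : univ.map e = toSet U) {s : Finset GolayPt} (hs : s ⊆ toSet U) : ∃ b : Finset α, b.map e = s := by
  obtain ⟨b, -, h⟩ := subset_map_iff.1 (hU ▸ hs)
  exact ⟨b, h.symm⟩

theorem st_img (hU : univ.map e = toSet U) (hB : IsSteinerSystem t k B)
    (hint : ∀ b ∈ B, ∀ c ∈ B, b ≠ c → A.testBit (b ∩ c).card = true) {Y : Finset α} (hY : Y.map e = toSet H)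
    (hy : ∀ b ∈ B, AH.testBit (b ∩ Y).card = true) : St U t k A H AH ((fun b => b.map e) '' B) where
  sub := by rintro _ ⟨b, -, rfl⟩; exact hU ▸ map_subset_map.2 (subset_univ b)
  card := by rintro _ ⟨b, hb, rfl⟩; exact (card_map e).trans (hB.1 b hb)
  ex s hs hc := by
    obtain ⟨s, rfl⟩ := exists_pre hU hs
    obtain ⟨b, hb, h⟩ := steiner_exists hB ((card_map e).symm.trans hc)
    exact ⟨_, ⟨b, hb, rfl⟩, map_subset_map.2 h⟩
  int := by
    rintro _ ⟨b, hb, rfl⟩ _ ⟨c, hc, rfl⟩ h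
    rw [← map_inter, card_map]; exact hint b hb c hc fun e => h (by rw [e])
  hy := by
    rintro _ ⟨b, hb, rfl⟩
    rw [← hY, ← map_inter, card_map]; exact hy b hb

omit [Fintype α] [DecidableEq α] in
theorem map_trans_perm (g : Equiv.Perm GolayPt) (b : Finset α) : b.map (e.trans g.toEmbedding) = g • b.map e := by
  ext x; rw [mem_map, mem_smul_finset]
  exact ⟨fun ⟨a, h, c⟩ => ⟨e a, mem_map_of_mem e h, c⟩, fun ⟨_, h, c⟩ => (mem_map.1 h).imp fun a h => ⟨h.1, (congrArg g h.2).trans c⟩⟩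

theorem gl_of_chk {tr : Tr} {T s : ℕ} {D : Set (Finset GolayPt)} (hw : wChk F U t k = true)
    (hp : U < 2 ^ 24 ∧ H < 2 ^ 24 ∧ A < 2 ^ t ∧ t ≤ k ∧ tOk U t s = true) (hS : St U t k A H AH D) (hK : Kn D T n)
    (h : chk F U t k A H AH X tr T n s 0 = true) : Gl F U k X D := by
  obtain ⟨b, hb, hC⟩ := tOk_spec hS hp.1 hp.2.2.2.2
  exact chk_sound hp.1 hp.2.1 (wChk_spec hw).1 hp.2.2.1 hp.2.2.2.1 (wChk_spec hw).2.2.2 tr _ _ _ _ _ b hS hK hb hC h

omit [DecidableEq α] in
theorem emb_of_gl (hU : univ.map e = toSet U) (h : Gl F U k X ((fun b => b.map e) '' B)) :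
    ∃ e' : α ↪ GolayPt, Emb e' U B (W F U k) ∧ ∀ a, e a ∈ toSet X → e' a = e a := by
  obtain ⟨g, h1, h2, h3⟩ := h
  refine ⟨e.trans g⁻¹.toEmbedding, ⟨by rw [map_trans_perm, hU, inv_smul_eq_iff, h1], ?_⟩, fun a ha => ?_⟩
  · rw [eq_comm, ← inv_smul_eq_iff.2 h3, ← Set.image_smul, Set.image_image]
    exact Set.image_congr fun b _ => (map_trans_perm _ b).symm
  · exact Equiv.Perm.inv_eq_iff_eq.2 (h2 _ ha).symm

theorem std_of {tr : Tr} {s : ℕ} (hw : wChk F U t k = true) (hp : U < 2 ^ 24 ∧ 0 < 2 ^ 24 ∧ A < 2 ^ t ∧ t ≤ k ∧ tOk U t s = true)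
    (h : chk F U t k A 0 1 0 tr 0 0 s 0 = true) (hα : Fintype.card α = pc U) (hB : IsSteinerSystem t k B)
    (hint : ∀ b ∈ B, ∀ c ∈ B, b ≠ c → A.testBit (b ∩ c).card = true) : ∃ e : α ↪ GolayPt, Emb e U B (W F U k) := by
  obtain ⟨e, he⟩ := exists_emb hp.1 hα
  exact (emb_of_gl he (gl_of_chk hw hp (st_img he hB hint (Y := ∅) (by rw [toSet_zero]; rfl) fun b _ => by simp)
    (fun _ h => absurd h (Nat.not_lt_zero _)) h)).imp fun _ h => h.1

theorem w21 : wChk 0x800003 0x7ffffc 2 5 = true := by decide +kernel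
theorem w22 : wChk 0x800001 0x7ffffe 3 6 = true := by decide +kernel
theorem w23 : wChk 0x800000 0x7fffff 4 7 = true := by decide +kernel
theorem w24 : wChk 0 0xffffff 5 8 = true := by decide +kernel
theorem w12 : wChk 0 0x5335f 5 6 = true := by decide +kernel
theorem w11 : wChk 1 0x5335e 4 5 = true := by decide +kernel

theorem std21 (hα : Fintype.card α = 21) (hB : IsSteinerSystem 2 5 B) : ∃ e : α ↪ GolayPt, Emb e 0x7ffffc B (W 0x800003 0x7ffffc 5) :=
  std_of w21 (by decide +kernel) c21 (hα.trans (by decide +kernel)) hB fun b hb c hc h => by rw [S21_inter hα hB hb hc h]; rfl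

theorem std22 (hα : Fintype.card α = 22) (hB : IsSteinerSystem 3 6 B) : ∃ e : α ↪ GolayPt, Emb e 0x7ffffe B (W 0x800001 0x7ffffe 6) :=
  std_of w22 (by decide +kernel) c22 (hα.trans (by decide +kernel)) hB fun b hb c hc h => by
    rcases S22_inter hα hB hb hc h with h | h <;> rw [h] <;> rfl

theorem std23 (hα : Fintype.card α = 23) (hB : IsSteinerSystem 4 7 B) : ∃ e : α ↪ GolayPt, Emb e 0x7fffff B (W 0x800000 0x7fffff 7) :=
  std_of w23 (by decide +kernel) c23 (hα.trans (by decide +kernel)) hB fun b hb c hc h => by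
    rcases S23_inter hα hB hb hc h with h | h <;> rw [h] <;> rfl

theorem int24 (hα : Fintype.card α = 24) (hB : IsSteinerSystem 5 8 B) : ∀ b ∈ B, ∀ c ∈ B, b ≠ c → (21 : ℕ).testBit (b ∩ c).card = true :=
  fun b hb c hc h => by rcases S24_inter hα hB hb hc h with h | h | h <;> rw [h] <;> rfl

theorem std24 (hα : Fintype.card α = 24) (hB : IsSteinerSystem 5 8 B) : ∃ e : α ↪ GolayPt, Emb e 0xffffff B (W 0 0xffffff 8) :=
  std_of w24 (by decide +kernel) c24 (hα.trans (by decide +kernel)) hB (int24 hα hB)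

theorem std12 (hα : Fintype.card α = 12) (hB : IsSteinerSystem 5 6 B) : ∃ e : α ↪ GolayPt, Emb e 0x5335f B (W 0 0x5335f 6) :=
  std_of w12 (by decide +kernel) c12 (hα.trans (by decide +kernel)) hB fun b hb c hc h => by
    rcases S12_inter hα hB hb hc h with h | h | h | h <;> rw [h] <;> rfl

theorem std11 (hα : Fintype.card α = 11) (hB : IsSteinerSystem 4 5 B) : ∃ e : α ↪ GolayPt, Emb e 0x5335e B (W 1 0x5335e 5) :=
  std_of w11 (by decide +kernel) c11 (hα.trans (by decide +kernel)) hB fun b hb c hc h => by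
    rcases S11_inter hα hB hb hc h with h | h | h <;> rw [h] <;> rfl

/-- a plane of order 4 with an ordered hyperoval -/
theorem std21h (hα : Fintype.card α = 21) (hB : IsSteinerSystem 2 5 B) (hU : univ.map e = toSet 0x7ffffc) {Y : Finset α}
    (hY : Y.map e = toSet 0x149c) (hy : ∀ b ∈ B, (b ∩ Y).card ≤ 2) :
    ∃ e' : α ↪ GolayPt, Emb e' 0x7ffffc B (W 0x800003 0x7ffffc 5) ∧ ∀ a, e a ∈ toSet 0x149c → e' a = e a :=
  emb_of_gl hU (gl_of_chk w21 (by decide +kernel) (st_img hU hB (fun b hb c hc h => by rw [S21_inter hα hB hb hc h]; rfl) hY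
    fun b hb => by have := hy b hb; interval_cases (b ∩ Y).card <;> rfl) (fun _ h => absurd h (Nat.not_lt_zero _)) ch21)

namespace Emb

omit [DecidableEq α] in
theorem mem (h : Emb e U B C) (a : α) : e a ∈ toSet U := h.pts ▸ mem_map_of_mem e (mem_univ a)

omit [DecidableEq α] in
theorem surj (h : Emb e U B C) {p : GolayPt} (hp : p ∈ toSet U) : ∃ a, e a = p := by
  obtain ⟨a, -, h⟩ := mem_map.1 (h.pts ▸ hp); exact ⟨a, h⟩

omit [DecidableEq α] in
theorem blk_iff (h : Emb e U B C) {b : Finset α} : b.map e ∈ C ↔ b ∈ B :=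
  h.blk ▸ (map_injective e).mem_set_image

omit [DecidableEq α] in
theorem equiv {β : Type*} [Fintype β] {B' : Set (Finset β)} {e' : β ↪ GolayPt} (h : Emb e U B C) (h' : Emb e' U B' C)
    {g : Equiv.Perm GolayPt} (hg : g • toSet U = toSet U) : ∃ f : α ≃ β, ∀ a, e' (f a) = g (e a) := by
  choose f hf using fun a => h'.surj ((mem_iff_of_smul_eq hg _).2 (h.mem a))
  refine ⟨Equiv.ofBijective f ((Fintype.bijective_iff_injective_and_card f).2 ⟨fun a b c => ?_, ?_⟩), hf⟩
  · exact e.injective (g.injective (by rw [← hf, c, hf]))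
  · rw [← card_univ, ← card_univ, ← card_map e, ← card_map e', h.pts, h'.pts]

omit [Fintype α] [DecidableEq α] in
theorem map_image {β : Type*} [DecidableEq β] {e' : β ↪ GolayPt} {f : α → β} {g : Equiv.Perm GolayPt}
    (hf : ∀ a, e' (f a) = g (e a)) (b : Finset α) : (b.image f).map e' = g • b.map e := by
  ext x; simp [mem_smul_finset, hf]

omit [DecidableEq α] in
theorem iso {β : Type*} [Fintype β] [DecidableEq β] {B' : Set (Finset β)} {e' : β ↪ GolayPt} (h : Emb e U B C)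
    (h' : Emb e' U B' C) : SetSystemIso B B' := by
  obtain ⟨f, hf⟩ := h.equiv h' (one_smul _ _)
  refine ⟨f, Set.ext fun c => ⟨?_, fun hc => ?_⟩⟩
  · rintro ⟨b, hb, rfl⟩
    rw [← h'.blk_iff, map_image hf, one_smul]; exact h.blk_iff.2 hb
  · obtain ⟨b, hb, a⟩ : c.map e' ∈ (fun b => b.map e) '' B := h.blk ▸ h'.blk_iff.2 hc
    exact ⟨b, hb, map_injective e' ((map_image hf b).trans ((one_smul _ _).trans a))⟩

theorem aut_iff (h : Emb e U B C) {φ : Equiv.Perm α} {g : Equiv.Perm GolayPt} (hf : ∀ a, e (φ a) = g (e a)) :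
    φ ∈ setSystemAut B ↔ ∀ c ∈ C, g • c ∈ C := by
  rw [mem_setSystemAut_iff]
  constructor
  · intro a c hc
    obtain ⟨b, hb, rfl⟩ : c ∈ (fun b => b.map e) '' B := h.blk ▸ hc
    exact map_image hf b ▸ h.blk_iff.2 (a b hb)
  · intro a b hb
    exact h.blk_iff.1 ((map_image hf b).symm ▸ a _ (h.blk_iff.2 hb))

theorem res (h : Emb e U B C) {g : Equiv.Perm GolayPt} (hg : g ∈ AU U C) :
    ∃ φ : setSystemAut B, ∀ a, e (φ • a) = g (e a) := by
  obtain ⟨f, hf⟩ := h.equiv h (mem_AU.1 hg).1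
  exact ⟨⟨f, (h.aut_iff hf).2 (mem_AU.1 hg).2⟩, hf⟩

theorem ext (h : Emb e U B C) (φ : setSystemAut B) :
    ∃ g ∈ AU U C, (∀ a, e (φ • a) = g (e a)) ∧ ∀ p ∉ toSet U, g p = p := by
  have a : ∀ a, e (φ • a) = φ.1.viaEmbedding e (e a) := fun a => (φ.1.viaEmbedding_apply e a).symm
  refine ⟨_, mem_AU.2 ⟨?_, (h.aut_iff a).1 φ.2⟩, a, fun p hp => φ.1.viaEmbedding_apply_of_notMem e p ?_⟩
  · rw [← h.pts, ← map_image a]; congr 1; exact image_univ_equiv φ.1
  · rintro ⟨a, rfl⟩; exact hp (h.mem a)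

theorem autEquiv (h : Emb e U B C) {K : Subgroup (Equiv.Perm GolayPt)} (h1 : K ≤ AU U C)
    (h3 : ∀ g ∈ K, (∀ p ∈ toSet U, g p = p) → g = 1)
    (h4 : ∀ g ∈ AU U C, (∀ p ∉ toSet U, g p = p) → ∃ k ∈ K, ∀ p ∈ toSet U, k p = g p) : Nonempty (K ≃* setSystemAut B) := by
  choose f hf using fun g : K => h.res (h1 g.2)
  have ex : ∀ {φ ψ : setSystemAut B}, (∀ a, e (φ • a) = e (ψ • a)) → φ = ψ := fun h =>
    Subtype.ext (Equiv.ext fun a => e.injective (h a))
  let F : K →* setSystemAut B := MonoidHom.mk' f fun g g' => ex fun a => by rw [mul_smul, hf, hf, hf]; rfl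
  refine ⟨MulEquiv.ofBijective F ⟨(injective_iff_map_eq_one F).2 fun g hg => Subtype.ext (h3 _ g.2 fun p hp => ?_), fun φ => ?_⟩⟩
  · obtain ⟨a, rfl⟩ := h.surj hp
    rw [← hf, show f g = 1 from hg, one_smul]
  · obtain ⟨g, hg, a, b⟩ := h.ext φ
    obtain ⟨k, hk, c⟩ := h4 g hg b
    exact ⟨⟨k, hk⟩, ex fun x => (hf _ x).trans ((c _ (h.mem x)).trans (a x).symm)⟩

theorem mt (h : Emb e U B C) (ht : ∀ x y : Fin n → GolayPt, x.Injective → y.Injective → (∀ i, x i ∈ toSet U) →
    (∀ i, y i ∈ toSet U) → ∃ g ∈ AU U C, ∀ i, g (x i) = y i) : IsMultiplyPretransitive (setSystemAut B) α n :=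
  H18.mt_iff.2 fun x y hx hy => by
    obtain ⟨g, hg, a⟩ := ht _ _ (e.injective.comp hx) (e.injective.comp hy) (fun _ => h.mem _) fun _ => h.mem _
    obtain ⟨φ, b⟩ := h.res hg
    exact ⟨φ, fun i => e.injective ((b _).trans (a i))⟩

theorem sharp (h : Emb e U B C) (ht : ∀ x y : Fin n → GolayPt, x.Injective → y.Injective → (∀ i, x i ∈ toSet U) →
    (∀ i, y i ∈ toSet U) → ∃ g ∈ AU U C, ∀ i, g (x i) = y i) {z : Fin n → GolayPt} (hz : z.Injective) (hz' : ∀ i, z i ∈ toSet U)
    (hf : ∀ g ∈ AU U C, (∀ i, g (z i) = z i) → ∀ p ∈ toSet U, g p = p) : Sharp (setSystemAut B) α n := by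
  refine ⟨h.mt ht, H18.sharp_iff.2 fun φ x hx hφ => Subtype.ext (Equiv.ext fun a => e.injective ?_)⟩
  obtain ⟨k, hk, c⟩ := ht _ _ hz (e.injective.comp hx) hz' fun _ => h.mem _
  obtain ⟨g, hg, b, -⟩ := h.ext φ
  have := hf _ (mul_mem (mul_mem (inv_mem hk) hg) hk) (fun i => by
    rw [Equiv.Perm.mul_apply, Equiv.Perm.mul_apply, c, Function.comp_apply, ← b, hφ, Equiv.Perm.inv_eq_iff_eq, c]; rfl)
    (k⁻¹ (e a)) ((mem_iff_of_smul_eq (mem_AU.1 (inv_mem hk)).1 _).2 (h.mem a))
  rw [Equiv.Perm.mul_apply, Equiv.Perm.mul_apply, Equiv.apply_eq_iff_eq,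
    show k (k⁻¹ (e a)) = e a from k.apply_symm_apply _] at this
  exact (b a).trans this

end Emb
end

theorem st_octads : St 0xffffff 5 8 21 0 1 octads where
  sub _ _ := toSet_ones ▸ subset_univ _
  card _ h := h.2
  ex _ _ h := exists_octad h.le
  int := int24 card_pt octads_steiner
  hy _ _ := by simp [toSet_zero]

/-- extension of automorphisms of the derived designs -/
theorem ext_M24 {tr : Tr} {s : ℕ} (hF : F < 2 ^ 24) (hFU : F ^^^ 0xffffff = U) (hL : octOk F U k L n = true)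
    (hs : tOk 0xffffff 5 s = true) (h : chk 0 0xffffff 5 8 21 0 1 U tr L n s 0 = true) {g : Equiv.Perm GolayPt}
    (hg : g ∈ AU U (W F U k)) (hf : ∀ p ∉ toSet U, g p = p) : ∃ k ∈ M24, ∀ p ∈ toSet U, k p = g p := by
  obtain ⟨j, -, a, b⟩ := gl_of_chk w24 ⟨by norm_num, by norm_num, by norm_num, by norm_num, hs⟩
    (st_octads.smul (g := g) (by rw [toSet_ones]; exact smul_finset_univ) (by rw [toSet_zero]; exact smul_finset_empty _))
    (fun i hi => by
      obtain ⟨c1, c2, c3⟩ := octOk_spec hF hL hi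
      obtain ⟨-, o, ho, d1, d2⟩ := (mem_AU.1 hg).2 _ c3
      have : g • toSet (tb L i) = o := by
        generalize toSet (tb L i) = c at *
        ext x
        obtain ⟨x, rfl⟩ := g.surjective x
        rw [show g x ∈ g • c ↔ x ∈ c from smul_mem_smul_finset_iff g]
        by_cases hx : x ∈ toSet U
        · have : g x ∈ g • (c ∩ toSet U) ↔ x ∈ c ∩ toSet U := smul_mem_smul_finset_iff g
          rw [d2, mem_inter, mem_inter, and_iff_left hx, and_iff_left ((mem_iff_of_smul_eq (mem_AU.1 hg).1 x).2 hx)] at this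
          exact this.symm
        · have hx' : x ∈ toSet F := by rwa [← hFU, toSet_compl, mem_compl, not_not] at hx
          rw [hf x hx]; exact iff_of_true (c2 hx') (d1 hx')
      rw [mem_smul_iff, this]; exact ho) h
  refine ⟨g * j, ?_, fun p hp => by rw [Equiv.Perm.mul_apply, a p hp]⟩
  rw [Cfsg.Agent.S0369.result, mem_stabilizer_iff, mul_smul]
  conv_lhs => rw [← W_octads, ← b, smul_inv_smul]

theorem ext23 {g : Equiv.Perm GolayPt} (hg : g ∈ AU 0x7fffff (W 0x800000 0x7fffff 7)) (hf : ∀ p ∉ toSet 0x7fffff, g p = p) :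
    ∃ k ∈ M24, ∀ p ∈ toSet 0x7fffff, k p = g p :=
  ext_M24 (L := ke23) (n := 253) (by norm_num) (by decide +kernel) (by decide +kernel) (by decide +kernel) ce23 hg hf

theorem ext22 {g : Equiv.Perm GolayPt} (hg : g ∈ AU 0x7ffffe (W 0x800001 0x7ffffe 6)) (hf : ∀ p ∉ toSet 0x7ffffe, g p = p) :
    ∃ k ∈ M24, ∀ p ∈ toSet 0x7ffffe, k p = g p :=
  ext_M24 (L := ke22) (n := 77) (by norm_num) (by decide +kernel) (by decide +kernel) (by decide +kernel) ce22 hg hf

theorem mem_AU_big {g : Equiv.Perm GolayPt} (hFU : F ^^^ 0xffffff = U) (hg : g ∈ M24) (h : g • toSet F = toSet F) :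
    g ∈ AU U (W F U k) := mem_AU_W hg h (by rw [← hFU, toSet_compl, smul_compl', h])

theorem smul_eq_of_fix {g : Equiv.Perm GolayPt} {s : Finset GolayPt} (h : ∀ p ∈ s, g p = p) : g • s = s :=
  (image_congr (g := id) h).trans image_id

theorem eq_one_big {g : Equiv.Perm GolayPt} (hg : g ∈ M24) (h : ∀ p ∈ toSet 0x7ffffe, g p = p) : g = 1 := by
  have a := fix_step hg (F' := 0xffffff) (L := 0x8900bc00149f) (n := 2) (by decide +kernel) h
  exact Equiv.ext fun p => a p (toSet_ones ▸ mem_univ p)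

theorem set23 : toSet 0x800000 = {none} := toSet_two_pow (i := 23) (by norm_num)

theorem set22 : toSet 0x800001 = {none, some 0} := by
  rw [show (0x800001 : ℕ) = 2 ^ 23 ||| 2 ^ 0 by decide, toSet_or, toSet_two_pow (by norm_num), toSet_two_pow (by norm_num)]; rfl

theorem set0 : toSet 1 = {some 0} := toSet_two_pow (i := 0) (by norm_num)

theorem tr23 (x y : Fin 4 → GolayPt) (hx : x.Injective) (hy : y.Injective) (a : ∀ i, x i ∈ toSet 0x7fffff)
    (b : ∀ i, y i ∈ toSet 0x7fffff) : ∃ g ∈ AU 0x7fffff (W 0x800000 0x7fffff 7), ∀ i, g (x i) = y i := by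
  have c : ∀ x : Fin 4 → GolayPt, x.Injective → (∀ i, x i ∈ toSet 0x7fffff) → Function.Injective (Fin.cons none x : Fin 5 → GolayPt) :=
    fun x hx a => Fin.cons_injective_iff.2 ⟨fun ⟨i, h⟩ => absurd (mem_toSet.1 (h ▸ a i)) (by decide), hx⟩
  obtain ⟨g, hg, h⟩ := M24_map_inj le_rfl _ _ (c x hx a) (c y hy b)
  refine ⟨g, mem_AU_big (by decide +kernel) hg ?_, fun i => h i.succ⟩
  rw [set23, smul_finset_singleton]; exact congrArg _ (h 0)

theorem tr22 (x y : Fin 3 → GolayPt) (hx : x.Injective) (hy : y.Injective) (a : ∀ i, x i ∈ toSet 0x7ffffe)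
    (b : ∀ i, y i ∈ toSet 0x7ffffe) : ∃ g ∈ AU 0x7ffffe (W 0x800001 0x7ffffe 6), ∀ i, g (x i) = y i := by
  have c : ∀ x : Fin 3 → GolayPt, x.Injective → (∀ i, x i ∈ toSet 0x7ffffe) →
      Function.Injective (Fin.cons none (Fin.cons (some 0) x : Fin 4 → GolayPt) : Fin 5 → GolayPt) := fun x hx a =>
    Fin.cons_injective_iff.2 ⟨fun ⟨i, h⟩ => by
      revert h; refine Fin.cases (by simp) (fun i h => absurd (mem_toSet.1 ((show x i = none from h) ▸ a i)) (by decide)) i,
      Fin.cons_injective_iff.2 ⟨fun ⟨i, h⟩ => absurd (mem_toSet.1 (h ▸ a i)) (by decide), hx⟩⟩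
  obtain ⟨g, hg, h⟩ := M24_map_inj le_rfl _ _ (c x hx a) (c y hy b)
  refine ⟨g, mem_AU_big (by decide +kernel) hg (smul_eq_of_fix fun p hp => ?_), fun i => h i.succ.succ⟩
  rw [set22, mem_insert, mem_singleton] at hp
  rcases hp with rfl | rfl
  exacts [h 0, h 1]

theorem tr12 (x y : Fin 5 → GolayPt) (hx : x.Injective) (hy : y.Injective) (a : ∀ i, x i ∈ toSet 0x5335f)
    (b : ∀ i, y i ∈ toSet 0x5335f) : ∃ g ∈ AU 0x5335f (W 0 0x5335f 6), ∀ i, g (x i) = y i := by
  obtain ⟨g, hg, h, h'⟩ := dodecad_five_trans dodec0_mem dodec0_mem x y hx hy a b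
  exact ⟨g, mem_AU_W hg (by rw [toSet_zero]; exact smul_finset_empty _) h, h'⟩

theorem tr11 (x y : Fin 4 → GolayPt) (hx : x.Injective) (hy : y.Injective) (a : ∀ i, x i ∈ toSet 0x5335e)
    (b : ∀ i, y i ∈ toSet 0x5335e) : ∃ g ∈ AU 0x5335e (W 1 0x5335e 5), ∀ i, g (x i) = y i := by
  have e : toSet 0x5335e = toSet 0x5335f \ toSet 1 := toSet_diff 0x5335f 1
  have c : ∀ x : Fin 4 → GolayPt, x.Injective → (∀ i, x i ∈ toSet 0x5335e) →
      Function.Injective (Fin.cons (some 0) x : Fin 5 → GolayPt) ∧ ∀ i, (Fin.cons (some 0) x : Fin 5 → GolayPt) i ∈ toSet 0x5335f :=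
    fun x hx a => ⟨Fin.cons_injective_iff.2 ⟨fun ⟨i, h⟩ => absurd (mem_toSet.1 (h ▸ a i)) (by decide), hx⟩,
      Fin.cases (mem_toSet.2 (by decide : Nat.testBit 0x5335f (idx (some 0)) = true)) fun i => (mem_sdiff.1 (e ▸ a i)).1⟩
  obtain ⟨g, hg, h, h'⟩ := dodecad_five_trans dodec0_mem dodec0_mem _ _ (c x hx a).1 (c y hy b).1 (c x hx a).2 (c y hy b).2
  have d : g • toSet 1 = toSet 1 := by rw [set0, smul_finset_singleton]; exact congrArg _ (h' 0)
  exact ⟨g, mem_AU_W hg d (by rw [e, smul_finset_sdiff, h, d]), fun i => h' i.succ⟩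

theorem fix_of_tuple {g : Equiv.Perm GolayPt} {z : Fin n → ℕ} (h : ∀ i, g (pt (z i)) = pt (z i))
    (hX : ∀ j < 24, bit X j = true → ∃ i, z i = j) : ∀ p ∈ toSet X, g p = p := by
  intro p hp
  obtain ⟨i, hi⟩ := hX _ (idx_lt p) (bit_eq _ _ ▸ mem_toSet.1 hp)
  rw [← pt_idx p, ← hi, h]

theorem fix12 {g : Equiv.Perm GolayPt} (hg : g ∈ AU 0x5335f (W 0 0x5335f 6)) (h : ∀ p ∈ toSet 0x1f, g p = p) :
    ∀ p ∈ toSet 0x5335f, g p = p :=
  fixW w12 (by decide +kernel : sepW 0x0 0x5335f 5 6 0x105f 0x5335f 0x91104d84805e82125350305a 4 = true) hg (fixW2 w12 (by decide +kernel : sepW2 0x0 0x5335f 5 6 0x101f 6 0x149f00149f00149f00149f00149f00149f00149f00149f00149f00149f00149f00149f00149f00149f00149f00149f00149f00149f00149f00149f84190700b0671c111c00527c00149f00149f00149f00149f03380b0c504b21b01c00527c00149f00149f00149f00149f00149f00149f00149f00149f03380b0c504b21b01c00527c00149f00149f00149f00149f00149f00149f00149f00149f00149f00149f00149f00149f21520700b06749121900995984190700b0671c111c00527c00149f00149f00149f00149f00149f00149f00149f00149f00149f00149f00149f00149f00149f00149f00149f00149f00149f00149f00149f00149f00149f00149f00149f00149f00149f00149f00149f00149f00149f00149f00149f00149f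 = true) hg
    (fixW w12 (by decide +kernel : sepW 0x0 0x5335f 5 6 0x1f 0x101f 0x149f 1 = true) hg h))

theorem fix11 {g : Equiv.Perm GolayPt} (hg : g ∈ AU 0x5335e (W 1 0x5335e 5)) (h : ∀ p ∈ toSet 0x1e, g p = p) :
    ∀ p ∈ toSet 0x5335e, g p = p :=
  fixW w11 (by decide +kernel : sepW 0x1 0x5335e 4 5 0x105e 0x5335e 0x91104d821253641055104157 4 = true) hg (fixW2 w11 (by decide +kernel : sepW2 0x1 0x5335e 4 5 0x101e 6 0x149f00149f00149f00149f00149f00149f00149f00149f00149f00149f00149f00149f00149f00149f00149f00149f00149f00149f00149f00149f0c023710415784303900995900149f00149f00149f00149f21520700b06749121900995900149f00149f00149f00149f00149f00149f00149f00149fc1201710415784303900995900149f00149f00149f00149f00149f00149f00149f00149f00149f00149f00149f00149f21520700b067491219009959a0031d0a205d84190700b06700149f00149f00149f00149f00149f00149f00149f00149f00149f00149f00149f00149f00149f00149f00149f00149f00149f00149f00149f00149f00149f00149f00149f00149f00149f00149f00149f00149f00149f00149f00149f00149f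 = true) hg
    (fixW w11 (by decide +kernel : sepW 0x1 0x5335e 4 5 0x1e 0x101e 0x149f 1 = true) hg h))

theorem fix21 {g : Equiv.Perm GolayPt} (hg : g ∈ AU 0x7ffffc (W 0x800003 0x7ffffc 5)) (h : ∀ p ∈ toSet 0x149c, g p = p) :
    ∀ p ∈ toSet 0x7ffffc, g p = p := fixW w21 (by decide +kernel : sepW 0x800003 0x7ffffc 2 5 0x149c 0x7ffffc 0xe0900bc20c83c12017a800c7a4441398081b908607907083891423 9 = true) hg h

section
variable {α : Type*} [Fintype α] [DecidableEq α] {B : Set (Finset α)}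

theorem sharp12 (hα : Fintype.card α = 12) (hB : IsSteinerSystem 5 6 B) : Sharp (setSystemAut B) α 5 := by
  obtain ⟨e, h⟩ := std12 hα hB
  exact h.sharp tr12 (z := fun i => pt i) (by decide) (fun i => mem_toSet.2 (by revert i; decide))
    fun g hg a => fix12 hg (fix_of_tuple a (by decide))

theorem sharp11 (hα : Fintype.card α = 11) (hB : IsSteinerSystem 4 5 B) : Sharp (setSystemAut B) α 4 := by
  obtain ⟨e, h⟩ := std11 hα hB
  exact h.sharp tr11 (z := fun i => pt (i + 1)) (by decide) (fun i => mem_toSet.2 (by revert i; decide))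
    fun g hg a => fix11 hg (fix_of_tuple a (by decide))

theorem aut24 (hα : Fintype.card α = 24) (hB : IsSteinerSystem 5 8 B) :
    Nonempty (M24 ≃* setSystemAut B) ∧ IsMultiplyPretransitive (setSystemAut B) α 5 := by
  obtain ⟨e, h⟩ := std24 hα hB
  have a : M24 ≤ AU 0xffffff (W 0 0xffffff 8) := fun g hg =>
    mem_AU_big (by decide +kernel) hg (by rw [toSet_zero]; exact smul_finset_empty _)
  refine ⟨h.autEquiv a (fun g _ b => Equiv.ext fun p => b p (toSet_ones ▸ mem_univ p)) fun g hg _ => ⟨g, ?_, fun _ _ => rfl⟩,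
    h.mt fun x y hx hy _ _ => (M24_map_inj le_rfl x y hx hy).imp fun g c => ⟨a c.1, c.2⟩⟩
  rw [Cfsg.Agent.S0369.result, ← W_octads]; exact hg.2

theorem aut23 (hα : Fintype.card α = 23) (hB : IsSteinerSystem 4 7 B) :
    Nonempty (Spor.M23 ≃* setSystemAut B) ∧ IsMultiplyPretransitive (setSystemAut B) α 4 := by
  obtain ⟨e, h⟩ := std23 hα hB
  have e : ∀ p, p ∉ toSet 0x7fffff ↔ p = none := by simp only [mem_toSet]; decide
  refine ⟨h.autEquiv (fun g hg => mem_AU_big (by decide +kernel) hg.1 ?_) (fun g hg b => Equiv.ext fun p => ?_)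
    fun g hg b => ?_, h.mt tr23⟩
  · rw [set23, smul_finset_singleton]; exact congrArg _ hg.2
  · by_cases c : p ∈ toSet 0x7fffff
    · exact b p c
    · rw [(e p).1 c]; exact hg.2
  · obtain ⟨k, hk, c⟩ := ext23 hg b
    refine ⟨k, ⟨hk, ?_⟩, c⟩
    obtain ⟨p, hp⟩ := k.surjective none
    by_cases d : p ∈ toSet 0x7fffff
    · exact absurd (hp ▸ c p d ▸ (mem_iff_of_smul_eq (mem_AU.1 hg).1 p).2 d) ((e _).2 rfl)
    · rwa [(e p).1 d] at hp

theorem aut22 (hα : Fintype.card α = 22) (hB : IsSteinerSystem 3 6 B) :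
    Nonempty (↥(M24 ⊓ stabilizer _ (toSet 0x800001)) ≃* setSystemAut B) ∧ IsMultiplyPretransitive (setSystemAut B) α 3 := by
  obtain ⟨e, h⟩ := std22 hα hB
  refine ⟨h.autEquiv (fun g hg => mem_AU_big (by decide +kernel) hg.1 hg.2) (fun g hg b => eq_one_big hg.1 b)
    fun g hg b => ?_, h.mt tr22⟩
  obtain ⟨k, hk, c⟩ := ext22 hg b
  refine ⟨k, ⟨hk, ?_⟩, c⟩
  have d : k • toSet 0x7ffffe = toSet 0x7ffffe := (image_congr c).trans (mem_AU.1 hg).1
  change k • _ = _
  rw [show (0x800001 : ℕ) = 0x7ffffe ^^^ 0xffffff by decide, toSet_compl, smul_compl', d]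

theorem card_pair22 : Nat.card ↥(M24 ⊓ stabilizer _ (toSet 0x800001)) = 887040 :=
  (Nat.card_congr (eqvM (H := M24 ⊓ stabilizer _ (toSet 0x800001)) (K := stabilizer M24 H13.bPair) fun _ => ⟨fun h => ⟨h.1, h.2⟩, fun ⟨a, b⟩ => ⟨a, b⟩⟩).toEquiv).symm.trans
    H13.card_stPair

theorem card_aut22 (hα : Fintype.card α = 22) (hB : IsSteinerSystem 3 6 B) : Nat.card (setSystemAut B) = 887040 :=
  (aut22 hα hB).1.elim fun f => (Nat.card_congr f.toEquiv).symm.trans card_pair22

end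

end H14.Sr
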