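import Mathlib
import Cfsg.Agent.H14.Witt
import Cfsg.Agent.H14.AbsGolay
import Cfsg.Agent.H14.Sextet

/-! Uniqueness of the extended binary Golay code: `H14.golay_unique`; `Code_oct_induction`. -/

namespace H14

open Finset Cfsg
open scoped symmDiff

theorem Code_oct_induction {P : Finset GolayPt → Prop} (h0 : P ∅) (hb : ∀ o ∈ octads, P o)
    (hs : ∀ s t, P s → P t → P (s ∆ t)) : ∀ s ∈ Code, P s := by
  refine Code_induction h0 (fun i hi => ?_) hs
  have hp : 2 ^ i < 2 ^ 12 := Nat.pow_lt_pow_right (by norm_num) hi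
  rcases Cfsg.Agent.S0369.basis_oct i hi with h1 | ⟨j, hj, h1, h2⟩
  · exact hb _ h1
  · have := hs _ _ (hb _ h1) (hb _ h2)
    rwa [← toSet_xor, cw_xor hj hp, ← Nat.xor_assoc, Nat.xor_self, Nat.zero_xor] at this

theorem map_symmDiff' {α β : Type*} [DecidableEq α] [DecidableEq β] (e : α ≃ β) (s t : Finset α) :
    (s ∆ t).map e.toEmbedding = s.map e.toEmbedding ∆ t.map e.toEmbedding := by
  ext p; simp only [mem_map_equiv, mem_symmDiff]

theorem golay_unique {α : Type*} [Fintype α] [DecidableEq α] (hα : Fintype.card α = 24)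
    (C : Submodule (ZMod 2) (α → ZMod 2)) (hdim : Module.finrank (ZMod 2) C = 12)
    (horth : ∀ v ∈ C, ∑ i, v i * v i = 0) (hmin : ∀ w ∈ C, w ≠ 0 → 8 ≤ hammingNorm w) :
    ∃ e : α ≃ GolayPt, ∀ s : Finset α, s.map e.toEmbedding ∈ Code ↔ ind s ∈ C := by
  obtain ⟨e, h⟩ := Sr.std24 hα (absGolay_steiner hα C hdim horth hmin)
  rw [Sr.W_octads] at h
  let f : α ≃ GolayPt := Equiv.ofBijective e ⟨e.injective, fun p => h.surj (toSet_ones ▸ mem_univ p)⟩
  have hf : f.toEmbedding = e := rfl
  have a : (fun s : Finset GolayPt => s.map f.symm.toEmbedding) '' Code ⊆ supports (C : Set (α → ZMod 2)) := by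
    rintro _ ⟨s, hs, rfl⟩
    rw [mem_supports_iff_ind]
    refine Code_oct_induction (P := fun s => ind (s.map f.symm.toEmbedding) ∈ C) ?_ (fun o ho => ?_) (fun s t a b => ?_) s hs
    · rw [map_empty, ind_empty]; exact zero_mem _
    · refine (mem_supports_iff_ind _ _).1 (h.blk_iff.1 ?_).1
      rwa [← hf, map_map, ← Equiv.trans_toEmbedding, Equiv.symm_trans_self, Equiv.refl_toEmbedding, map_refl]
    · rw [map_symmDiff', ind_symmDiff]; exact add_mem a b
  have b := Set.eq_of_subset_of_ncard_le a (by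
    rw [Set.ncard_image_of_injective _ (map_injective _), ncard_Code_univ, ncard_supports, hdim]; norm_num)
  refine ⟨f, fun s => ?_⟩
  rw [← SetLike.mem_coe, ← mem_supports_iff_ind, ← b, ← (map_injective f.symm.toEmbedding).mem_set_image, map_map,
    ← Equiv.trans_toEmbedding, Equiv.self_trans_symm, Equiv.refl_toEmbedding, map_refl]

theorem golay_unique' {α : Type*} [Fintype α] [DecidableEq α] (hα : Fintype.card α = 24)
    (C : Submodule (ZMod 2) (α → ZMod 2)) (hdim : Module.finrank (ZMod 2) C = 12)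
    (horth : ∀ v ∈ C, ∑ i, v i * v i = 0) (hmin : ∀ w ∈ C, w ≠ 0 → 8 ≤ hammingNorm w) :
    ∃ e : α ≃ GolayPt, ∀ w : GolayPt → ZMod 2, w ∈ golayCode ↔ (fun i => w (e i)) ∈ C := by
  obtain ⟨e, h⟩ := golay_unique hα C hdim horth hmin
  refine ⟨e, fun w => ?_⟩
  have a : (support₂ fun i => w (e i)).map e.toEmbedding = support₂ w := by
    ext p; simp only [mem_map_equiv, mem_support₂, Equiv.apply_symm_apply]
  rw [← support_mem_Code, ← a, h, ind_support]

end H14
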