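import Mathlib
import Cfsg.Agent.H14.CoQD

/-! The centraliser of an octad sign change in `Co0` on 4560 vectors: checks. -/

set_option autoImplicit false
set_option maxRecDepth 100000

namespace H14.CoQ
open H13 H14.PK H14.PK.TS H27.PKx H27.MG H14.R3 H14.XS H14.CoZ H23.CoT Cfsg Subgroup
open H15 hiding memL

theorem k6 : lowOk 16 4560 178362777600 [[nat_lit 1, nat_lit 0, nat_lit 0, nat_lit 1, nat_lit 0, nat_lit 1],
   [nat_lit 1, nat_lit 0, nat_lit 0, nat_lit 0, nat_lit 2, nat_lit 0, nat_lit 0],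
   [nat_lit 2, nat_lit 2, nat_lit 2, nat_lit 3, nat_lit 2, nat_lit 3],
   [nat_lit 1, nat_lit 1, nat_lit 1, nat_lit 1],
   [nat_lit 2, nat_lit 2, nat_lit 2, nat_lit 0, nat_lit 1, nat_lit 0, nat_lit 0],
   [nat_lit 3, nat_lit 3, nat_lit 1, nat_lit 2],
   [nat_lit 0, nat_lit 0, nat_lit 1],
   [nat_lit 2, nat_lit 2, nat_lit 1, nat_lit 2, nat_lit 2, nat_lit 1],
   [nat_lit 0, nat_lit 1, nat_lit 0],
   [nat_lit 2, nat_lit 2, nat_lit 2, nat_lit 2, nat_lit 1, nat_lit 1, nat_lit 1, nat_lit 1, nat_lit 2],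
   [nat_lit 3, nat_lit 2, nat_lit 2, nat_lit 3, nat_lit 2, nat_lit 3, nat_lit 2, nat_lit 3, nat_lit 3, nat_lit 2, nat_lit 2],
   [nat_lit 1, nat_lit 0],
   [nat_lit 3, nat_lit 2, nat_lit 3, nat_lit 3, nat_lit 3, nat_lit 1, nat_lit 1],
   [nat_lit 2, nat_lit 3, nat_lit 2, nat_lit 3, nat_lit 2, nat_lit 4, nat_lit 4, nat_lit 2],
   [nat_lit 5, nat_lit 4, nat_lit 5, nat_lit 3, nat_lit 4, nat_lit 3, nat_lit 5, nat_lit 5, nat_lit 3],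
   [nat_lit 2, nat_lit 3, nat_lit 3, nat_lit 3, nat_lit 3, nat_lit 1, nat_lit 0],
   [nat_lit 3, nat_lit 2, nat_lit 1, nat_lit 3, nat_lit 1, nat_lit 4, nat_lit 3, nat_lit 4, nat_lit 2],
   [nat_lit 4, nat_lit 5, nat_lit 5, nat_lit 4, nat_lit 4, nat_lit 2, nat_lit 5, nat_lit 5, nat_lit 5],
   [nat_lit 4, nat_lit 3, nat_lit 5],
   [nat_lit 5, nat_lit 5, nat_lit 4, nat_lit 7],
   [nat_lit 7, nat_lit 8, nat_lit 6, nat_lit 8, nat_lit 5, nat_lit 5, nat_lit 5, nat_lit 8, nat_lit 8, nat_lit 7],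
   [nat_lit 8, nat_lit 7, nat_lit 6, nat_lit 9, nat_lit 7, nat_lit 7, nat_lit 8, nat_lit 7],
   [nat_lit 10, nat_lit 10],
   [nat_lit 1, nat_lit 3, nat_lit 2, nat_lit 0, nat_lit 7],
   [nat_lit 4, nat_lit 6, nat_lit 2, nat_lit 3, nat_lit 2],
   [nat_lit 6, nat_lit 6, nat_lit 6, nat_lit 9, nat_lit 2, nat_lit 5, nat_lit 2, nat_lit 8, nat_lit 7],
   [nat_lit 2, nat_lit 1, nat_lit 2, nat_lit 8, nat_lit 0]] ((H14.RK.gsOf lvC).map (nd (idv 16 4560) (Gs ++ TC))) [(nat_lit 0, [nat_lit 27, nat_lit 28]), (nat_lit 1, [nat_lit 25, nat_lit 24]), (nat_lit 2, [nat_lit 22, nat_lit 21]), (nat_lit 3, [nat_lit 20, nat_lit 19]), (nat_lit 5, [nat_lit 18, nat_lit 17]), (nat_lit 4, [nat_lit 15, nat_lit 14]), (nat_lit 114, [nat_lit 11, nat_lit 10, nat_lit 8, nat_lit 5]), (nat_lit 115, [nat_lit 3, nat_lit 2]), (nat_lit 117, [nat_lit 9]), (nat_lit 116, [nat_lit 0])] = true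 := by
  decide +kernel

theorem k7 : lowOk 7 120 174182400 [[nat_lit 0, nat_lit 0, nat_lit 1, nat_lit 1],
   [nat_lit 1, nat_lit 1, nat_lit 2, nat_lit 1, nat_lit 1, nat_lit 2, nat_lit 0],
   [nat_lit 1, nat_lit 1, nat_lit 2, nat_lit 2, nat_lit 2, nat_lit 1],
   [nat_lit 1, nat_lit 1, nat_lit 0, nat_lit 1, nat_lit 1],
   [nat_lit 2, nat_lit 2, nat_lit 0, nat_lit 2, nat_lit 2, nat_lit 1, nat_lit 1, nat_lit 2],
   [nat_lit 3, nat_lit 3, nat_lit 1, nat_lit 2, nat_lit 2, nat_lit 1],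
   [nat_lit 1, nat_lit 1],
   [nat_lit 1, nat_lit 1, nat_lit 2, nat_lit 2, nat_lit 2],
   [nat_lit 3, nat_lit 2, nat_lit 3, nat_lit 1, nat_lit 1, nat_lit 2],
   [nat_lit 4, nat_lit 3, nat_lit 3, nat_lit 4, nat_lit 3, nat_lit 2],
   [nat_lit 2, nat_lit 2, nat_lit 1, nat_lit 1, nat_lit 2, nat_lit 2, nat_lit 2, nat_lit 1, nat_lit 0],
   [nat_lit 3, nat_lit 1, nat_lit 3, nat_lit 3, nat_lit 2, nat_lit 3, nat_lit 1, nat_lit 2, nat_lit 1, nat_lit 3, nat_lit 2],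
   [nat_lit 3, nat_lit 2, nat_lit 4, nat_lit 2, nat_lit 4, nat_lit 4, nat_lit 4, nat_lit 2, nat_lit 3, nat_lit 4],
   [nat_lit 5, nat_lit 4, nat_lit 4, nat_lit 4, nat_lit 4, nat_lit 5, nat_lit 4, nat_lit 4],
   [nat_lit 6, nat_lit 4, nat_lit 6, nat_lit 6, nat_lit 4, nat_lit 6, nat_lit 4, nat_lit 5, nat_lit 5],
   [nat_lit 7, nat_lit 7, nat_lit 7, nat_lit 6, nat_lit 5],
   [nat_lit 8, nat_lit 8, nat_lit 7, nat_lit 7, nat_lit 8, nat_lit 7, nat_lit 8, nat_lit 8, nat_lit 8, nat_lit 8, nat_lit 6, nat_lit 8, nat_lit 8],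
   [nat_lit 2, nat_lit 1, nat_lit 2, nat_lit 4, nat_lit 4, nat_lit 2, nat_lit 0],
   [nat_lit 3, nat_lit 4, nat_lit 2, nat_lit 6],
   [nat_lit 2, nat_lit 5, nat_lit 6, nat_lit 2, nat_lit 3, nat_lit 2]] ((H14.RK.gsOf lvC).map (nd (idv 7 120) (UC ++ VC))) [(nat_lit 0, [nat_lit 20, nat_lit 21]), (nat_lit 1, [nat_lit 18, nat_lit 17]), (nat_lit 2, [nat_lit 15, nat_lit 14]), (nat_lit 4, [nat_lit 12, nat_lit 10]), (nat_lit 9, [nat_lit 9, nat_lit 8, nat_lit 7]), (nat_lit 24, [nat_lit 2, nat_lit 0]), (nat_lit 8, [nat_lit 1])] = true := by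
  decide +kernel

end H14.CoQ
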