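import Mathlib
import Cfsg.Agent.H14.CoSigD

/-! The centraliser of the element `y` of `Co1` covers `Suz` letter by letter. -/

set_option autoImplicit false
set_option maxRecDepth 100000

namespace H14.CoSig
open H13 H14.PK H14.PK.TS H27.PKx H27.MG L.CO Subgroup Cfsg
open H14 hiding band bor

theorem cr0 : H14.RK.relOk (eM (DI ++ DX)) (H14.RK.tlE 28 13 H13.Suz.rels [0, 0, 0, 0, 0, 0, 0, 0, 0, 0, 0, 0, 0, 0, 0, 0, 0, 0, 0, 0, 0, 0, 0, 0, 0, 0, 0, 0, 0, 0, 0, 2, 0]) 0 15 = true := by decide +kernel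

theorem cr1 : H14.RK.relOk (eM (DI ++ DX)) (H14.RK.tlE 28 13 H13.Suz.rels [0, 0, 0, 0, 0, 0, 0, 0, 0, 0, 0, 0, 0, 0, 0, 0, 0, 0, 0, 0, 0, 0, 0, 0, 0, 0, 0, 0, 0, 0, 0, 2, 0]) 15 15 = true := by decide +kernel

theorem cr2 : H14.RK.relOk (eM (DI ++ DX)) (H14.RK.tlE 28 13 H13.Suz.rels [0, 0, 0, 0, 0, 0, 0, 0, 0, 0, 0, 0, 0, 0, 0, 0, 0, 0, 0, 0, 0, 0, 0, 0, 0, 0, 0, 0, 0, 0, 0, 2, 0]) 30 2 = true := by decide +kernel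

theorem cr3 : H14.RK.relOk (eM (DI ++ DX)) (H14.RK.tlE 28 13 H13.Suz.rels [0, 0, 0, 0, 0, 0, 0, 0, 0, 0, 0, 0, 0, 0, 0, 0, 0, 0, 0, 0, 0, 0, 0, 0, 0, 0, 0, 0, 0, 0, 0, 2, 0]) 32 1 = true := by decide +kernel

theorem cr : H14.RK.Chk (eM (DI ++ DX)) (H14.RK.tlE 28 13 H13.Suz.rels [0, 0, 0, 0, 0, 0, 0, 0, 0, 0, 0, 0, 0, 0, 0, 0, 0, 0, 0, 0, 0, 0, 0, 0, 0, 0, 0, 0, 0, 0, 0, 2, 0]) := ((((H14.RK.ChkT.zero.add cr0).add cr1).add cr2).add cr3).chk (by decide +kernel)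

theorem cy : ∀ l < 7, eM (DI ++ DX) [28 + l, 13] [13, 28 + l] = true := by decide +kernel

theorem cn : nM (DI ++ DX) [28, 29] [29, 28] = true ∧ nM DI [13] [] = true := by decide +kernel

end H14.CoSig
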