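import Mathlib
import Cfsg.Agent.H14.AbsG2

/-! The permutation module of `M24` over `F₂`: `H14.Inv` (invariant subspaces as families of sets), `Inv.cases`, `cocode_rep`,
`stab_moves` (the stabiliser of a code word fixes no non-zero element of the cocode). -/

namespace H14

open Finset Cfsg Sr
open scoped symmDiff Pointwise

theorem cocode_rep (s : Finset GolayPt) : ∃ h < 4096, s ∆ toSet (h <<< 12) ∈ Code := by
  obtain ⟨n, hn, rfl⟩ := exists_toSet s
  have ha : n % 4096 < 4096 := Nat.mod_lt _ (by norm_num)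
  have hmlt : n ^^^ cw (n % 4096) < 2 ^ 24 := xor_lt24 hn (cw_lt ha)
  have hm0 : (n ^^^ cw (n % 4096)) % 4096 = 0 := by
    have := Nat.xor_mod_two_pow (a := n) (b := cw (n % 4096)) (n := 12)
    norm_num at this
    rw [this, cw_mod ha, Nat.xor_self]
  refine ⟨(n ^^^ cw (n % 4096)) / 4096, by omega, ?_⟩
  rw [show ((n ^^^ cw (n % 4096)) / 4096) <<< 12 = n ^^^ cw (n % 4096) by rw [Nat.shiftLeft_eq]; omega, toSet_xor,
    symmDiff_symmDiff_cancel_left]
  exact toSet_cw_mem ha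

/-- one of two tables moves every non-zero coset of the code -/
noncomputable def mvOk (m T T' : ℕ) : Bool :=
  band (ok24 T) (band (ok24 T') (band (Nat.beq (pm T m) m) (band (Nat.beq (pm T' m) m) (all2 64 64 fun h => bor (Nat.beq h 0)
    (H13.force (Nat.shiftLeft h 12) fun x => bor (!isCw (Nat.xor (pm T x) x)) (!isCw (Nat.xor (pm T' x) x)))))))

theorem mvOk_spec {m T T' : ℕ} (h : mvOk m T T' = true) {s : Finset GolayPt} (hs : s ∉ Code) :
    ∃ g ∈ M24, g • toSet m = toSet m ∧ (g • s) ∆ s ∉ Code := by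
  rw [mvOk, band_iff, band_iff, band_iff, band_iff, beq_iff', beq_iff', all2_iff] at h
  obtain ⟨h1, h2, h3, h4, h5⟩ := h
  obtain ⟨a, ha, hc⟩ := cocode_rep s
  have h6 := h5 a ha
  rw [bor_iff, beq_iff', frc, bor_iff, Bool.not_eq_true', Bool.not_eq_true'] at h6
  have hl : a <<< 12 < 2 ^ 24 := by rw [Nat.shiftLeft_eq]; omega
  have key : ∀ T, ok24 T = true → pm T m = m → isCw (Nat.xor (pm T (Nat.shiftLeft a 12)) (Nat.shiftLeft a 12)) = false →
      ∃ g ∈ M24, g • toSet m = toSet m ∧ (g • s) ∆ s ∉ Code := by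
    intro T h1 h2 h3
    obtain ⟨g, hg, rfl⟩ := in_M24 h1
    refine ⟨g, hg, by rw [SP_smul, h2], fun c => ?_⟩
    have d := symmDiff_trans_mem (symmDiff_trans_mem c (smul_symmDiff' g _ _ ▸ M24_smul_mem hg hc)) hc
    rw [SP_smul, ← toSet_xor, toSet_mem_Code_iff (xor_lt24 ((SP_tab g).pm_lt _) hl)] at d
    exact Bool.false_ne_true (h3.symm.trans d)
  rcases h6 with rfl | h6 | h6
  · rw [Nat.zero_shiftLeft, toSet_zero, ← bot_eq_empty, symmDiff_bot] at hc; exact absurd hc hs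
  exacts [key _ h1 h3 h6, key _ h2 h4 h6]

theorem stab_moves {c s : Finset GolayPt} (hc : c ∈ Code) (hs : s ∉ Code) : ∃ g ∈ M24, g • c = c ∧ (g • s) ∆ s ∉ Code := by
  have key : ∀ {d c : Finset GolayPt}, (∀ s ∉ Code, ∃ g ∈ M24, g • d = d ∧ (g • s) ∆ s ∉ Code) → (∃ k ∈ M24, k • d = c) →
      ∃ g ∈ M24, g • c = c ∧ (g • s) ∆ s ∉ Code := by
    rintro d _ h ⟨k, hk, rfl⟩
    obtain ⟨g, hg, a, b⟩ := h (k⁻¹ • s) (mt (M24_smul_mem_iff (inv_mem hk)).1 hs)
    refine ⟨k * g * k⁻¹, mul_mem (mul_mem hk hg) (inv_mem hk), by rw [mul_smul, inv_smul_smul, mul_smul, a], fun e => b ?_⟩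
    rwa [← M24_smul_mem_iff hk, smul_symmDiff', smul_inv_smul, ← mul_smul, ← mul_smul]
  have ko : ∀ {c : Finset GolayPt}, c ∈ octads → ∃ g ∈ M24, g • c = c ∧ (g • s) ∆ s ∉ Code := fun hc =>
    key (fun _ => mvOk_spec (T := 0x74a88bd5762c5e780269134cc0a864) (T' := 0x45e324d60f998a372a8b136c460407) (by decide +kernel))
      (exists_smul_oct0 hc)
  rcases Code_card hc with h | h | h | h | h
  · obtain ⟨g, hg, -, b⟩ := ko oct0_mem
    exact ⟨g, hg, by rw [card_eq_zero.1 h, smul_finset_empty], b⟩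
  · exact ko ⟨hc, h⟩
  · exact key (fun _ => mvOk_spec (T := 0xb51f3705698dc4c3a9a6a90b218110) (T' := 0xa4de7706c4a95905c526b814268e48)
      (by decide +kernel)) (dodecad_trans dodec0_mem ⟨hc, h⟩)
  · obtain ⟨g, hg, a, b⟩ := ko (c := cᶜ) ⟨Code_compl hc, by rw [card_compl, card_pt, h]⟩
    exact ⟨g, hg, compl_injective (smul_compl' g c ▸ a), b⟩
  · obtain ⟨g, hg, -, b⟩ := ko oct0_mem
    exact ⟨g, hg, by rw [(card_eq_iff_eq_univ c).1 (h.trans card_pt.symm), smul_finset_univ], b⟩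

theorem fix4_moves {u c : Finset GolayPt} (hu : u.card ≤ 4) (hc : c ∈ Code) (h0 : c ≠ ∅) (h1 : c ≠ univ) :
    ∃ g ∈ M24, g • u = u ∧ g • c ≠ c ∧ g • c ≠ cᶜ := by
  obtain ⟨t, ht, -, h4⟩ := exists_subsuperset_card_eq (subset_univ u) hu (by rw [card_univ, card_pt]; norm_num)
  obtain ⟨k, hk, rfl⟩ := M24_smul_eq (s := toSet 15) (t := t) (by rw [card_toSet (by norm_num)]; decide +kernel)
    (by rw [card_toSet (by norm_num), h4]; decide +kernel)
  obtain ⟨a, ha, e⟩ := mem_Code_iff.1 (M24_smul_mem (inv_mem hk) hc)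
  obtain rfl := inv_smul_eq_iff.1 e
  have key : ∀ T, band (ok24 T) (fixX 15 T) = true → pm T (cw a) ≠ cw a ∧ pm T (cw a) ≠ cw a ^^^ 0xffffff →
      ∃ g ∈ M24, g • u = u ∧ g • k • toSet (cw a) ≠ k • toSet (cw a) ∧ g • k • toSet (cw a) ≠ (k • toSet (cw a))ᶜ := by
    intro T h1 h2
    rw [band_iff, fixX, allLt_iff] at h1
    obtain ⟨g, hg, rfl⟩ := in_M24 h1.1
    refine ⟨k * g * k⁻¹, mul_mem (mul_mem hk hg) (inv_mem hk), smul_eq_of_fix fun p hp => ?_, ?_⟩
    · obtain ⟨q, hq, rfl⟩ := mem_smul_finset.1 (ht hp)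
      have := h1.2 _ (idx_lt q)
      rw [bimp_iff, beq_iff', bit_eq, ← mem_toSet] at this
      change (k * g * k⁻¹) • k • q = _
      rw [mul_smul, inv_smul_smul, mul_smul, ← pt_idx q]
      exact congrArg k ((SP_fix (idx_lt q)).2 (this hq))
    · rw [mul_smul, inv_smul_smul, mul_smul, ← smul_compl', SP_smul, ← toSet_compl, Ne, Ne, smul_left_cancel_iff,
        smul_left_cancel_iff, toSet_eq_iff ((SP_tab g).pm_lt _) (cw_lt ha),
        toSet_eq_iff ((SP_tab g).pm_lt _) (xor_lt24 (cw_lt ha) (by norm_num))]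
      exact h2
  have := (all2_iff 64 64 fun a => H13.force (cw a) fun c => bor (Nat.beq c 0) (bor (Nat.beq c 0xffffff) (H13.anyL (fun T =>
    H13.force (pm T c) fun x => band (!Nat.beq x c) (!Nat.beq x (Nat.xor c 0xffffff)))
    [0x620b16b8f2a12e985a7533d4b18820, 0x915f03a2845566bb9a2cb39a918820]))).1 (by decide +kernel) a ha
  rw [frc, bor_iff, bor_iff, beq_iff', beq_iff', H13.anyL_iff] at this
  rcases this with h | h | ⟨T, hT, h⟩
  · rw [h, toSet_zero, smul_finset_empty] at h0; exact absurd rfl h0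
  · rw [h, toSet_ones, smul_finset_univ] at h1; exact absurd rfl h1
  · rw [frc, band_iff, Bool.not_eq_true', Bool.not_eq_true', ← Bool.not_eq_true, ← Bool.not_eq_true, beq_iff', beq_iff'] at h
    exact key T (H13.allL_iff.1 (by decide +kernel : H13.allL (fun T => band (ok24 T) (fixX 15 T)) _ = true) T hT) h

/-- invariant subspaces of the permutation module -/
structure Inv (W : Set (Finset GolayPt)) : Prop where
  zero : ∅ ∈ W
  add : ∀ s ∈ W, ∀ t ∈ W, s ∆ t ∈ W
  act : ∀ g ∈ M24, ∀ s ∈ W, g • s ∈ W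

namespace Inv
variable {W : Set (Finset GolayPt)} (h : Inv W)
include h

theorem code {c : Finset GolayPt} (hW : c ∈ W) (hc : c ∈ Code) (h0 : c ≠ ∅) (h1 : c ≠ univ) : Code ⊆ W := by
  have ko : ∀ o ∈ W, o ∈ octads → Code ⊆ W := fun o a b => Code_oct_induction h.zero (fun o' ho' => by
    obtain ⟨g, hg, rfl⟩ := octad_trans b ho'; exact h.act g hg o a) fun s t a b => h.add s a t b
  have o : ∀ m < 2 ^ 24, ∀ k, isCw m = true ∧ pc m = k → toSet m ∈ Code ∧ (toSet m).card = k := fun m hm k a =>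
    ⟨toSet_mem_Code a.1, (card_toSet hm).trans a.2⟩
  rcases Code_card hc with a | a | a | a | a
  · exact absurd (card_eq_zero.1 a) h0
  · exact ko c hW ⟨hc, a⟩
  · have b : ∀ d ∈ dodecads, d ∈ W := fun d hd => by
      obtain ⟨g, hg, rfl⟩ := dodecad_trans ⟨hc, a⟩ hd; exact h.act g hg c hW
    exact ko _ (h.add _ (b _ dodec0_mem) _ (b _ (o 0x6fdd (by norm_num) 12 (by decide +kernel))))
      (toSet_xor _ _ ▸ o _ (by decide +kernel) 8 (by decide +kernel))
  · have b : ∀ d ∈ octads, dᶜ ∈ W := fun d hd => by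
      obtain ⟨g, hg, rfl⟩ := octad_trans (o := cᶜ) ⟨Code_compl hc, by rw [card_compl, card_pt, a]⟩ hd
      rw [smul_compl', compl_compl]; exact h.act g hg c hW
    refine ko _ (h.add _ (b _ oct0_mem) _ (b _ (o 0x293e (by norm_num) 8 (by decide +kernel)))) ?_
    rw [compl_symmDiff_compl, ← toSet_xor]; exact o _ (by decide +kernel) 8 (by decide +kernel)
  · exact absurd ((card_eq_iff_eq_univ c).1 (a.trans card_pt.symm)) h1

theorem even {u : Finset GolayPt} (hW : u ∈ W ∨ uᶜ ∈ W) (h0 : u ≠ ∅) (h4 : u.card ≤ 4) (t : Finset GolayPt) (ht : 2 ∣ t.card) :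
    t ∈ W := by
  obtain ⟨a, ha⟩ := nonempty_iff_ne_empty.2 h0
  obtain ⟨b, hb⟩ : uᶜ.Nonempty := card_pos.1 (by rw [card_compl, card_pt]; omega)
  rw [mem_compl] at hb
  have hab : a ≠ b := fun e => hb (e ▸ ha)
  obtain ⟨g, hg, e⟩ := M24_smul_eq (s := u) (t := insert b (u.erase a)) (by omega)
    (by rw [card_insert_of_notMem (by simp [hb]), card_erase_add_one ha])
  have e' : u ∆ (g • u) = {a, b} := by
    rw [e]; ext x
    simp only [mem_symmDiff, mem_insert, mem_erase, mem_singleton]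
    by_cases c : x = a
    · simp [c, ha, hab]
    · by_cases d : x = b <;> simp [c, d, hb]
  have p : ({a, b} : Finset GolayPt) ∈ W := by
    rcases hW with c | c
    · exact e' ▸ h.add _ c _ (h.act g hg _ c)
    · have := h.add _ c _ (h.act g hg _ c)
      rwa [smul_compl', compl_symmDiff_compl, e'] at this
  have q : ∀ s : Finset GolayPt, s.card = 2 → s ∈ W := fun s hs => by
    obtain ⟨g, hg, rfl⟩ := M24_smul_eq (s := {a, b}) (t := s) (by rw [card_pair hab]; omega) (by rw [card_pair hab, hs])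
    exact h.act g hg _ p
  induction t using Finset.strongInduction with
  | H t ih =>
    rcases t.eq_empty_or_nonempty with rfl | c
    · exact h.zero
    · have := c.card_pos
      obtain ⟨s, hs, h2⟩ := exists_subset_card_eq (s := t) (n := 2) (by omega)
      have d := h.add _ (q s h2) _ (ih (t \ s) (sdiff_ssubset hs (card_pos.1 (by omega))) (by rw [card_sdiff_of_subset hs]; omega))
      rwa [disjoint_sdiff_self_right.symmDiff_eq_sup, sup_sdiff_cancel_right hs] at d

theorem cases : W = {∅} ∨ W = {∅, univ} ∨ W = Code ∨ W = {s | 2 ∣ s.card} ∨ W = Set.univ := by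
  by_cases c : W ⊆ Code
  · by_cases d : ∃ s ∈ W, s ≠ ∅ ∧ s ≠ univ
    · obtain ⟨s, a, b, b'⟩ := d
      exact Or.inr (Or.inr (Or.inl (c.antisymm (h.code a (c a) b b'))))
    · replace d : ∀ s ∈ W, s ≠ ∅ → s = univ := fun s a b => by_contra fun e => d ⟨s, a, b, e⟩
      by_cases e : univ ∈ W
      · exact Or.inr (Or.inl (Set.Subset.antisymm (fun s hs => or_iff_not_imp_left.2 (d s hs))
          (Set.insert_subset h.zero (Set.singleton_subset_iff.2 e))))
      · exact Or.inl (Set.eq_singleton_iff_unique_mem.2 ⟨h.zero, fun s hs => by_contra fun a => e (d s hs a ▸ hs)⟩)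
  · obtain ⟨s, hs, hs'⟩ := Set.not_subset.1 c
    obtain ⟨u, h1, h2⟩ := exists_leader none s
    have h4 : u.card ≤ 4 := by omega
    have h0 : u ≠ ∅ := by rintro rfl; rw [← bot_eq_empty, symmDiff_bot] at h2; exact hs' h2
    have a : u ∈ W ∨ uᶜ ∈ W := by
      by_cases e0 : s ∆ u = ∅
      · exact Or.inl (symmDiff_eq_bot.1 e0 ▸ hs)
      by_cases e1 : s ∆ u = univ
      · exact Or.inr (((symmDiff_eq_top _ _).1 e1).eq_compl ▸ hs)
      obtain ⟨g, hg, b1, b2, b3⟩ := fix4_moves h4 h2 e0 e1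
      have b : (g • (s ∆ u)) ∆ (s ∆ u) ∈ W := by
        rw [smul_symmDiff', b1, symmDiff_symmDiff_symmDiff_comm, symmDiff_self, symmDiff_bot]
        exact h.add _ (h.act g hg s hs) _ hs
      have := h.add _ hs _ (h.code b (Code_symmDiff (M24_smul_mem hg h2) h2) (fun e => b2 (symmDiff_eq_bot.1 e))
        (fun e => b3 ((symmDiff_eq_top _ _).1 e).eq_compl) h2)
      exact Or.inl (symmDiff_symmDiff_cancel_left s u ▸ this)
    have b := h.even a h0 h4
    by_cases d : ∃ t ∈ W, ¬ 2 ∣ t.card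
    · obtain ⟨t, ht, d⟩ := d
      refine Or.inr (Or.inr (Or.inr (Or.inr (Set.eq_univ_of_forall fun v => ?_))))
      by_cases e : 2 ∣ v.card
      · exact b v e
      · have := card_symmDiff_add t v
        exact symmDiff_symmDiff_cancel_left t v ▸ h.add _ ht _ (b _ (by omega))
    · push Not at d
      exact Or.inr (Or.inr (Or.inr (Or.inl (Set.Subset.antisymm d b))))

end Inv

theorem ind_smul (g : Equiv.Perm GolayPt) (s : Finset GolayPt) : (fun p => ind s (g.symm p)) = ind (g • s) := by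
  ext p; simp only [ind, ← inv_smul_mem_iff]; rfl

theorem ind_univ : ind (univ : Finset GolayPt) = fun _ => 1 := by ext p; simp [ind]

theorem inv_of_sub {W : Submodule (ZMod 2) (GolayPt → ZMod 2)} (h : ∀ σ ∈ M24, ∀ w ∈ W, (fun p => w (σ.symm p)) ∈ W) :
    Inv {s | ind s ∈ W} :=
  ⟨by change ind ∅ ∈ W; rw [ind_empty]; exact zero_mem _, fun s a t b => by
    change ind _ ∈ W; rw [ind_symmDiff]; exact add_mem a b, fun g hg s a => by
    change ind _ ∈ W; rw [← ind_smul]; exact h g hg _ a⟩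

theorem sub_ext {W W' : Set (GolayPt → ZMod 2)} (h : ∀ s, ind s ∈ W ↔ ind s ∈ W') : W = W' :=
  Set.ext fun w => ind_support w ▸ h _

theorem ind_mem_span_one (s : Finset GolayPt) :
    ind s ∈ Submodule.span (ZMod 2) {fun _ : GolayPt => (1 : ZMod 2)} ↔ s = ∅ ∨ s = univ := by
  rw [Submodule.mem_span_singleton, ← ind_univ]
  constructor
  · rintro ⟨a, h⟩
    rcases zmod2_cases a with rfl | rfl
    · exact Or.inl (ind_inj (h.symm.trans ((zero_smul _ _).trans ind_empty.symm)))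
    · exact Or.inr (ind_inj (h.symm.trans (one_smul _ _)))
  · rintro (rfl | rfl)
    exacts [⟨0, (zero_smul _ _).trans ind_empty.symm⟩, ⟨1, one_smul _ _⟩]

end H14
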