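import Mathlib
import Cfsg.Agent.H13.Basic
import Cfsg.Agent.H15.Mult

/-! Extensions by binary modules through derivations into permutation modules (namespace `H14.Sh`). -/

namespace H14.Sh

open Equiv H13

variable {E Ω : Type*} [Group E]

theorem z2 (a : ZMod 2) : a + a = 0 := CharTwo.add_self_eq_zero a

theorem f2 (a : Ω → ZMod 2) : a + a = 0 := funext fun _ => z2 _

theorem f2' {a b : Ω → ZMod 2} (h : a + b = 0) : a = b := by rw [← add_zero a, ← f2 b, ← add_assoc, h, zero_add]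

/-- additive on a subgroup -/
def AddOn (U : Subgroup E) (χ : E → ZMod 2) : Prop := ∀ a ∈ U, ∀ b ∈ U, χ (a * b) = χ a + χ b

theorem AddOn.one {U : Subgroup E} {χ : E → ZMod 2} (h : AddOn U χ) : χ 1 = 0 := by
  simpa using h 1 U.one_mem 1 U.one_mem

theorem ext_compl {N B : Subgroup E} [hN : N.Normal] {l : E → ZMod 2} (hl : AddOn N l) (hc : ∀ b ∈ B, ∀ n ∈ N, l (b * n * b⁻¹) = l n)
    (hB : ∀ n ∈ N, n ∈ B → l n = 0) : ∃ χ, AddOn (N ⊔ B) χ ∧ ∀ n ∈ N, χ n = l n := by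
  have a : ∀ x ∈ N ⊔ B, ∃ n ∈ N, n⁻¹ * x ∈ B := fun x hx => by
    obtain ⟨n, hn, b, hb, rfl⟩ := Subgroup.mem_sup_of_normal_left.1 hx
    exact ⟨n, hn, by simpa using hb⟩
  choose! ν h1 h2 using a
  have k : ∀ x ∈ N ⊔ B, ∀ n ∈ N, n⁻¹ * x ∈ B → l (ν x) = l n := fun x hx n hn h => by
    have := hl _ hn _ (N.mul_mem (N.inv_mem hn) (h1 x hx))
    rwa [mul_inv_cancel_left, hB _ (N.mul_mem (N.inv_mem hn) (h1 x hx)) (by
      simpa [mul_assoc] using B.mul_mem h (B.inv_mem (h2 x hx))), add_zero] at this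
  refine ⟨fun x => l (ν x), fun x hx y hy => ?_, fun n hn => k n (Subgroup.mem_sup_left hn) n hn (by simp)⟩
  have c := hN.conj_mem _ (h1 y hy) ((ν x)⁻¹ * x)
  beta_reduce
  rw [k _ (mul_mem hx hy) _ (N.mul_mem (h1 x hx) c) (by
    convert B.mul_mem (h2 x hx) (h2 y hy) using 1; group), hl _ (h1 x hx) _ c, hc _ (h2 x hx) _ (h1 y hy)]

/-- the action on functions -/
def act (g : Perm Ω) : (Ω → ZMod 2) →+ (Ω → ZMod 2) where
  toFun f x := f (g⁻¹ x)
  map_zero' := rfl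
  map_add' _ _ := rfl

theorem act_apply (g : Perm Ω) (f : Ω → ZMod 2) (x : Ω) : act g f x = f (g⁻¹ x) := rfl

theorem act_mul (g h : Perm Ω) (f : Ω → ZMod 2) : act (g * h) f = act g (act h f) := rfl

theorem act_one (f : Ω → ZMod 2) : act 1 f = f := rfl

/-- a derivation on `U` -/
def Der (ρ : E →* Perm Ω) (U : Subgroup E) (F : E → Ω → ZMod 2) : Prop := ∀ a ∈ U, ∀ b ∈ U, F (a * b) = F a + act (ρ a) (F b)

theorem shap (ρ : E →* Perm Ω) (U : Subgroup E) (x₀ : Ω) {K : Subgroup E} (hK : ∀ a ∈ U, ρ a x₀ = x₀ → a ∈ K) {χ : E → ZMod 2}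
    (hχ : AddOn K χ) : ∃ F, Der ρ U F ∧ (∀ a x, (∀ t ∈ U, ρ t x₀ ≠ x) → F a x = 0) ∧
      ∀ t ∈ U, ∃ s ∈ U, ρ s x₀ = ρ t x₀ ∧ ∀ n, ρ n (ρ t x₀) = ρ t x₀ → F n (ρ t x₀) = χ (s⁻¹ * n * s) := by
  classical
  have a : ∀ x, (∃ t ∈ U, ρ t x₀ = x) → ∃ t ∈ U, ρ t x₀ = x := fun _ => id
  choose! τ h1 h2 using a
  have b : ∀ a ∈ U, ∀ x, (∃ t ∈ U, ρ t x₀ = (ρ a)⁻¹ x) ↔ ∃ t ∈ U, ρ t x₀ = x := fun a ha x =>
    ⟨fun ⟨t, c, d⟩ => ⟨a * t, mul_mem ha c, by simp [d]⟩, fun ⟨t, c, d⟩ => ⟨a⁻¹ * t, mul_mem (inv_mem ha) c, by simp [d]⟩⟩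
  have c : ∀ a ∈ U, ∀ x, (∃ t ∈ U, ρ t x₀ = x) → (τ x)⁻¹ * a * τ ((ρ a)⁻¹ x) ∈ K := fun a ha x hx =>
    hK _ (mul_mem (mul_mem (inv_mem (h1 x hx)) ha) (h1 _ ((b a ha x).2 hx))) (by
      rw [map_mul, map_mul, Perm.mul_apply, Perm.mul_apply, h2 _ ((b a ha x).2 hx), ← Perm.mul_apply (ρ a), mul_inv_cancel, Perm.one_apply, map_inv,
        Perm.inv_eq_iff_eq, h2 x hx])
  refine ⟨fun a x => if ∃ t ∈ U, ρ t x₀ = x then χ ((τ x)⁻¹ * a * τ ((ρ a)⁻¹ x)) else 0, fun a ha a' ha' => funext fun x => ?_,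
    fun a x h => if_neg fun ⟨t, c, d⟩ => h t c d, fun t ht => ⟨_, h1 _ ⟨t, ht, rfl⟩, h2 _ ⟨t, ht, rfl⟩, fun n hn => ?_⟩⟩
  · simp only [Pi.add_apply, act_apply, b a ha]
    split_ifs with h
    · rw [← hχ _ (c a ha x h) _ (c a' ha' _ ((b a ha x).2 h)), map_mul, mul_inv_rev, Perm.mul_apply]
      congr 1; group
    · simp
  · beta_reduce
    rw [if_pos ⟨t, ht, rfl⟩, Perm.inv_eq_iff_eq.2 hn.symm]

theorem transf [Finite E] {D U : Subgroup E} (h : Odd (D.relIndex U)) {χ : E → ZMod 2} (hχ : AddOn D χ) :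
    ∃ χ', AddOn U χ' ∧ ∀ n c, (∀ t ∈ U, t⁻¹ * n * t ∈ D ∧ χ (t⁻¹ * n * t) = c) → χ' n = c := by
  classical
  have := Fintype.ofFinite (E ⧸ D)
  obtain ⟨F, a, b, c⟩ := shap (MulAction.toPermHom E (E ⧸ D)) U ((1 : E) : E ⧸ D) (K := D)
    (fun a _ h => MulAction.stabilizer_quotient D ▸ h) hχ
  refine ⟨fun a => ∑ x, F a x, fun x hx y hy => ?_, fun n d hn => ?_⟩
  · simp only [a x hx y hy, Pi.add_apply, Finset.sum_add_distrib, act_apply]
    rw [Equiv.sum_comp _ (F y)]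
  · have e : (MulAction.orbit U ((1 : E) : E ⧸ D)).ncard = D.relIndex U := by
      rw [← MulAction.index_stabilizer]
      congr 1; ext u
      exact SetLike.ext_iff.1 (MulAction.stabilizer_quotient D) u.1
    beta_reduce
    rw [← Finset.sum_subset (Finset.subset_univ (MulAction.orbit U ((1 : E) : E ⧸ D)).toFinset) fun x _ hx =>
      b n x fun t ht k => hx (Set.mem_toFinset.2 ⟨⟨t, ht⟩, k⟩), Finset.sum_congr rfl (g := fun _ => d), Finset.sum_const,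
      ← Set.ncard_eq_toFinset_card', e, nsmul_eq_mul, (ZMod.natCast_eq_one_iff_odd).2 h, one_mul]
    intro x hx
    obtain ⟨⟨t, ht⟩, rfl⟩ := Set.mem_toFinset.1 hx
    obtain ⟨s, hs, -, k⟩ := c t ht
    refine (k n ?_).trans (hn s hs).2
    exact (QuotientGroup.eq.2 (by simpa [mul_assoc] using (hn t ht).1)).symm

/-- a derivation on `U` which maps the normal subgroup `N` bijectively onto `Λ` -/
structure St (ρ : E →* Perm Ω) (U N : Subgroup E) (Λ : AddSubgroup (Ω → ZMod 2)) (F : E → Ω → ZMod 2) : Prop where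
  le : N ≤ U
  nor : N.Normal
  triv : ∀ n ∈ N, ρ n = 1
  der : Der ρ U F
  lam : ∀ f, f ∈ Λ ↔ ∃ n ∈ N, F n = f
  inj : ∀ n ∈ N, F n = 0 → n = 1

/-- the formal derivative of a word -/
def dW (ρ : ℕ → Perm Ω) (f : ℕ → Ω → ZMod 2) : List ℕ → Ω → ZMod 2
  | [] => 0
  | a :: u => f a + act (ρ a) (dW ρ f u)

namespace St

variable {ρ : E →* Perm Ω} {U N : Subgroup E} {Λ : AddSubgroup (Ω → ZMod 2)} {F : E → Ω → ZMod 2} (S : St ρ U N Λ F)
include S

theorem one : F 1 = 0 := by simpa [act_one] using S.der 1 U.one_mem 1 U.one_mem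

theorem mem {n : E} (h : n ∈ N) : F n ∈ Λ := (S.lam _).2 ⟨n, h, rfl⟩

theorem nmul {n a : E} (h : n ∈ N) (ha : a ∈ U) : F (n * a) = F n + F a := by rw [S.der _ (S.le h) _ ha, S.triv n h, act_one]

theorem inv {a : E} (ha : a ∈ U) : F a⁻¹ = act (ρ a⁻¹) (F a) :=
  f2' (by rw [← S.der _ (inv_mem ha) _ ha, inv_mul_cancel, S.one])

theorem act_mem {a : E} (ha : a ∈ U) {f : Ω → ZMod 2} (h : f ∈ Λ) : act (ρ a) f ∈ Λ := by
  obtain ⟨n, hn, rfl⟩ := (S.lam f).1 h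
  have := S.nmul (S.nor.conj_mem n hn a) ha
  rw [inv_mul_cancel_right, S.der _ ha _ (S.le hn), add_comm, add_left_inj] at this
  exact this ▸ S.mem (S.nor.conj_mem n hn a)

theorem add (q : Ω → ZMod 2) : St ρ U N Λ fun a => F a + (q + act (ρ a) q) :=
  have e : ∀ n ∈ N, F n + (q + act (ρ n) q) = F n := fun n hn => by rw [S.triv n hn, act_one, f2, add_zero]
  ⟨S.le, S.nor, S.triv, fun a ha b hb => by
    simp only [S.der a ha b hb, map_mul, map_add, act_mul]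
    linear_combination (exp := 1) -f2 (act (ρ a) q), fun f => (S.lam f).trans (exists_congr fun n => and_congr_right fun hn => by
      rw [e n hn]), fun n hn h => S.inj n hn ((e n hn).symm.trans h)⟩

/-- the elements with value in `Λ` -/
def sub : Subgroup E where
  carrier := {a | a ∈ U ∧ F a ∈ Λ}
  one_mem' := ⟨U.one_mem, S.mem N.one_mem⟩
  mul_mem' h h' := ⟨mul_mem h.1 h'.1, S.der _ h.1 _ h'.1 ▸ add_mem h.2 (S.act_mem h.1 h'.2)⟩
  inv_mem' h := ⟨inv_mem h.1, S.inv h.1 ▸ S.act_mem (inv_mem h.1) h.2⟩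

theorem compl (h : U ≤ S.sub) : ∃ A ≤ U, A ⊓ N = ⊥ ∧ N ⊔ A = U := by
  let A : Subgroup E :=
    { carrier := {a | a ∈ U ∧ F a = 0}
      one_mem' := ⟨U.one_mem, S.one⟩
      mul_mem' := fun h h' => ⟨mul_mem h.1 h'.1, by rw [S.der _ h.1 _ h'.1, h.2, h'.2, map_zero, add_zero]⟩
      inv_mem' := fun h => ⟨inv_mem h.1, by rw [S.inv h.1, h.2, map_zero]⟩ }
  refine ⟨A, fun _ h => h.1, eq_bot_iff.2 fun a ha => S.inj a ha.2 ha.1.2, le_antisymm (sup_le S.le fun _ h => h.1) fun a ha => ?_⟩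
  obtain ⟨n, hn, e⟩ := (S.lam _).1 (h ha).2
  rw [← inv_mul_cancel_left n a]
  exact Subgroup.mul_mem_sup (inv_mem hn) ⟨mul_mem (S.le hn) ha, by rw [S.nmul hn ha, e, f2]⟩

theorem word {g : ℕ → E} {f : ℕ → Ω → ZMod 2} {u : List ℕ} (h : ∀ i ∈ u, g i ∈ U ∧ F (g i) + f i ∈ Λ) :
    F (evalW g u) + dW (fun i => ρ (g i)) f u ∈ Λ := by
  induction u with
  | nil => simpa [dW] using S.mem N.one_mem
  | cons a u ih =>
    obtain ⟨b, c⟩ := List.forall_mem_cons.1 h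
    rw [evalW_cons, S.der _ b.1 _ (evalW_mem fun i hi => (c i hi).1), dW, add_add_add_comm, ← map_add]
    exact add_mem b.2 (S.act_mem b.1 (ih c))

theorem rel {g : ℕ → E} {f : ℕ → Ω → ZMod 2} {u : List ℕ} (h : ∀ i ∈ u, g i ∈ U ∧ F (g i) + f i ∈ Λ) (e : evalW g u ∈ N) :
    dW (fun i => ρ (g i)) f u ∈ Λ := (Λ.add_mem_cancel_left (S.mem e)).1 (S.word h)

theorem congr {G : Type*} [Group G] {π : E →* G} (hN : π.ker = N) {a b : E} (hb : b ∈ U) (e : π a = π b) : F a + F b ∈ Λ := by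
  have : a * b⁻¹ ∈ N := hN ▸ (by simp [MonoidHom.mem_ker, e])
  rw [← inv_mul_cancel_right a b, S.nmul this hb, add_assoc, f2, add_zero]
  exact S.mem this

theorem uniq {G : Type*} [Group G] {π : E →* G} (hN : π.ker = N) {a b : E} (hb : b ∈ U) (e : π a = π b) (e' : F a = F b) : a = b := by
  have : a * b⁻¹ ∈ N := hN ▸ (by simp [MonoidHom.mem_ker, e])
  refine mul_inv_eq_one.1 (S.inj _ this (add_right_cancel (b := F b) ?_))
  rw [← S.nmul this hb, inv_mul_cancel_right, e', zero_add]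

theorem avg {G : Type*} [Group G] [Finite G] {π : E →* G} (hπ : Function.Surjective π) (hN : π.ker = N) {B : Subgroup G}
    (hB : B.comap π ≤ U) (h : Odd (Nat.card B)) : ∃ q, B.comap π ≤ (S.add q).sub := by
  have := Fintype.ofFinite B
  choose s hs using hπ
  have k : ∀ b : B, s b ∈ U := fun b => hB (by simp [hs])
  refine ⟨∑ b : B, F (s b), fun a ha => ⟨hB ha, ?_⟩⟩
  have : ∑ b : B, (F (s (⟨π a, ha⟩ * b : B)) + (F a + act (ρ a) (F (s b)))) ∈ Λ := sum_mem fun b _ => by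
    rw [← S.der _ (hB ha) _ (k b)]
    exact S.congr hN (mul_mem (hB ha) (k b)) (by simp [hs])
  rw [Finset.sum_add_distrib, Finset.sum_add_distrib, ← map_sum, Finset.sum_const, Finset.card_univ, ← Nat.card_eq_fintype_card,
    ← Nat.cast_smul_eq_nsmul (ZMod 2), (ZMod.natCast_eq_one_iff_odd).2 h, one_smul,
    show ∑ b : B, F (s (⟨π a, ha⟩ * b : B)) = _ from Equiv.sum_comp (Equiv.mulLeft (⟨π a, ha⟩ : B)) fun b => F (s b)] at this
  rwa [add_left_comm] at this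

end St

theorem iso_of {E' G : Type*} [Group E'] [Group G] {π : E →* G} {π' : E' →* G}
    {ρ : G →* Perm Ω} {Λ : AddSubgroup (Ω → ZMod 2)} {F : E → Ω → ZMod 2} {F' : E' → Ω → ZMod 2}
    (S : St (ρ.comp π) ⊤ π.ker Λ F) (S' : St (ρ.comp π') ⊤ π'.ker Λ F') {s : Set G} (hs : Subgroup.closure s = ⊤)
    (h : ∀ g ∈ s, ∃ a a', π a = g ∧ π' a' = g ∧ F a + F' a' ∈ Λ) : Nonempty (E ≃* E') := by
  have k : ∀ g : G, ∃ a a', π a = g ∧ π' a' = g ∧ F a = F' a' := fun g => by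
    induction hs.ge (Subgroup.mem_top g) using Subgroup.closure_induction with
    | mem g hg =>
      obtain ⟨a, a', b, c, d⟩ := h g hg
      obtain ⟨n, hn, e⟩ := (S.lam _).1 d
      exact ⟨n * a, a', by rw [map_mul, hn, one_mul, b], c, by rw [S.nmul hn trivial, e, add_right_comm, f2, zero_add]⟩
    | one => exact ⟨1, 1, map_one _, map_one _, S.one.trans S'.one.symm⟩
    | mul g g' _ _ i j =>
      obtain ⟨a, a', b, c, d⟩ := i
      obtain ⟨x, x', y, z, w⟩ := j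
      exact ⟨a * x, a' * x', by rw [map_mul, b, y], by rw [map_mul, c, z], by
        rw [S.der _ trivial _ trivial, S'.der _ trivial _ trivial, d, w, MonoidHom.comp_apply, MonoidHom.comp_apply, b, c]⟩
    | inv g _ i =>
      obtain ⟨a, a', b, c, d⟩ := i
      exact ⟨a⁻¹, a'⁻¹, by rw [map_inv, b], by rw [map_inv, c], by
        rw [S.inv trivial, S'.inv trivial, d, MonoidHom.comp_apply, MonoidHom.comp_apply, map_inv, map_inv π', b, c]⟩
  have l : ∀ a, ∃ a', π a = π' a' ∧ F a = F' a' := fun a => by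
    obtain ⟨b, b', c, d, e⟩ := k (π a)
    obtain ⟨n, hn, f⟩ := (S'.lam _).1 (S.congr rfl (a := a) trivial c.symm)
    exact ⟨n * b', by rw [map_mul, hn, one_mul, d], by rw [S'.nmul hn trivial, f, ← e, add_assoc, f2, add_zero]⟩
  choose φ h1 h2 using l
  refine ⟨MulEquiv.ofBijective (MonoidHom.mk' φ fun a b => S'.uniq rfl trivial (by rw [map_mul, ← h1, ← h1, ← h1, map_mul]) (by
    rw [S'.der _ trivial _ trivial, ← h2, ← h2, ← h2, S.der _ trivial _ trivial, MonoidHom.comp_apply, MonoidHom.comp_apply, h1]))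
    ⟨fun a b e => S.uniq rfl trivial ((h1 a).trans ((congrArg π' e).trans (h1 b).symm)) ((h2 a).trans ((congrArg F' e).trans (h2 b).symm)),
      fun a' => ?_⟩⟩
  obtain ⟨b, b', c, d, e⟩ := k (π' a')
  obtain ⟨n, hn, f⟩ := (S.lam _).1 (S'.congr rfl (a := a') trivial d.symm)
  exact ⟨n * b, S'.uniq rfl trivial ((h1 _).symm.trans (by rw [map_mul, hn, one_mul, c]))
    ((h2 _).symm.trans (by rw [S.nmul hn trivial, f, e, add_assoc, f2, add_zero]))⟩

end H14.Sh
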