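import Mathlib
import Cfsg.Agent.H14.Shap
import Cfsg.Agent.H14.RK
import Cfsg.Agent.H14.MCls2
import Cfsg.Agent.H14.GMod

/-! Formal derivatives of words on subsets of the 24 points. -/

namespace H14.Sh

open Cfsg PK PK.TS RK
open scoped Pointwise

theorem act_ind (g : Equiv.Perm GolayPt) (s : Finset GolayPt) : act g (ind s) = ind (g • s) := ind_smul g s

/-- the formal derivative of a word, on masks -/
noncomputable def dM (Ts fs u : List ℕ) : ℕ :=
  List.rec (nat_lit 0) (fun a _ ih => H13.force ih fun d => Nat.xor (nd (nat_lit 0) fs a) (pm (nd (H13.idv 5 24) Ts a) d)) u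

theorem dW_eq {K : Subgroup M24} {Ts : List ℕ} (h : ∀ t ∈ Ts, S24.In K t) (fs u : List ℕ) :
    dW (fun i => (gT S24 Ts i).1) (fun i => ind (toSet (nd 0 fs i))) u = ind (toSet (dM Ts fs u)) := by
  induction u with
  | nil => exact (by rw [toSet_zero, ind_empty] : ind (toSet 0) = 0).symm
  | cons a u ih =>
    rw [dW, ih, act_ind, ← ind_symmDiff, show (gT S24 Ts a).1 • toSet (dM Ts fs u) = _ from
      el24_smul (in_nd h a) _, ← toSet_xor]
    rfl

theorem evalW_ker {E G : Type*} [Group E] [Group G] {w n : ℕ} {S : TS G w n} {K : Subgroup G} {Ts : List ℕ} (h : ∀ t ∈ Ts, S.In K t)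
    {π : E →* G} {g : ℕ → E} (hg : ∀ i, π (g i) = gT S Ts i) {u : List ℕ} (e : Nat.beq (tw w n Ts u) (H13.idv w n) = true) :
    H13.evalW g u ∈ π.ker := by
  rw [MonoidHom.mem_ker, H15.map_evalW', funext hg]
  exact S.tb_inj ((tb_evalW h u).trans ((Nat.eq_of_beq_eq_true e).trans S.tb_one.symm))

theorem relIndex_odd {G : Type*} [Group G] [Finite G] {D K : Subgroup G} (h : D ≤ K) {a b : ℕ} (hD : Nat.card D = a)
    (hK : Nat.card K = a * b) : D.relIndex K = b := by
  have := (D.subgroupOf K).card_mul_index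
  rw [Nat.card_congr (Subgroup.subgroupOfEquivOfLe h).toEquiv, hK, ← hD] at this
  exact Nat.eq_of_mul_eq_mul_left Nat.card_pos this

end H14.Sh
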