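import Mathlib
import Cfsg.Agent.H14.Shap2
import Cfsg.Agent.H14.RK2
import Cfsg.Agent.H14.N11

/-! The cocode module of `M23`: `sm`, `C0`, `XD`, `lam`, `C0_ind`, `ker_iff`, generators `cl23`; the semidirect product `SD`;
splitting from the multiplier `chi_of`; averaging `St.avg2`. -/

namespace H14.Sh

open Cfsg PK PK.TS RK Finset
open scoped Pointwise symmDiff

/-- the inner product with a set -/
def sm (w : GolayPt → ZMod 2) (c : Finset GolayPt) : ZMod 2 := ∑ p ∈ c, w p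

theorem sm_eq (w : GolayPt → ZMod 2) (c : Finset GolayPt) : sm w c = ∑ p, w p * ind c p := by simp [sm, ind]

theorem sm_symmDiff (w : GolayPt → ZMod 2) (c d : Finset GolayPt) : sm w (c ∆ d) = sm w c + sm w d := by
  simp only [sm_eq, ind_symmDiff, Pi.add_apply, mul_add, sum_add_distrib]

theorem sm_add (v w : GolayPt → ZMod 2) (c : Finset GolayPt) : sm (v + w) c = sm v c + sm w c := sum_add_distrib

theorem sm_act (g : Equiv.Perm GolayPt) (w : GolayPt → ZMod 2) (c : Finset GolayPt) : sm (act g w) c = sm w (g⁻¹ • c) :=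
  (sum_image (g := fun p => g⁻¹ p) fun _ _ _ _ h => g⁻¹.injective h).symm

theorem sm_ind (s c : Finset GolayPt) : sm (ind s) c = (s ∩ c).card := by simp [sm, ind, inter_comm]

theorem sm_toSet {a : ℕ} (b : ℕ) (h : a < 2 ^ 24) : sm (ind (toSet b)) (toSet a) = pc (a &&& b) := by
  rw [sm_ind, inter_comm, card_inter_toSet _ h]

theorem sm_code {w : GolayPt → ZMod 2} : w ∈ golayCode ↔ ∀ c ∈ Code, sm w c = 0 := by
  rw [← support_mem_Code, ← ind_support w]
  simp only [sm_ind, ZMod.natCast_eq_zero_iff, support_ind]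
  exact ⟨fun h c hc => Code_even_inter h hc, mem_Code_of_even_inter⟩

/-- the code words without the extra point -/
def C0 : SubMulAction Spor.M23 (Finset GolayPt) where
  carrier := {c | c ∈ Code ∧ none ∉ c}
  smul_mem' g c h := ⟨M24_smul_mem g.2.1 h.1, fun k => h.2 ((smul_mem_smul_finset_iff g).1 (by
    rwa [show g • (none : GolayPt) = none from g.2.2]))⟩

/-- the dodecads without the extra point -/
def XD : SubMulAction Spor.M23 (Finset GolayPt) where
  carrier := {c | c ∈ C0 ∧ c.card = 12}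
  smul_mem' g c h := ⟨C0.smul_mem g h.1, (card_smul_finset _ _).trans h.2⟩

theorem C0_symmDiff {c d : Finset GolayPt} (h : c ∈ C0) (h' : d ∈ C0) : c ∆ d ∈ C0 :=
  ⟨Code_symmDiff h.1 h'.1, by simp [mem_symmDiff, h.2, h'.2]⟩

theorem ker_iff {w : GolayPt → ZMod 2} : (w ∈ golayCode ∨ w + Pi.single none 1 ∈ golayCode) ↔ ∀ c ∈ C0, sm w c = 0 := by
  have a : ∀ c, none ∉ c → sm (Pi.single none 1) c = 0 := fun c h => sum_eq_zero fun p hp => Pi.single_eq_of_ne (by rintro rfl; exact h hp) _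
  have b : ∀ w, sm w univ = 0 → (∀ c ∈ C0, sm w c = 0) → w ∈ golayCode := fun w h h' => sm_code.2 fun c hc => by
    by_cases k : none ∈ c
    · have := sm_symmDiff w cᶜ univ
      rwa [h, h' _ ⟨Code_compl hc, by simp [k]⟩, show cᶜ ∆ univ = c by ext; simp [mem_symmDiff], add_zero] at this
    · exact h' c ⟨hc, k⟩
  refine ⟨fun h c hc => h.elim (fun h => sm_code.1 h c hc.1) fun h => by
    simpa [sm_add, a c hc.2] using sm_code.1 h c hc.1, fun h => (zmod2_cases (sm w univ)).imp (fun k => b w k h) fun k => b _ ?_ fun c hc => ?_⟩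
  · rw [sm_add, k]; simp [sm, z2]
  · rw [sm_add, h c hc, a c hc.2, add_zero]

/-- inner products as functions on an invariant set -/
def lam (X : SubMulAction Spor.M23 (Finset GolayPt)) : (GolayPt → ZMod 2) →+ (X → ZMod 2) :=
  AddMonoidHom.mk' (fun w c => sm w c) fun v w => funext fun c => sm_add v w c

/-- the action on an invariant set -/
abbrev rho (X : SubMulAction Spor.M23 (Finset GolayPt)) : Spor.M23 →* Equiv.Perm X := MulAction.toPermHom _ _

theorem act_lam (X : SubMulAction Spor.M23 (Finset GolayPt)) (g : Spor.M23) (w : GolayPt → ZMod 2) :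
    act (rho X g) (lam X w) = lam X (act g.1 w) := funext fun c => (sm_act _ _ _).symm

/-- a mask of a code word without the extra point -/
noncomputable def isC0 (m : ℕ) : Bool := band (isCw m) (bn (bit m 23))

theorem mem_C0 {m : ℕ} (h : isC0 m = true) : toSet m ∈ C0 ∧ m < 2 ^ 24 := by
  simp only [isC0, band_iff, bn_iff] at h
  exact ⟨⟨toSet_mem_Code h.1, by rw [← pt_23, pt_mem_toSet (by norm_num)]; exact h.2⟩, isCw_lt h.1⟩

/-- a mask of a dodecad without the extra point -/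
noncomputable def isXD (m : ℕ) : Bool := band (isC0 m) (Nat.beq (pc m) 12)

theorem mem_XD {m : ℕ} (h : isXD m = true) : toSet m ∈ XD ∧ m < 2 ^ 24 := by
  simp only [isXD, band_iff, Nat.beq_eq] at h
  exact ⟨⟨(mem_C0 h.1).1, (card_toSet (mem_C0 h.1).2).trans h.2⟩, (mem_C0 h.1).2⟩

/-- a check on all words of `C0` -/
noncomputable def allC0 (p : ℕ → Bool) : Bool := all2 64 64 fun a => H13.force (cw a) fun m => bor (bit m 23) (p m)

theorem allC0_spec {p : ℕ → Bool} (h : allC0 p = true) {c : Finset GolayPt} (hc : c ∈ C0) : p (enc c) = true := by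
  obtain ⟨a, ha, rfl⟩ := mem_Code_iff.1 hc.1
  have := (all2_iff _ _ _).1 h a ha
  rw [H13.force_eq, bor_iff] at this
  rw [enc_toSet (cw_lt ha)]
  exact this.resolve_left fun k => hc.2 ((pt_mem_toSet (i := 23) (by norm_num)).2 k)

/-- a check on all words of `XD` -/
noncomputable def allXD (p : ℕ → Bool) : Bool := allC0 fun m => bor (bn (Nat.beq (pc m) 12)) (p m)

theorem allXD_spec {p : ℕ → Bool} (h : allXD p = true) (c : XD) : p (enc c) = true := by
  have := allC0_spec h c.2.1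
  rw [bor_iff, bn_iff, Nat.beq_eq, ← card_toSet (enc_lt _), toSet_enc] at this
  exact this.resolve_left (not_not.2 c.2.2)

/-- the systematic basis of `C0` -/
def bs (j : ℕ) : ℕ := tbl 24 0x1000000 0x527c007b42003da1001ed0800f684055c8207898106e300837180449f00224f801 j

/-- combinations of the basis -/
noncomputable def xb (m k : ℕ) : ℕ := Nat.rec 0 (fun j ih => bif' (bit m j) (Nat.xor (bs j) ih) ih) k

theorem C0_ind {P : Finset GolayPt → Prop} (h0 : P ∅) (hb : ∀ j < 11, P (toSet (bs j))) (hs : ∀ s t, P s → P t → P (s ∆ t)) :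
    ∀ c ∈ C0, P c := fun c hc => by
  have a : ∀ k ≤ 11, P (toSet (xb (enc c) k)) := fun k hk => by
    induction k with
    | zero => exact toSet_zero ▸ h0
    | succ k ih =>
      change P (toSet (bif' _ _ _))
      cases bit (enc c) k
      · exact ih (by omega)
      · exact (toSet_xor _ _).symm ▸ hs _ _ (hb k hk) (ih (by omega))
  have := a 11 le_rfl
  rwa [Nat.eq_of_beq_eq_true (allC0_spec (p := fun m => Nat.beq (xb m 11) m) (by decide +kernel) hc), toSet_enc] at this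

theorem bs_mem : ∀ j < 11, isC0 (bs j) = true := by decide +kernel

theorem lam_XD {w : GolayPt → ZMod 2} (h : lam XD w = 0) : ∀ c ∈ C0, sm w c = 0 :=
  C0_ind rfl (fun j hj => by
    obtain ⟨a, b⟩ := (by decide +kernel : ∀ j < 11, isXD (tbl 24 0x1000000 0x6fdd0357d601abeb00dfba006fdd00dfba00dfba0271fb015d6f00dfba006fdd j) = true ∧
      isXD (bs j ^^^ tbl 24 0x1000000 0x6fdd0357d601abeb00dfba006fdd00dfba00dfba0271fb015d6f00dfba006fdd j) = true) j hj
    have c : sm w (toSet _) = 0 := congrFun h ⟨_, (mem_XD b).1⟩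
    have d : sm w (toSet _) = 0 := congrFun h ⟨_, (mem_XD a).1⟩
    rwa [toSet_xor, sm_symmDiff, d, add_zero] at c)
    fun s t a b => by rw [sm_symmDiff, a, b, add_zero]

theorem ex_lam {f : C0 → ZMod 2} (h : ∀ c d e : C0, e.1 = c.1 ∆ d.1 → f e = f c + f d) : ∃ w, lam C0 w = f := by
  let w : GolayPt → ZMod 2 := fun p => if h : idx p < 11 then f ⟨_, (mem_C0 (bs_mem _ h)).1⟩ else 0
  refine ⟨w, funext fun c => ?_⟩
  refine (C0_ind (P := fun c => ∃ h : c ∈ C0, sm w c = f ⟨c, h⟩) ⟨⟨Code_empty, by simp⟩, ?_⟩ (fun j hj => ⟨(mem_C0 (bs_mem j hj)).1, ?_⟩)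
    (fun s t ⟨a, b⟩ ⟨c, d⟩ => ⟨C0_symmDiff a c, by rw [sm_symmDiff, b, d, h ⟨s, a⟩ ⟨t, c⟩ ⟨_, C0_symmDiff a c⟩ rfl]⟩) c c.2).2
  · rw [h ⟨∅, Code_empty, by simp⟩ ⟨∅, Code_empty, by simp⟩ _ (by simp), z2]; rfl
  · have k := (by decide +kernel : ∀ j < 11, pt j ∈ toSet (bs j) ∧ ∀ p ∈ toSet (bs j), p ≠ pt j → ¬ idx p < 11) j hj
    rw [sm, sum_eq_single_of_mem _ k.1 fun p a b => dif_neg (k.2 p a b)]
    simp only [w, idx_pt (hj.trans (by norm_num : 11 < 24)), hj, dite_true]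

/-- tables of the elements of `M23` -/
noncomputable abbrev S23 : TS Spor.M23 5 24 := SP.sub Spor.M23

theorem in23 {T : ℕ} (h : okS [23] [] [] T = true) : S23.In ⊤ T := (in_M23 h).sub

theorem in23L {L : List ℕ} (h : H13.allL (okS [23] [] []) L = true) : ∀ t ∈ L, S23.In ⊤ t := fun t ht => in23 (H13.allL_iff.1 h t ht)

theorem enc_smul {K : Subgroup Spor.M23} {T : ℕ} (h : S23.In K T) (c : Finset GolayPt) : enc (S23.el T • c) = pm T (enc c) := by
  have : S23.el T • toSet (enc c) = _ := SP_smul _ _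
  rw [toSet_enc] at this
  rw [this, enc_toSet ((SP_tab _).pm_lt _)]
  exact congrArg (pm · _) h.tb_el

theorem enc_inv {K : Subgroup Spor.M23} {T : ℕ} (h : S23.In K T) (c : Finset GolayPt) : enc ((S23.el T)⁻¹ • c) = pm (ti 5 24 T) (enc c) := by
  rw [← h.el_ti, enc_smul h.inv]

theorem enc_symmDiff (c d : Finset GolayPt) : enc (c ∆ d) = enc c ^^^ enc d := by
  rw [← enc_toSet (xor_lt24 (enc_lt c) (enc_lt d)), toSet_xor, toSet_enc, toSet_enc]

/-- an element of order 5 -/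
def t5 : ℕ := nat_lit 0xba9d37b2c8ad06489c495c0ad91820

theorem inG : ∀ t ∈ [t23, t5], S23.In ⊤ t := in23L (by decide +kernel)

theorem cl23 : S23.cl [t23, t5] = ⊤ :=
  cl_eq (Subgroup.card_top.trans card_M23) inG (pr := [[], [1, 2, 1, 2, 2, 1, 1], [3, 3, 0, 0], [1, 4, 4, 1, 4], [1, 1, 0, 0, 1], [2, 1, 2, 1, 1, 2], [1, 0, 1, 1, 0], [1, 1, 2, 1, 2], [2, 2, 2, 3, 2, 2], [2, 0], [0, 0], [3, 4], [5, 4], [5, 5], [5, 6], [7, 6], [7, 7], [10, 5], [10, 6], [10, 7], [11, 7], [12, 7], [13, 7], [18, 18], [18, 19], [20, 19], [20, 20], [21, 3], [23, 3], [23, 4], [25, 4], [25, 5], [27, 4], [27, 5], [29, 5], [29, 6], [30, 6], [31, 5], [33, 4], [34, 3], [37, 37], [37, 38], [39, 38], [40, 2], [40, 3], [42, 2], [42, 3], [44, 3], [44, 4], [46, 3], [46, 4], [48, 4], [49, 3], [50, 3], [51, 2], [51, 3], [53, 3], [53, 3], [59, 59], [57, 60], [61, 58], [59, 59], [63, 2], [61, 2], [65, 2], [63, 3], [67, 3], [65, 4], [69, 4], [67, 4], [68, 4], [72, 3], [73,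 3], [71, 3], [75, 3], [73, 4], [77, 3], [77, 77], [78, 0], [80, 1], [80, 1], [82, 2], [82, 2], [84, 3], [84, 3], [86, 4], [86, 4], [88, 5], [88, 5], [90, 6], [90, 6], [91, 5], [92, 5], [94, 6], [94, 5], [96, 4], [96, 3], [97, 2]]) (ch := [(0, [nat_lit 0xbdab49ca307b9ac5a928398a418820, nat_lit 0xb82d5a4e5183dcd62d4941cc520c41, nat_lit 0xb8416ad2728c1ee6b16a4a0e629062, nat_lit 0xb8820b56939460f7358b5250731483, nat_lit 0xb840a74decb22b419227125702b646, nat_lit 0xb8c4105ab49ca307b9ac5a928398a4, nat_lit 0xb982053a6f65915a0c913892b815b2, nat_lit 0xb882b7d20d026d5216481a99133a67, nat_lit 0xb8407a3ea4525d3936cb30a2828d90, nat_lit 0xb9062082d5a4e5183dcd62d4941cc5, nat_lit 0xbc8c1029d37b2c8ad06489c495c0ad, nat_lit 0xb9c415be9068136a90b240d4c899d3, nat_lit 0xbc0203d1f52292e9c9b6598514146c, nat_lit 0xb8c4c8562e0a81629a6922db23be88, nat_lit 0xb9831acd030094e6958991c96851eb, nat_lit 0xb8828ac2c55a9f49b80c38e49311b1, nat_lit 0xbcce20adf483409b54859206a644ce,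 nat_lit 0xba062642b170540b14d34916d91df4, nat_lit 0xbacc18d6681804a734ac4c8e4b428f, nat_lit 0xb906d8da4f12c2031e8a2b1d3442a9, nat_lit 0xb98297214589eb37d0045c98283476, nat_lit 0xba4836c6d278961018f45158e9a215, nat_lit 0xb948e902701b0413a2ab335f44c6ca]),
  (2, [nat_lit 0xbdab49ca307b9ac5a928398a418820, nat_lit 0xba9d37b2c8ad06489c495c0ad91820, nat_lit 0xb9c4a7a566922d48542564da38b880, nat_lit 0xb9e8fa914974e4db2cc28a0a364020, nat_lit 0xbd50f950e512a235b1c1819b64cc80, nat_lit 0xbacc7a8a30625534382523c72b51a0, nat_lit 0xbb1d590613494ea3088da3ed15a060, nat_lit 0xbb93564d6531ed2892814406a13da0, nat_lit 0xbc26c13966a06af2a08d1ca293aac0, nat_lit 0xb928e6050f11567819a39d5568a640, nat_lit 0xbd102490cf0b5959b876548eb81620, nat_lit 0xbd04e23e2582d4cb36614a24735460, nat_lit 0xba022a3e0d9b0e958d4429a3574ac0, nat_lit 0xba1e435230985d52a5a3932c259d40, nat_lit 0xb8d48a10b27360c34ed178aa758520, nat_lit 0xba8ae08e7225a827a227aa59033560, nat_lit 0xba4269d503791628c8ed2c2cea3140,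 nat_lit 0xba6ad84ec87868e28872611468ace0, nat_lit 0xbc6a550da9458d49bceb9384c81020, nat_lit 0xb9cb40c9ec6aa66aa6cb7088880e20, nat_lit 0xbd5a8245e919d4e9156c106869da00, nat_lit 0xb89c343d49a867429a4c234f0b4560]),
  (1, [nat_lit 0xbdab49ca307b9ac5a928398a418820, nat_lit 0xbb674205353162b440727b8eab0980, nat_lit 0xba9c81c96d342b43d9e40952c98a20, nat_lit 0xbc4945307371d28956c1315f068960, nat_lit 0xbd468645ee2a567236723403650a80, nat_lit 0xbc0b2b0511756747b4ca61c6b20920, nat_lit 0xba55482ec42bc720cdac71cd588900, nat_lit 0xbad88b5263805e4939512a4cda88e0, nat_lit 0xbd4e16b2492cc94345d05bec850860, nat_lit 0xbb5325448b83868354b6a0667609e0, nat_lit 0xb8e14aa1aa39ac16122b2bdd348a40, nat_lit 0xbbec869d4c49a7288eb4804ae58880, nat_lit 0xbcdec8ac2339154724b5419b280ac0, nat_lit 0xbb831ad24f48d882ae0d39944b0a60, nat_lit 0xbc46182548a96d274ceda308f588c0, nat_lit 0xb99b28be0b1b8814da74ab0e540940, nat_lit 0xb90cb4a1967aa1428cf393a21a89a0, nat_lit 0xba6cca8e1299da1291f1a2d46409c0,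 nat_lit 0xbae716bec47255280c3545186388a0, nat_lit 0xbba2149aa8b154c1b4949ade790a00, nat_lit 0xbb0a77928a359a84cc239417170aa0]),
  (3, [nat_lit 0xbdab49ca307b9ac5a928398a418820, nat_lit 0xb9d50a48b3b38cb411ac7a47588820, nat_lit 0xb8d6d92aa521dd47da09620d198820, nat_lit 0xbbc93848743b928654cbb362a28820, nat_lit 0xbb2c56a8d219d0f4c5d42426ba8820, nat_lit 0xbc50691143abdd0b1e6d5b125a0820, nat_lit 0xbcdee559668b0ed20cb0a251590820, nat_lit 0xb92322aa6d61e09a2d0f1bab630820, nat_lit 0xbace3311328bd96695d0ace8850820, nat_lit 0xbd0667590a9b124854ed8964f58820, nat_lit 0xb958995491559d33be8642da380820, nat_lit 0xbd528546d3590e51b24e7d20668820, nat_lit 0xbd4b2192865be6d821968b94748820, nat_lit 0xbc6aa35a4ea30b06bd2499d6340820, nat_lit 0xba1f14d5b22d96730dd35520c20820, nat_lit 0xbbd934460aa9283718e55c9a9b0820, nat_lit 0xbb66838d36952112ad8ea994478820, nat_lit 0xbae09b54727c5869d147234a870820, nat_lit 0xb954449e4e82c73359b5a3d1160820, nat_lit 0xbd9746166455611725e3448cd38820]),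
  (4, [nat_lit 0xbdab49ca307b9ac5a928398a418820, nat_lit 0xba613220aa3c5f25d4cc6d9d418820, nat_lit 0xb92924d4b65c5b33a1867a9d018820, nat_lit 0xb9e545b4a64c6b023d56431d318820, nat_lit 0xbb2c9819c8795753d1536923218820, nat_lit 0xbd268341c9595e46b2563d62a18820, nat_lit 0xbc255651c4395a979a6a5a23618820, nat_lit 0xbce8d549c7216ab45a0c4be2618820, nat_lit 0xbbeb23b5ca6169682d0434e2918820, nat_lit 0xba1b4255cc516469a5e7b422b18820, nat_lit 0xbc92655a2c3b9706cea47d0a818820, nat_lit 0xbcc8cb2a265b8f47c9096c0b518820, nat_lit 0xbc0ea332364b892451ebaccad18820, nat_lit 0xbd17661a2a23933ac1a7448af18820, nat_lit 0xb99b28523343aaa4b16f258a718820, nat_lit 0xbae957b6289ba44b1cd0524ac18820]),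
  (5, [nat_lit 0xbdab49ca307b9ac5a928398a418820, nat_lit 0xbb5135bdd63160aa1ea964a2418820, nat_lit 0xbc12ba18ad946c79b11553dc418820])]) (by decide +kernel)

/-- the semidirect product of the functions with a group acting on the points -/
@[ext] structure SD {G Ω : Type} [Group G] (ρ : G →* Equiv.Perm Ω) where
  /-- the function -/
  f : Ω → ZMod 2
  /-- the group element -/
  g : G

section

variable {G Ω : Type} [Group G] {ρ : G →* Equiv.Perm Ω}

instance SD.mul : Mul (SD ρ) := ⟨fun a b => ⟨a.f + act (ρ a.g) b.f, a.g * b.g⟩⟩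

instance SD.one : One (SD ρ) := ⟨⟨0, 1⟩⟩

instance SD.inv : _root_.Inv (SD ρ) := ⟨fun a => ⟨act (ρ a.g⁻¹) a.f, a.g⁻¹⟩⟩

instance SD.group : Group (SD ρ) := Group.ofLeftAxioms
  (fun a b c => SD.ext (show a.f + act _ b.f + act (ρ (a.g * b.g)) c.f = a.f + act _ (b.f + act _ c.f) by
    rw [map_add, map_mul, act_mul, add_assoc]) (mul_assoc _ _ _))
  (fun a => SD.ext (show 0 + act (ρ 1) a.f = _ by rw [map_one, act_one, zero_add]) (one_mul _))
  fun a => SD.ext (f2 _) (inv_mul_cancel _)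

instance SD.finite [Finite G] [Finite Ω] : Finite (SD ρ) :=
  Finite.of_injective (fun a => (a.f, a.g)) fun _ _ h => SD.ext (congrArg Prod.fst h) (congrArg Prod.snd h)

/-- the projection -/
def SD.pr (ρ : G →* Equiv.Perm Ω) : SD ρ →* G := MonoidHom.mk' SD.g fun _ _ => rfl

end

theorem chi_top {G : Type} {E : Type*} [Group G] [Group E] [Finite E] (h : H15.NoStem 2 G) {f : E →* G} (hf : Function.Surjective f)
    {l : E → ZMod 2} (hl : AddOn f.ker l) (hc : ∀ b, ∀ n ∈ f.ker, l (b * n * b⁻¹) = l n) : ∀ n ∈ f.ker, n ∈ commutator E → l n = 0 := by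
  have li : ∀ n ∈ f.ker, l n⁻¹ = l n := fun n hn => by
    rw [← add_zero (l n⁻¹), ← z2 (l n), ← add_assoc, ← hl _ (inv_mem hn) _ hn, inv_mul_cancel, hl.one, zero_add]
  let W : Subgroup E :=
    { carrier := {n | n ∈ f.ker ∧ l n = 0}
      one_mem' := ⟨one_mem _, hl.one⟩
      mul_mem' := fun a b => ⟨mul_mem a.1 b.1, by rw [hl _ a.1 _ b.1, a.2, b.2, add_zero]⟩
      inv_mem' := fun a => ⟨inv_mem a.1, (li _ a.1).trans a.2⟩ }
  have : W.Normal := ⟨fun n a g => ⟨f.normal_ker.conj_mem n a.1 g, (hc g n a.1).trans a.2⟩⟩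
  have e : ∀ m ∈ f.ker, ∀ n ∈ f.ker, l m = l n → (m : E ⧸ W) = n := fun m hm n hn k =>
    QuotientGroup.eq.2 ⟨mul_mem (inv_mem hm) hn, by rw [hl _ (inv_mem hm) _ hn, li _ hm, k, z2]⟩
  intro n hn hn'
  by_contra c
  let η : E ⧸ W →* G := QuotientGroup.lift W f fun _ a => a.1
  have hη : ∀ y ∈ η.ker, ∃ x ∈ f.ker, (x : E ⧸ W) = y := fun y hy => by
    obtain ⟨x, rfl⟩ := QuotientGroup.mk_surjective y
    exact ⟨x, hy, rfl⟩
  have hs : IsStemExtension η := by
    refine ⟨fun g => ?_, fun y hy => ?_, fun y hy => ?_⟩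
    · obtain ⟨x, rfl⟩ := hf g; exact ⟨x, rfl⟩
    · obtain ⟨x, hx, rfl⟩ := hη y hy
      refine Subgroup.mem_center_iff.2 fun w => ?_
      obtain ⟨w, rfl⟩ := QuotientGroup.mk_surjective w
      rw [← mul_inv_eq_iff_eq_mul]
      exact e _ (f.normal_ker.conj_mem x hx w) _ hx (hc w x hx)
    · obtain ⟨x, hx, rfl⟩ := hη y hy
      rcases zmod2_cases (l x) with k | k
      · rw [e _ hx _ (one_mem _) (k.trans hl.one.symm)]; exact one_mem _
      · rw [e _ hx _ hn (k.trans ((zmod2_cases _).resolve_left c).symm)]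
        exact H16.map_mem_commutator (QuotientGroup.mk' W) hn'
  let s := Shrink.mulEquiv.{0} (α := E ⧸ W)
  have := h _ _ (H16.IsStem.comp_equiv hs s) fun z hz => s.injective (by
    obtain ⟨x, hx, k⟩ := hη _ hz
    rw [map_pow, map_one, show s z = _ from k.symm, ← QuotientGroup.mk_pow, sq]
    exact e _ (mul_mem hx hx) _ (one_mem _) (by rw [hl _ hx _ hx, z2, hl.one]))
  have k : s.symm n = 1 := Subgroup.mem_bot.1 (this ▸ show η (s (s.symm n)) = 1 by rw [s.apply_symm_apply]; exact hn)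
  exact c ((QuotientGroup.eq_one_iff n).1 (s.symm.injective (k.trans (map_one _).symm))).2

theorem chi_of {G : Type} {E : Type*} [Group G] [Group E] [Finite E] (h : H15.NoStem 2 G) (hp : commutator G = ⊤) {U N : Subgroup E} [hN : N.Normal]
    (hU : N ≤ U) {f : U →* G} (hf : Function.Surjective f) (hk : ∀ x, x ∈ f.ker ↔ x.1 ∈ N) {l : E → ZMod 2} (hl : AddOn N l)
    (hc : ∀ b ∈ U, ∀ n ∈ N, l (b * n * b⁻¹) = l n) : ∃ χ, AddOn U χ ∧ ∀ n ∈ N, χ n = l n := by
  have e : N ⊔ (commutator U).map U.subtype = U := le_antisymm (sup_le hU (Subgroup.map_subtype_le _)) fun x hx => by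
    have : f ⟨x, hx⟩ ∈ (commutator U).map f := by
      rw [_root_.commutator_def, Subgroup.map_commutator, Subgroup.map_top_of_surjective _ hf, ← _root_.commutator_def, hp]; trivial
    obtain ⟨y, hy, k⟩ := this
    rw [← inv_mul_cancel_right x y]
    exact Subgroup.mul_mem_sup ((hk (⟨x, hx⟩ * y⁻¹)).1 (by simp [MonoidHom.mem_ker, k])) ⟨y, hy, rfl⟩
  rw [← e]
  refine ext_compl hl (fun b hb => hc b (Subgroup.map_subtype_le _ hb)) ?_
  rintro _ hn ⟨n, hn', rfl⟩
  exact chi_top h hf (l := fun x => l x) (fun a ha b hb => hl _ ((hk a).1 ha) _ ((hk b).1 hb))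
    (fun b n hn => hc b b.2 n ((hk n).1 hn)) n ((hk n).2 hn) hn'

theorem St.avg2 {E Ω : Type*} [Group E] {ρ : E →* Equiv.Perm Ω} {U N : Subgroup E} {Λ : AddSubgroup (Ω → ZMod 2)} {F : E → Ω → ZMod 2}
    (S : St ρ U N Λ F) {y c : E} {n : ℕ} (hn : Odd n) (h1 : ρ y ^ n = 1) (hc : c ∈ U) (hy : y ∈ S.sub) (hy' : c⁻¹ * y * c ∈ S.sub) :
    ∃ f, F c + f ∈ Λ ∧ act (ρ y) f = f := by
  refine ⟨∑ j ∈ range n, act (ρ y ^ j) (F c), ?_, ?_⟩
  · have : ∑ j ∈ range n, (F c + act (ρ y ^ j) (F c)) ∈ Λ := sum_mem fun j _ => by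
      have a := pow_mem hy j
      have b := pow_mem hy' j
      have e := S.der _ a.1 _ hc
      rw [show y ^ j * c = c * (c⁻¹ * y * c) ^ j by rw [show c⁻¹ * y * c = c⁻¹ * y * c⁻¹⁻¹ by rw [inv_inv], conj_pow]; group,
        S.der _ hc _ b.1, map_pow] at e
      rw [show F c + act (ρ y ^ j) (F c) = F (y ^ j) + act (ρ c) (F _) by
        linear_combination (exp := 1) e + f2 (act (ρ y ^ j) (F c)) - f2 (act (ρ c) (F ((c⁻¹ * y * c) ^ j)))]
      exact add_mem a.2 (S.act_mem hc b.2)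
    rwa [sum_add_distrib, sum_const, card_range, ← Nat.cast_smul_eq_nsmul (ZMod 2), (ZMod.natCast_eq_one_iff_odd).2 hn, one_smul] at this
  · have := (sum_range_succ (fun j => act (ρ y ^ j) (F c)) n).symm.trans (sum_range_succ' _ n)
    rw [h1, pow_zero, add_left_inj] at this
    rw [map_sum, this]
    exact sum_congr rfl fun j _ => by rw [pow_succ', act_mul]

end H14.Sh
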