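import Cfsg.Agent.L.Fz2
import Cfsg.Agent.H14.FzC
import Cfsg.Agent.H20.FtB
import Cfsg.Agent.H02.FzK
import Cfsg.Agent.H24.FzN
import Cfsg.Agent.H21.FzX
import Cfsg.Agent.H12.FzT
import Cfsg.Agent.H25.FzS
import Cfsg.Agent.H10.FzF

/-!
# Groups of large Fischer type: `N(J(T))/J(T) ≅ M₂₄`, glue (namespace `H14.FzG`): `cf`, `main`
-/

set_option autoImplicit false
open Cfsg BG Subgroup H01.XS H01.XF H20.FtW H03.FT
open scoped Pointwise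

namespace H14.FzG
universe u

theorem cf (pk : PkS.{u}) {G : Type u} [Group G] [Finite G] (z : G) (Q : Subgroup (Subgroup.centralizer ({z} : Set G))) [Q.Normal]
    (hF : Cfsg.IsOfLargeFischerTypeAt z Q) : (∀ P : Subgroup G, IsPGroup 2 P → Un P) ∧
      ∃ A0 B0 : Subgroup G, _root_.L.Fz.Cf A0 N_(A0) B0 {t | t ∈ A0 ∧ t ≠ 1 ∧ ¬ IsConj z t} z := by
  obtain ⟨V, _, _, _, π, ν, T', d, M', β, q, b⟩ := br hF
  obtain ⟨⟨-, -, -, -, g, ⟨m, i⟩, n⟩, N0, M0, nN, -, l1, l2, cN, ⟨K, _, _, cK, ⟨e⟩⟩, iM⟩ := id hF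
  have i' : g * z * g⁻¹ ∈ Q.map (centralizer {z}).subtype := ⟨_, i, rfl⟩
  have h := b.pt g i' n
  have lx := b.md.lx
  obtain ⟨S, -, s2, s3⟩ := syl h (Y := _) (h.orb.2.1.trans' inf_le_right) h.orb2.1
  obtain ⟨L, B, Y, k⟩ := pk h S s2 s3
  obtain ⟨e1, e2, e3, e4⟩ := H20.XhE.ea b (pp b i' n) ((card_cj _ _).trans b.card) k
  have zB : z ∈ b.md.pull B := ⟨b.md.lx.aes.mem, b.md.zz ▸ B.zero_mem⟩
  have oc := oc b h (_root_.L.U4One.one K cK) nN (by rwa [QuotientGroup.ker_mk']) l2 (by rwa [QuotientGroup.ker_mk'])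
    (e.toMonoidHom.comp (QuotientGroup.mk' _)) (e.surjective.comp (QuotientGroup.mk'_surjective _)) (by ext x; simp) iM
  have u : ∀ P : Subgroup G, IsPGroup 2 P → Un P := by
    obtain ⟨T0⟩ : Nonempty (Sylow 2 C_[z]) := inferInstance
    obtain ⟨C, eC, cC, -⟩ := H14.XhZ.fin pk (fun s p c k => H20.XhE.ea s p c k) z Q hF T0
    have u0 := un_of (φ := C_[z].subtype.comp (T0 : Subgroup C_[z]).subtype)
      ((subtype_injective _).comp (subtype_injective _)) eC cC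
    rw [MonoidHom.range_comp, range_subtype] at u0
    exact un_all ((isSylowIn_map Nat.prime_two T0).trans_idx (M := ⊤) le_top (by rw [relIndex_top_right]; exact lx.odd)) u0
  obtain ⟨s, t, -, -, -, -, -, -, -, st⟩ := Cfsg.Agent.S5440.result z Q hF
  have st : ∀ x ∈ Q.map C_[z].subtype, x * x = 1 → x ≠ 1 → x ≠ z →
      (∃ h ∈ C_[z], h * s * h⁻¹ = x) ∨ ∃ h ∈ C_[z], h * t * h⁻¹ = x := by
    rintro _ ⟨x, hx, rfl⟩ x2 x1 xz
    have o : orderOf x = 2 := orderOf_eq_prime (Subtype.ext ((pow_two x.1).trans x2)) fun e => x1 (congrArg Subtype.val e)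
    exact (st x hx o xz).imp (fun ⟨k, e⟩ => ⟨k, k.2, congrArg Subtype.val e⟩) fun ⟨k, e⟩ => ⟨k, k.2, congrArg Subtype.val e⟩
  have wB : g * z * g⁻¹ ∈ b.md.pull B := ⟨i', k.LB k.aL⟩
  have zw : IsConj z (g * z * g⁻¹) := isConj_iff.2 ⟨g, rfl⟩
  have BA := e3.ge.trans inf_le_left
  have BQ := e3.ge.trans inf_le_right
  refine ⟨u, _, _, _root_.L.Fz.la lx u (fun x a1 a2 a3 a4 => (st x a1 a2 a3 a4).imp (fun ⟨k, _, e⟩ => isConj_iff.2 ⟨k, e⟩)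
    fun ⟨k, _, e⟩ => isConj_iff.2 ⟨k, e⟩) wB n zw e1 e2 e3 zB ((b.md.card_pull B).trans (by rw [k.cB]))
    (fun x o => cov pk b i' n k oc o) (nz b i' n k) (H20.FtB.trDB u e1 e2 BA BQ zB lx.z1 st wB n zw)
    (H20.FtB.trZB u e1 e2 BA BQ zB st (nz b i' n k)) (H20.FtB.cos b u e1 e2 (BA zB) e3 (e4.le.trans k.YM) oc)
    (H14.FzC.cN b i' n k oc) (H20.FtB.c21 b u e1 e2 (BA zB)) (H14.FzC.c19 b i' n k fun X l => H20.FtB.sy u e1 e2 X l 19)⟩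

theorem main (pk : PkS.{u}) {G : Type u} [Group G] [Finite G] (z : G) (Q : Subgroup (Subgroup.centralizer ({z} : Set G))) [Q.Normal]
    (hF : Cfsg.IsOfLargeFischerTypeAt z Q) (T : Sylow 2 G) (A M : Subgroup G)
    (hA : A = Cfsg.thompsonSubgroupOf 2 (T : Subgroup G)) (hM : M = Subgroup.normalizer (A : Set G)) :
    (Cfsg.IsElementaryAbelian 2 A ∧ Nat.card A = 2 ^ 11 ∧ ∃ _ : (A.subgroupOf M).Normal, Nonempty (↥M ⧸ A.subgroupOf M ≃* ↥Cfsg.M24)) ∧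
    ∀ t : G, t ∈ A → orderOf t = 2 → ¬ IsConj z t → ∃ _ : (A.subgroupOf (M ⊓ Subgroup.centralizer ({t} : Set G))).Normal,
      Nonempty (↥(M ⊓ Subgroup.centralizer ({t} : Set G)) ⧸ A.subgroupOf (M ⊓ Subgroup.centralizer ({t} : Set G)) ≃*
        ↥(Cfsg.M24 ⊓ MulAction.stabilizer (Equiv.Perm Cfsg.GolayPt) ({none, some 0} : Set Cfsg.GolayPt))) := by
  obtain ⟨u, A0, B0, h⟩ := cf pk z Q hF
  exact _root_.L.Fz.fin Cfsg.Agent.H02.FzK.k H24.FzN.n H21.Fz.x H12.Fz.t H25.Fz.s H10.FzF.f u h T A M hA hM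

end H14.FzG
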