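import Mathlib
import Cfsg.Agent.H14.RK
import Cfsg.Agent.H14.P24

/-! Schur multipliers of the Mathieu groups: `m11`, `m23`, `m24`; `a12p3`. -/

set_option maxRecDepth 100000
set_option Elab.async false

namespace H14.MulM

open Cfsg H13 H15 H14.PK H14.RK

noncomputable def a11p2rl : List (List (List ℕ)) :=
  [[[]],
  [[nat_lit 1, nat_lit 2], [nat_lit 2]],
  [[nat_lit 2, nat_lit 3], [nat_lit 2], [nat_lit 3]],
  [[nat_lit 3], [nat_lit 3], [nat_lit 3], []]]

noncomputable def a11p2fr : List (ℕ × List ℕ × List ℕ) :=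
  [(nat_lit 4, (unp (nat_lit 2) (nat_lit 0x3403)), (unp (nat_lit 2) (nat_lit 0xe404))),
  (nat_lit 4, [nat_lit 2], [nat_lit 0, nat_lit 1]),
  (nat_lit 4, [nat_lit 3], [nat_lit 3]),
  (nat_lit 5, [nat_lit 3], [nat_lit 0, nat_lit 2])]

noncomputable def a11p2D : PC :=
  ⟨nat_lit 2, nat_lit 4, nat_lit 22, nat_lit 1, nat_lit 14, nat_lit 25, nat_lit 4, a11p2rl, a11p2fr⟩

noncomputable def a11p2cs : List (Cn × ℕ) :=
  [(.con [nat_lit 1] (nat_lit 1) (nat_lit 1), (nat_lit 0x2000)),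
  (.con [nat_lit 2] (nat_lit 2) (nat_lit 2), (nat_lit 0x40000)),
  (.con [nat_lit 2] (nat_lit 2) (nat_lit 1), (nat_lit 0x20000)),
  (.con [nat_lit 2] (nat_lit 0) (nat_lit 0), (nat_lit 0x90000)),
  (.con [nat_lit 1] (nat_lit 0) (nat_lit 0), (nat_lit 0x85000)),
  (.con [nat_lit 1] (nat_lit 1) (nat_lit 0), (nat_lit 0x47000)),
  (.fus (nat_lit 4) [nat_lit 1, nat_lit 1] [nat_lit 2], (nat_lit 0x2314)),
  (.fus (nat_lit 4) [nat_lit 0, nat_lit 0] [nat_lit 2], (nat_lit 0xc7004)),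
  (.fus (nat_lit 5) [nat_lit 3, nat_lit 3] [], (nat_lit 0x45010))]

noncomputable def a11p2Fs : List ℕ :=
  [(nat_lit 0),
  (nat_lit 0),
  (nat_lit 512),
  (nat_lit 0x4000)]

noncomputable def a11p2la : List (List ℕ) :=
  [[(nat_lit 289)],
  [(nat_lit 499), (nat_lit 0)],
  [(nat_lit 35), (nat_lit 1), (nat_lit 0)],
  [(nat_lit 59), (nat_lit 4), (nat_lit 2), (nat_lit 51)]]

theorem a11p2ok : a11p2D.ok = true := by decide +kernel

theorem a11p2cn : Nat.beq a11p2cs.length 9 = true := by decide +kernel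

theorem a11p2h3 : band (Nat.ble a11p2cs.length a11p2D.fuel) (allL (fun f => force (a11p2D.wd f) (bdOk a11p2D.b a11p2D.N a11p2D.t)) a11p2Fs) = true := by decide +kernel

theorem a11p2c_0 : rng (fun i => cnOk a11p2D (nthD (.con [] 0 0, 0) a11p2cs i)) (nat_lit 0) (nat_lit 9) = true := by decide +kernel

theorem a11p2t_0 : tgAll a11p2D a11p2cs a11p2Fs a11p2la (nat_lit 0) (nat_lit 4) = true := by decide +kernel

theorem a11p2c : ∀ i < 9, (fun i => cnOk a11p2D (nthD (.con [] 0 0, 0) a11p2cs i)) i = true :=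
  (rng_add rng_zero a11p2c_0)

theorem a11p2ns {G : Type*} [Group G] [Finite G] {g : ℕ → G} (R : PcRel a11p2D g)
    (hP : a11p2D.p ^ a11p2D.n ≤ Nat.card (Subgroup.closure (g '' Set.Iio a11p2D.n))) (hG : ¬ 2 ^ 5 ∣ Nat.card G) :
    NoStem 2 G :=
  noStem_of (D := a11p2D) (show Nat.Prime 2 by norm_num) a11p2ok R (allR a11p2cn a11p2c) (rng_add rng_zero (tgAll_rng a11p2t_0)) a11p2h3 hP hG

def a11p2L : List ℕ := [nat_lit 0x5daae7b0e39d132ba9a8890a680820, nat_lit 0x2cef1399c255930ad1a37a17261020, nat_lit 0x59cae7a2c4a4da2bc52c50ea684820, nat_lit 0xbaab3a30e673db25d9228c0a322020, nat_lit 0x2cee78c2c27b8265d1ac522a41c920, nat_lit 0xb9dc5aa223a4e0c5d8c2511e96c820]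

theorem a11p2 : NoStem 2 Spor.M11 :=
  noStemT (S := SP.sub Spor.M11) (L := a11p2L) (fun t ht => (in_M11 (allL_iff.1 (by decide +kernel : allL (okS [0] [0x5335f] []) a11p2L = true) t ht)).sub)
    (baseM (inf_le_left.trans inf_le_left)) (D := a11p2D) (fun a b => a11p2ns a b (by rw [card_M11]; norm_num)) (pr := [[], [1, 3], [3, 2], [6, 3], [4, 5], [8, 2]])
    (ch := [(3, [nat_lit 0xbdab49ca307b9ac5a928398a418820, nat_lit 0x5daae7b0e39d132ba9a8890a680820, nat_lit 0x2cef1399c255930ad1a37a17261020, nat_lit 0xbaab3a30e673db25d9228c0a322020, nat_lit 0xacef6541ec3c5a62d1237496811020, nat_lit 0x5aaaf74a24a4d2cbd9a238cb032020, nat_lit 0x2bd6789282559a3ab9309a2ec91820, nat_lit 0xad2eab19d289db02cd247b16240c20]),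
  (2, [nat_lit 0xbdab49ca307b9ac5a928398a418820, nat_lit 0xbc4b49a2c673d2259db2542a41b020])]) (by decide +kernel)

noncomputable def a11p3rl : List (List (List ℕ)) :=
  [[[]],
  [[nat_lit 1], []]]

noncomputable def a11p3fr : List (ℕ × List ℕ × List ℕ) :=
  [(nat_lit 2, [nat_lit 0], (unp (nat_lit 1) (nat_lit 1539))),
  (nat_lit 2, [nat_lit 1], (unp (nat_lit 1) (nat_lit 3076))),
  (nat_lit 3, [nat_lit 0], [nat_lit 0, nat_lit 0]),
  (nat_lit 3, [nat_lit 1], [nat_lit 0, nat_lit 1])]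

noncomputable def a11p3D : PC :=
  ⟨nat_lit 3, nat_lit 2, nat_lit 24, nat_lit 2, nat_lit 15, nat_lit 26, nat_lit 4, a11p3rl, a11p3fr⟩

noncomputable def a11p3cs : List (Cn × ℕ) :=
  [(.fus (nat_lit 2) (unp (nat_lit 1) (nat_lit 3)) [], (nat_lit 0x8000)),
  (.fus (nat_lit 2) (unp (nat_lit 1) (nat_lit 1795)) [], (nat_lit 0x4200)),
  (.fus (nat_lit 3) [nat_lit 3, nat_lit 2] [nat_lit 2, nat_lit 3], (nat_lit 0x1000))]

noncomputable def a11p3Fs : List ℕ :=
  [(nat_lit 0),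
  (nat_lit 0)]

noncomputable def a11p3la : List (List ℕ) :=
  [[(nat_lit 5)],
  [(nat_lit 32), (nat_lit 1)]]

theorem a11p3ok : a11p3D.ok = true := by decide +kernel

theorem a11p3cn : Nat.beq a11p3cs.length 3 = true := by decide +kernel

theorem a11p3h3 : band (Nat.ble a11p3cs.length a11p3D.fuel) (allL (fun f => force (a11p3D.wd f) (bdOk a11p3D.b a11p3D.N a11p3D.t)) a11p3Fs) = true := by decide +kernel

theorem a11p3c_0 : rng (fun i => cnOk a11p3D (nthD (.con [] 0 0, 0) a11p3cs i)) (nat_lit 0) (nat_lit 3) = true := by decide +kernel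

theorem a11p3t_0 : tgAll a11p3D a11p3cs a11p3Fs a11p3la (nat_lit 0) (nat_lit 2) = true := by decide +kernel

theorem a11p3c : ∀ i < 3, (fun i => cnOk a11p3D (nthD (.con [] 0 0, 0) a11p3cs i)) i = true :=
  (rng_add rng_zero a11p3c_0)

theorem a11p3ns {G : Type*} [Group G] [Finite G] {g : ℕ → G} (R : PcRel a11p3D g)
    (hP : a11p3D.p ^ a11p3D.n ≤ Nat.card (Subgroup.closure (g '' Set.Iio a11p3D.n))) (hG : ¬ 3 ^ 3 ∣ Nat.card G) :
    NoStem 3 G :=
  noStem_of (D := a11p3D) (show Nat.Prime 3 by norm_num) a11p3ok R (allR a11p3cn a11p3c) (rng_add rng_zero (tgAll_rng a11p3t_0)) a11p3h3 hP hG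

def a11p3L : List ℕ := [nat_lit 0xb2e8e991437d4cdb9e508b0a940820, nat_lit 0xb2dd57c2262d124ba90d3ca6360820, nat_lit 0x2ccea5b1c9b448d7d506a42f218820, nat_lit 0xb5cea78e8d2c4895d50674a7060440]

theorem a11p3 : NoStem 3 Spor.M11 :=
  noStemT (S := SP.sub Spor.M11) (L := a11p3L) (fun t ht => (in_M11 (allL_iff.1 (by decide +kernel : allL (okS [0] [0x5335f] []) a11p3L = true) t ht)).sub)
    (baseM (inf_le_left.trans inf_le_left)) (D := a11p3D) (fun a b => a11p3ns a b (by rw [card_M11]; norm_num)) (pr := [[], [1, 1], [3, 2], [4, 4], [5, 2], [6, 2], [7, 1]])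
    (ch := [(3, [nat_lit 0xbdab49ca307b9ac5a928398a418820, nat_lit 0xb2e8e991437d4cdb9e508b0a940820, nat_lit 0xb2dd57c2262d124ba90d3ca6360820, nat_lit 0x5ddd59a4e87d186b4483534b280820, nat_lit 0x5deb478d4c2ba49b1e068926868820, nat_lit 0x5de8e29a329d503b29a93c1ec20820, nat_lit 0xbda8e7a0ed2d4925c46c5267030820, nat_lit 0xbd9d52b1449d20859cd288ded48820, nat_lit 0xb2eb42b4e99b870bc584521e690820])]) (by decide +kernel)

noncomputable def a12p3rl : List (List (List ℕ)) :=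
  [[[]],
  [[nat_lit 1, nat_lit 2], []],
  [[nat_lit 2], [nat_lit 2], []]]

noncomputable def a12p3fr : List (ℕ × List ℕ × List ℕ) :=
  [(nat_lit 3, [nat_lit 0], [nat_lit 0, nat_lit 0]),
  (nat_lit 3, [nat_lit 1], (unp (nat_lit 2) (nat_lit 0x2503))),
  (nat_lit 3, [nat_lit 2], [nat_lit 2])]

noncomputable def a12p3D : PC :=
  ⟨nat_lit 3, nat_lit 3, nat_lit 24, nat_lit 2, nat_lit 15, nat_lit 23, nat_lit 3, a12p3rl, a12p3fr⟩

noncomputable def a12p3cs : List (Cn × ℕ) :=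
  [(.con [nat_lit 1] (nat_lit 0) (nat_lit 0), (nat_lit 0x800000)),
  (.fus (nat_lit 3) (unp (nat_lit 1) (nat_lit 3)) [], (nat_lit 64)),
  (.fus (nat_lit 3) [nat_lit 2, nat_lit 0] [nat_lit 0, nat_lit 2], (nat_lit 0x40000)),
  (.fus (nat_lit 3) [nat_lit 2, nat_lit 1] [nat_lit 1, nat_lit 2], (nat_lit 0x100000)),
  (.fus (nat_lit 3) (unp (nat_lit 1) (nat_lit 1795)) [], (nat_lit 0x404000))]

noncomputable def a12p3Fs : List ℕ :=
  [(nat_lit 0),
  (nat_lit 0),
  (nat_lit 0x1000)]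

noncomputable def a12p3la : List (List ℕ) :=
  [[(nat_lit 8)],
  [(nat_lit 0), (nat_lit 514)],
  [(nat_lit 32), (nat_lit 128), (nat_lit 1)]]

theorem a12p3ok : a12p3D.ok = true := by decide +kernel

theorem a12p3cn : Nat.beq a12p3cs.length 5 = true := by decide +kernel

theorem a12p3h3 : band (Nat.ble a12p3cs.length a12p3D.fuel) (allL (fun f => force (a12p3D.wd f) (bdOk a12p3D.b a12p3D.N a12p3D.t)) a12p3Fs) = true := by decide +kernel

theorem a12p3c_0 : rng (fun i => cnOk a12p3D (nthD (.con [] 0 0, 0) a12p3cs i)) (nat_lit 0) (nat_lit 5) = true := by decide +kernel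

theorem a12p3t_0 : tgAll a12p3D a12p3cs a12p3Fs a12p3la (nat_lit 0) (nat_lit 3) = true := by decide +kernel

theorem a12p3c : ∀ i < 5, (fun i => cnOk a12p3D (nthD (.con [] 0 0, 0) a12p3cs i)) i = true :=
  (rng_add rng_zero a12p3c_0)

theorem a12p3ns {G : Type*} [Group G] [Finite G] {g : ℕ → G} (R : PcRel a12p3D g)
    (hP : a12p3D.p ^ a12p3D.n ≤ Nat.card (Subgroup.closure (g '' Set.Iio a12p3D.n))) (hG : ¬ 3 ^ 4 ∣ Nat.card G) :
    NoStem 3 G :=
  noStem_of (D := a12p3D) (show Nat.Prime 3 by norm_num) a12p3ok R (allR a12p3cn a12p3c) (rng_add rng_zero (tgAll_rng a12p3t_0)) a12p3h3 hP hG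

def a12p3L : List ℕ := [nat_lit 0x516aeb868d7c4445ce48b18e364120, nat_lit 0x9d627532c9a160175da07a16220e46, nat_lit 0xb95719c1c4ad0697a848b18f20b1a0, nat_lit 0x539e79b2c959430adc8089a826c868]

theorem a12p3 : NoStem 3 Spor.M12 :=
  noStemT (S := SP.sub Spor.M12) (L := a12p3L) (fun t ht => (in_M12 (allL_iff.1 (by decide +kernel : allL (okS [] [0x5335f] []) a12p3L = true) t ht)).sub)
    (baseM inf_le_left) (D := a12p3D) (fun a b => a12p3ns a b (by rw [card_M12]; norm_num)) (pr := [[], [1, 2], [0, 0], [5, 3], [5, 5], [7, 6], [8, 8], [7, 2]])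
    (ch := [(1, [nat_lit 0xbdab49ca307b9ac5a928398a418820, nat_lit 0x516aeb868d7c4445ce48b18e364120, nat_lit 0x9d627532c9a160175da07a16220e46, nat_lit 0xb95719c1c4ad0697a848b18f20b1a0, nat_lit 0x51d74bb623ab9927ce0829ac149040, nat_lit 0x546cfb86ad3ad322ce06a01c311188, nat_lit 0x9add6524a289c8da5c60aa1ec90606, nat_lit 0xb9dee992925c422aa98829ad06a460, nat_lit 0x9d0af526a2b2e413dda67022c80c88]),
  (0, [nat_lit 0xbdab49ca307b9ac5a928398a418820, nat_lit 0xbd696990b271da98a8407a1701b026, nat_lit 0xbd2d59c1643bda22a986702321a428])]) (by decide +kernel)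

noncomputable def a23p2rl : List (List (List ℕ)) :=
  [[[nat_lit 6]],
  [(unp (nat_lit 3) (nat_lit 0x1a903)), []],
  [[nat_lit 2, nat_lit 3], [nat_lit 2, nat_lit 4], []],
  [[nat_lit 3, nat_lit 6], [nat_lit 3, nat_lit 5], [nat_lit 3, nat_lit 6], [nat_lit 6]],
  [[nat_lit 4, nat_lit 5], [nat_lit 4], [nat_lit 4], [nat_lit 4, nat_lit 6], []],
  [[nat_lit 5], [nat_lit 5], [nat_lit 5, nat_lit 6], [nat_lit 5], [nat_lit 5], []],
  [[nat_lit 6], [nat_lit 6], [nat_lit 6], [nat_lit 6], [nat_lit 6], [nat_lit 6], []]]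

noncomputable def a23p2fr : List (ℕ × List ℕ × List ℕ) :=
  [(nat_lit 7, [nat_lit 2, nat_lit 4], (unp (nat_lit 3) (nat_lit 0x16103))),
  (nat_lit 7, (unp (nat_lit 3) (nat_lit 0x1a303)), [nat_lit 5, nat_lit 6]),
  (nat_lit 7, [nat_lit 5], (unp (nat_lit 3) (nat_lit 0x10803))),
  (nat_lit 8, [nat_lit 4, nat_lit 5], (unp (nat_lit 3) (nat_lit 0xb1a04))),
  (nat_lit 9, (unp (nat_lit 3) (nat_lit 0x16303)), [nat_lit 4, nat_lit 5]),
  (nat_lit 10, [nat_lit 0], [nat_lit 0, nat_lit 4]),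
  (nat_lit 10, [nat_lit 1], [nat_lit 4]),
  (nat_lit 10, [nat_lit 3], (unp (nat_lit 3) (nat_lit 0x19903))),
  (nat_lit 10, [nat_lit 5, nat_lit 6], [nat_lit 5]),
  (nat_lit 10, [nat_lit 6], [nat_lit 5, nat_lit 6])]

noncomputable def a23p2D : PC :=
  ⟨nat_lit 2, nat_lit 7, nat_lit 23, nat_lit 1, nat_lit 14, nat_lit 32, nat_lit 10, a23p2rl, a23p2fr⟩

noncomputable def a23p2cs : List (Cn × ℕ) :=
  [(.con [nat_lit 0] (nat_lit 0) (nat_lit 0), (nat_lit 0x10000000000000)),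
  (.con [nat_lit 3] (nat_lit 3) (nat_lit 3), (nat_lit 0x80000000000000)),
  (.con [nat_lit 2] (nat_lit 2) (nat_lit 1), (nat_lit 0x50000000000)),
  (.con [nat_lit 4] (nat_lit 4) (nat_lit 0), (nat_lit 0x6000000000000)),
  (.con [nat_lit 4] (nat_lit 4) (nat_lit 3), (nat_lit 0x500000000000000)),
  (.con [nat_lit 5] (nat_lit 5) (nat_lit 2), (nat_lit 0x600000000000000)),
  (.con [nat_lit 2] (nat_lit 1) (nat_lit 1), (nat_lit 0x48000000000)),
  (.con [nat_lit 3] (nat_lit 1) (nat_lit 1), (nat_lit 0x4400000000000)),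
  (.con [nat_lit 3] (nat_lit 2) (nat_lit 2), (nat_lit 0x440000000000000)),
  (.con [nat_lit 5] (nat_lit 0) (nat_lit 0), (nat_lit 0x200000000000000)),
  (.con [nat_lit 2] (nat_lit 2) (nat_lit 0), (nat_lit 0x480000600000000)),
  (.con [nat_lit 1] (nat_lit 1) (nat_lit 0), (nat_lit 0x624400000000000)),
  (.con [nat_lit 3] (nat_lit 3) (nat_lit 1), (nat_lit 0x25000000000000)),
  (.con [nat_lit 4] (nat_lit 0) (nat_lit 0), (nat_lit 0x104200000000000)),
  (.con [nat_lit 2] (nat_lit 0) (nat_lit 0), (nat_lit 0x440000480000000)),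
  (.con [nat_lit 4] (nat_lit 3) (nat_lit 1), (nat_lit 0x222000000000000)),
  (.con [nat_lit 4] (nat_lit 2) (nat_lit 0), (nat_lit 0x681820000000000)),
  (.con [nat_lit 2] (nat_lit 1) (nat_lit 0), (nat_lit 0x43824100000000)),
  (.fus (nat_lit 7) [nat_lit 0, nat_lit 0] [], (nat_lit 0x6418004040000)),
  (.fus (nat_lit 7) [nat_lit 1, nat_lit 1] [], (nat_lit 0x684060400000000)),
  (.fus (nat_lit 7) [nat_lit 2, nat_lit 2] [], (nat_lit 0x62204c000060400)),
  (.fus (nat_lit 8) [nat_lit 3, nat_lit 3] [], (nat_lit 0x201830604000000)),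
  (.fus (nat_lit 9) [nat_lit 4, nat_lit 4] [], (nat_lit 0x501020400000000)),
  (.fus (nat_lit 10) [nat_lit 5, nat_lit 5] [nat_lit 9], (nat_lit 0x202044000000200)),
  (.fus (nat_lit 10) [nat_lit 6, nat_lit 5] (unp (nat_lit 4) (nat_lit 0x86503)), (nat_lit 0x2004000020100)),
  (.fus (nat_lit 10) [nat_lit 7, nat_lit 6] (unp (nat_lit 4) (nat_lit 0x987604)), (nat_lit 0x104028100000300))]

noncomputable def a23p2Fs : List ℕ :=
  [(nat_lit 0),
  (nat_lit 0),
  (nat_lit 0),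
  (nat_lit 0x1000000),
  (nat_lit 0x2000000),
  (nat_lit 0x100000000),
  (nat_lit 1024)]

noncomputable def a23p2la : List (List ℕ) :=
  [[(nat_lit 0)],
  [(nat_lit 0x7e9d30), (nat_lit 0x6d96f2)],
  [(nat_lit 0), (nat_lit 0), (nat_lit 0x691c96)],
  [(nat_lit 0x3bec4f0), (nat_lit 0), (nat_lit 0x3be83d2), (nat_lit 0x3be85f0)],
  [(nat_lit 0x389a2), (nat_lit 0x4818d2), (nat_lit 0x481896), (nat_lit 0x3fe17e8), (nat_lit 0x481892)],
  [(nat_lit 0xa898), (nat_lit 0x8a28), (nat_lit 0x3ff85c2), (nat_lit 0x9208), (nat_lit 0x8aa0), (nat_lit 0x8aa8)],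
  [(nat_lit 1), (nat_lit 2208), (nat_lit 800), (nat_lit 2), (nat_lit 560), (nat_lit 512), (nat_lit 544)]]

theorem a23p2ok : a23p2D.ok = true := by decide +kernel

theorem a23p2cn : Nat.beq a23p2cs.length 26 = true := by decide +kernel

theorem a23p2h3 : band (Nat.ble a23p2cs.length a23p2D.fuel) (allL (fun f => force (a23p2D.wd f) (bdOk a23p2D.b a23p2D.N a23p2D.t)) a23p2Fs) = true := by decide +kernel

theorem a23p2c_0 : rng (fun i => cnOk a23p2D (nthD (.con [] 0 0, 0) a23p2cs i)) (nat_lit 0) (nat_lit 26) = true := by decide +kernel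

theorem a23p2t_0 : tgAll a23p2D a23p2cs a23p2Fs a23p2la (nat_lit 0) (nat_lit 7) = true := by decide +kernel

theorem a23p2c : ∀ i < 26, (fun i => cnOk a23p2D (nthD (.con [] 0 0, 0) a23p2cs i)) i = true :=
  (rng_add rng_zero a23p2c_0)

theorem a23p2ns {G : Type*} [Group G] [Finite G] {g : ℕ → G} (R : PcRel a23p2D g)
    (hP : a23p2D.p ^ a23p2D.n ≤ Nat.card (Subgroup.closure (g '' Set.Iio a23p2D.n))) (hG : ¬ 2 ^ 8 ∣ Nat.card G) :
    NoStem 2 G :=
  noStem_of (D := a23p2D) (show Nat.Prime 2 by norm_num) a23p2ok R (allR a23p2cn a23p2c) (rng_add rng_zero (tgAll_rng a23p2t_0)) a23p2h3 hP hG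

def a23p2L : List ℕ := [nat_lit 0xbd1d62b4869558f5cd470c53040860, nat_lit 0xbd6ce849331d0ec596286914678820, nat_lit 0xbda959b2112b9521352820de732c20, nat_lit 0xbba9592501558b35b59021de330a20, nat_lit 0xbba954ca113d86c59a687a88568820, nat_lit 0xbdab4805333b8685922c794ca68a40, nat_lit 0xbdab44b2116b9f2596611914638900, nat_lit 0xb89cb912692d946ac58d1a201381f4, nat_lit 0xbaece849013088caaa2979ca36d260, nat_lit 0xbcd4f64a04722c65a4e313425a5620, nat_lit 0xbda8e985316d472016083a8c47ad82]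

theorem a23p2 : NoStem 2 Spor.M23 :=
  noStemT (S := SP.sub Spor.M23) (L := a23p2L) (fun t ht => (in_M23 (allL_iff.1 (by decide +kernel : allL (okS [23] [] []) a23p2L = true) t ht)).sub)
    (baseM inf_le_left) (D := a23p2D) (fun a b => a23p2ns a b (by rw [card_M23]; norm_num)) (pr := [[], [3, 2], [3, 4], [4, 1], [6, 1], [6, 5], [8, 6], [11, 7], [14, 8], [9, 12], [11, 13], [13, 14], [14, 17], [15, 7], [17, 8], [19, 4]])
    (ch := [(1, [nat_lit 0xbdab49ca307b9ac5a928398a418820, nat_lit 0xbd1d62b4869558f5cd470c53040860, nat_lit 0xbba9592501558b35b59021de330a20, nat_lit 0xbdab4805333b8685922c794ca68a40, nat_lit 0xbdab44b2116b9f2596611914638900, nat_lit 0xbba9551cc4959835c0ad0a633409e0, nat_lit 0xbd5d67a8e36524514da40c13142cc0, nat_lit 0xbd6ce20caa951875a4cf0c271409a0, nat_lit 0xbd1d653cc46564d5a4a344271088e0, nat_lit 0xbd6ce6a8e39d1255b1e68064888880, nat_lit 0xbd1d6945012d55059d933346f20920, nat_lit 0xbbab4625016d9f312a51390a61ae00,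 nat_lit 0xbda9588533238c811e122bc6d52d80, nat_lit 0xbbab46906765a46145ea0a61342ca0, nat_lit 0xbdab4690e34ba66585e58b11280940, nat_lit 0xbd6ce94101250d15bd8950da728a60]),
  (3, [nat_lit 0xbdab49ca307b9ac5a928398a418820, nat_lit 0xbd6ce849331d0ec596286914678820, nat_lit 0xbda959b2112b9521352820de732c20, nat_lit 0xbd2ce8b1333549213e0851da32ac20, nat_lit 0xbd5d683269550b211e2833c6d22c20, nat_lit 0xbbab44b230258d210e682b4ef52c20, nat_lit 0xbd1d68ca696d5ec59208194ca38820, nat_lit 0xbba954ca113d86c59a687a88568820])]) (by decide +kernel)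

noncomputable def a23p3rl : List (List (List ℕ)) :=
  [[[]],
  [[nat_lit 1], []]]

noncomputable def a23p3fr : List (ℕ × List ℕ × List ℕ) :=
  [(nat_lit 2, [nat_lit 0], [nat_lit 0, nat_lit 0]),
  (nat_lit 2, [nat_lit 1], [nat_lit 1, nat_lit 1]),
  (nat_lit 3, [nat_lit 0], (unp (nat_lit 1) (nat_lit 3076))),
  (nat_lit 3, [nat_lit 1], [nat_lit 1])]

noncomputable def a23p3D : PC :=
  ⟨nat_lit 3, nat_lit 2, nat_lit 23, nat_lit 2, nat_lit 15, nat_lit 11, nat_lit 4, a23p3rl, a23p3fr⟩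

noncomputable def a23p3cs : List (Cn × ℕ) :=
  [(.fus (nat_lit 2) (unp (nat_lit 1) (nat_lit 3)) [], (nat_lit 256)),
  (.fus (nat_lit 2) (unp (nat_lit 1) (nat_lit 1795)) [], (nat_lit 0x4000)),
  (.fus (nat_lit 3) [nat_lit 3, nat_lit 2] [nat_lit 2, nat_lit 3], (nat_lit 0x1000))]

noncomputable def a23p3Fs : List ℕ :=
  [(nat_lit 0),
  (nat_lit 0)]

noncomputable def a23p3la : List (List ℕ) :=
  [[(nat_lit 2)],
  [(nat_lit 32), (nat_lit 8)]]

theorem a23p3ok : a23p3D.ok = true := by decide +kernel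

theorem a23p3cn : Nat.beq a23p3cs.length 3 = true := by decide +kernel

theorem a23p3h3 : band (Nat.ble a23p3cs.length a23p3D.fuel) (allL (fun f => force (a23p3D.wd f) (bdOk a23p3D.b a23p3D.N a23p3D.t)) a23p3Fs) = true := by decide +kernel

theorem a23p3c_0 : rng (fun i => cnOk a23p3D (nthD (.con [] 0 0, 0) a23p3cs i)) (nat_lit 0) (nat_lit 3) = true := by decide +kernel

theorem a23p3t_0 : tgAll a23p3D a23p3cs a23p3Fs a23p3la (nat_lit 0) (nat_lit 2) = true := by decide +kernel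

theorem a23p3c : ∀ i < 3, (fun i => cnOk a23p3D (nthD (.con [] 0 0, 0) a23p3cs i)) i = true :=
  (rng_add rng_zero a23p3c_0)

theorem a23p3ns {G : Type*} [Group G] [Finite G] {g : ℕ → G} (R : PcRel a23p3D g)
    (hP : a23p3D.p ^ a23p3D.n ≤ Nat.card (Subgroup.closure (g '' Set.Iio a23p3D.n))) (hG : ¬ 3 ^ 3 ∣ Nat.card G) :
    NoStem 3 G :=
  noStem_of (D := a23p3D) (show Nat.Prime 3 by norm_num) a23p3ok R (allR a23p3cn a23p3c) (rng_add rng_zero (tgAll_rng a23p3t_0)) a23p3h3 hP hG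

def a23p3L : List ℕ := [nat_lit 0xbc17342864345af49eb4930b670820, nat_lit 0xbc4934496365446b2a143bdae49420, nat_lit 0xbd874449646244f89dd3518b0ab420, nat_lit 0xb92c8a1dc96ad82aa873915f181801]

theorem a23p3 : NoStem 3 Spor.M23 :=
  noStemT (S := SP.sub Spor.M23) (L := a23p3L) (fun t ht => (in_M23 (allL_iff.1 (by decide +kernel : allL (okS [23] [] []) a23p3L = true) t ht)).sub)
    (baseM inf_le_left) (D := a23p3D) (fun a b => a23p3ns a b (by rw [card_M23]; norm_num)) (pr := [[], [1, 1], [3, 2], [4, 4], [5, 2], [6, 2], [7, 1]])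
    (ch := [(3, [nat_lit 0xbdab49ca307b9ac5a928398a418820, nat_lit 0xbc17342864345af49eb4930b670820, nat_lit 0xbc4934496365446b2a143bdae49420, nat_lit 0xb9128a1dd660da6ac97353cb088820, nat_lit 0xb8ec8a292e7ac4c81c93919b1a9420, nat_lit 0xbadc8a4ac9310af8a8733b05583420, nat_lit 0xbba1499eb13244f24ac8531a359420, nat_lit 0xba6349aa15658a619dc893c4b23420, nat_lit 0xbd47341c8b7c0ac74a3451849b3420])]) (by decide +kernel)

noncomputable def a24p2rl : List (List (List ℕ)) :=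
  [[[]],
  [[nat_lit 1], []],
  [[nat_lit 2, nat_lit 5], (unp (nat_lit 3) (nat_lit 0x16203)), [nat_lit 5]],
  [(unp (nat_lit 4) (nat_lit 0x8654305)), (unp (nat_lit 4) (nat_lit 0x865304)), (unp (nat_lit 4) (nat_lit 0x976304)), (unp (nat_lit 4) (nat_lit 0x976504))],
  [[nat_lit 4, nat_lit 7], [nat_lit 4, nat_lit 7], [nat_lit 4, nat_lit 7], (unp (nat_lit 4) (nat_lit 0x97403)), []],
  [[nat_lit 5], [nat_lit 5, nat_lit 7], [nat_lit 5], (unp (nat_lit 4) (nat_lit 0x98503)), [nat_lit 5], []],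
  [[nat_lit 6, nat_lit 7], [nat_lit 6, nat_lit 7], [nat_lit 6, nat_lit 8], [nat_lit 6, nat_lit 8], [nat_lit 6, nat_lit 9], [nat_lit 6, nat_lit 9], [nat_lit 9]],
  [[nat_lit 7], [nat_lit 7], [nat_lit 7], [nat_lit 7, nat_lit 9], [nat_lit 7], [nat_lit 7], [nat_lit 7], []],
  [[nat_lit 8, nat_lit 9], [nat_lit 8], [nat_lit 8, nat_lit 9], [nat_lit 8, nat_lit 9], [nat_lit 8], [nat_lit 8], [nat_lit 8], [nat_lit 8], []],
  [[nat_lit 9], [nat_lit 9], [nat_lit 9], [nat_lit 9], [nat_lit 9], [nat_lit 9], [nat_lit 9], [nat_lit 9], [nat_lit 9], []]]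

noncomputable def a24p2fr : List (ℕ × List ℕ × List ℕ) :=
  [(nat_lit 10, [nat_lit 0, nat_lit 2], (unp (nat_lit 4) (nat_lit 0x98654006))),
  (nat_lit 10, [nat_lit 4, nat_lit 7], (unp (nat_lit 4) (nat_lit 0x87654006))),
  (nat_lit 10, [nat_lit 5, nat_lit 7], (unp (nat_lit 4) (nat_lit 0x98765106))),
  (nat_lit 10, [nat_lit 8], (unp (nat_lit 4) (nat_lit 0x9861005))),
  (nat_lit 10, [nat_lit 9], (unp (nat_lit 4) (nat_lit 0x8654005))),
  (nat_lit 11, (unp (nat_lit 4) (nat_lit 0x853204)), (unp (nat_lit 4) (nat_lit 0x8654321008))),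
  (nat_lit 11, [nat_lit 6], (unp (nat_lit 4) (nat_lit 0x87641006))),
  (nat_lit 12, [nat_lit 8], (unp (nat_lit 4) (nat_lit 0x987543207))),
  (nat_lit 13, (unp (nat_lit 4) (nat_lit 0x976104)), (unp (nat_lit 4) (nat_lit 0x84321006))),
  (nat_lit 13, [nat_lit 8, nat_lit 9], (unp (nat_lit 4) (nat_lit 0x987404))),
  (nat_lit 13, [nat_lit 9], (unp (nat_lit 3) (nat_lit 0xf5004)))]

noncomputable def a24p2D : PC :=
  ⟨nat_lit 2, nat_lit 10, nat_lit 25, nat_lit 1, nat_lit 14, nat_lit 144, nat_lit 11, a24p2rl, a24p2fr⟩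

noncomputable def a24p2cs : List (Cn × ℕ) :=
  [(.con [nat_lit 2] (nat_lit 2) (nat_lit 2), (nat_lit 0x8000000000000000)),
  (.con [nat_lit 6] (nat_lit 6) (nat_lit 6), (nat_lit 0x800000000000000000000000000)),
  (.con [nat_lit 4] (nat_lit 4) (nat_lit 0), (nat_lit 0x12000000000000000000000)),
  (.con [nat_lit 5] (nat_lit 5) (nat_lit 1), (nat_lit 0x14000000000000000000000)),
  (.con [nat_lit 7] (nat_lit 7) (nat_lit 3), (nat_lit 0x5000000000000000000000000000)),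
  (.con [nat_lit 8] (nat_lit 8) (nat_lit 0), (nat_lit 0x6000000000000000000000000000)),
  (.con [nat_lit 2] (nat_lit 0) (nat_lit 0), (nat_lit 0x42000000000000000)),
  (.con [nat_lit 4] (nat_lit 0) (nat_lit 0), (nat_lit 0x10200000000000000000000)),
  (.con [nat_lit 4] (nat_lit 1) (nat_lit 1), (nat_lit 0x10400000000000000000000)),
  (.con [nat_lit 6] (nat_lit 4) (nat_lit 4), (nat_lit 0x4200000000000000000000000000)),
  (.con [nat_lit 6] (nat_lit 5) (nat_lit 5), (nat_lit 0x4400000000000000000000000000)),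
  (.con [nat_lit 7] (nat_lit 2) (nat_lit 2), (nat_lit 0x4000000000000000000000)),
  (.con [nat_lit 7] (nat_lit 6) (nat_lit 6), (nat_lit 0x1000000000000000000000000000)),
  (.con [nat_lit 8] (nat_lit 0) (nat_lit 0), (nat_lit 0x4020000000000000000000000000)),
  (.con [nat_lit 4] (nat_lit 2) (nat_lit 2), (nat_lit 0x10800020000000000000000)),
  (.con [nat_lit 8] (nat_lit 2) (nat_lit 2), (nat_lit 0x4081000000000000000000000000)),
  (.con [nat_lit 5] (nat_lit 5) (nat_lit 3), (nat_lit 0x6409000000000000000000000000)),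
  (.con [nat_lit 6] (nat_lit 2) (nat_lit 2), (nat_lit 0x8200010000000000000000000)),
  (.con [nat_lit 7] (nat_lit 6) (nat_lit 2), (nat_lit 0x4000000000000000000000000)),
  (.con [nat_lit 8] (nat_lit 1) (nat_lit 0), (nat_lit 0x40000000000000000000000000)),
  (.con [nat_lit 6] (nat_lit 6) (nat_lit 0), (nat_lit 0x20018000000000000000000000)),
  (.con [nat_lit 6] (nat_lit 6) (nat_lit 2), (nat_lit 0x8a000000000000000000000000)),
  (.con [nat_lit 6] (nat_lit 6) (nat_lit 3), (nat_lit 0x10a000000000000000000000000)),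
  (.con [nat_lit 2] (nat_lit 1) (nat_lit 1), (nat_lit 0x14000064090000000000000)),
  (.con [nat_lit 7] (nat_lit 3) (nat_lit 3), (nat_lit 0x510000c000000000000000000000)),
  (.con [nat_lit 2] (nat_lit 2) (nat_lit 1), (nat_lit 0x200006c0a0000000000000)),
  (.con [nat_lit 8] (nat_lit 2) (nat_lit 1), (nat_lit 0x641800000000000000000000000)),
  (.con [nat_lit 3] (nat_lit 3) (nat_lit 3), (nat_lit 0x790a001004010000000000000000)),
  (.con [nat_lit 2] (nat_lit 1) (nat_lit 0), (nat_lit 0x4000026008000000000000)),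
  (.con [nat_lit 6] (nat_lit 3) (nat_lit 3), (nat_lit 0x1008408010000000000000000000)),
  (.con [nat_lit 4] (nat_lit 3) (nat_lit 3), (nat_lit 0x300013008020000000000000000)),
  (.con [nat_lit 6] (nat_lit 2) (nat_lit 0), (nat_lit 0x3005084810000000000000000000)),
  (.con [nat_lit 3] (nat_lit 1) (nat_lit 1), (nat_lit 0x480b118031044000000000000000)),
  (.con [nat_lit 3] (nat_lit 2) (nat_lit 2), (nat_lit 0x188c018822010000000000000000)),
  (.con [nat_lit 6] (nat_lit 2) (nat_lit 1), (nat_lit 0x4405906818000000000000000000)),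
  (.con [nat_lit 3] (nat_lit 0) (nat_lit 0), (nat_lit 0x40b89c038862088000000000000)),
  (.con [nat_lit 3] (nat_lit 3) (nat_lit 0), (nat_lit 0x5021c0223c8720c0000000000000)),
  (.fus (nat_lit 10) [nat_lit 3, nat_lit 3] [], (nat_lit 0x22190421800000000000600800)),
  (.fus (nat_lit 10) [nat_lit 4, nat_lit 4] [], (nat_lit 0x6a0b89c038862088000000000800)),
  (.fus (nat_lit 10) [nat_lit 2, nat_lit 2] [], (nat_lit 0x344f110431004000000000400000)),
  (.fus (nat_lit 10) [nat_lit 0, nat_lit 0] [], (nat_lit 0x442b89c03882a088000280000000)),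
  (.fus (nat_lit 10) [nat_lit 1, nat_lit 1] [], (nat_lit 0x3a0f890238862008000000000800)),
  (.fus (nat_lit 10) [nat_lit 3, nat_lit 2] [nat_lit 2, nat_lit 3], (nat_lit 0x3460094210806000000000200000)),
  (.fus (nat_lit 10) [nat_lit 4, nat_lit 2] [nat_lit 2, nat_lit 4], (nat_lit 0x5824998209826010000000200000)),
  (.fus (nat_lit 10) [nat_lit 2, nat_lit 1] [nat_lit 1, nat_lit 2], (nat_lit 0x5c20992609806010000000200000)),
  (.fus (nat_lit 11) [nat_lit 6, nat_lit 5] [nat_lit 5, nat_lit 6], (nat_lit 0x7e83e1ee290060b0060180000000)),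
  (.fus (nat_lit 12) [nat_lit 7, nat_lit 7] [], (nat_lit 0x308e2178340380e0180200000000)),
  (.fus (nat_lit 13) [nat_lit 9, nat_lit 8] [nat_lit 8, nat_lit 9], (nat_lit 0x3b62682a00000078000000000000)),
  (.fus (nat_lit 13) [nat_lit 10, nat_lit 8] [nat_lit 8, nat_lit 10], (nat_lit 0x7ac2a8e62a00a0680a0100200000))]

noncomputable def a24p2Fs : List ℕ :=
  [(nat_lit 0),
  (nat_lit 0),
  (nat_lit 0),
  (nat_lit 0),
  (nat_lit 0x300000000),
  (nat_lit 0x200000000),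
  (nat_lit 0x2000000040200000000),
  (nat_lit 0x8000000000000),
  (nat_lit 0x2000000000000000000),
  (nat_lit 0x20000000000000000000)]

noncomputable def a24p2la : List (List ℕ) :=
  [[(nat_lit 0x4800000622)],
  [(nat_lit 0x80910940cd0), (nat_lit 0x46900192ff0)],
  [(nat_lit 0x5e000053ad3), (nat_lit 0), (nat_lit 0)],
  [(nat_lit 0x27a523f60586), (nat_lit 0), (nat_lit 0x1311c4d541938), (nat_lit 0x17f45bb869548)],
  [(nat_lit 0), (nat_lit 0x240109430c8), (nat_lit 0x240121438cd), (nat_lit 0xe59edc5680a), (nat_lit 0x24000143880)],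
  [(nat_lit 0x4e800051a92), (nat_lit 0x1ce810113f9e), (nat_lit 1), (nat_lit 0x18020001c136), (nat_lit 0x180000142d0c), (nat_lit 0x4e800051ad2)],
  [(nat_lit 0xc0981e8c840), (nat_lit 0xe4411fcf8fe), (nat_lit 0), (nat_lit 0xe434c85d4ac), (nat_lit 0xe4105c00aa8), (nat_lit 0x8e594f1a76a1), (nat_lit 0)],
  [(nat_lit 2184), (nat_lit 2312), (nat_lit 0x180000146504), (nat_lit 0x164144c405b8), (nat_lit 2060), (nat_lit 2048), (nat_lit 0x103818), (nat_lit 2056)],
  [(nat_lit 0x9659ce7abb8d), (nat_lit 0x981c4ec21b01), (nat_lit 0x8e594e69c289), (nat_lit 0x8e596e7bea91), (nat_lit 0x578a618), (nat_lit 0x170a018), (nat_lit 0x218420), (nat_lit 0x40000), (nat_lit 0x171b428)],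
  [(nat_lit 0x3010), (nat_lit 0x80000), (nat_lit 0x1703008), (nat_lit 0x1103008), (nat_lit 0x1210), (nat_lit 0x1410), (nat_lit 2), (nat_lit 0x1000), (nat_lit 0x1030), (nat_lit 0x1010)]]

theorem a24p2ok : a24p2D.ok = true := by decide +kernel

theorem a24p2cn : Nat.beq a24p2cs.length 49 = true := by decide +kernel

theorem a24p2h3 : band (Nat.ble a24p2cs.length a24p2D.fuel) (allL (fun f => force (a24p2D.wd f) (bdOk a24p2D.b a24p2D.N a24p2D.t)) a24p2Fs) = true := by decide +kernel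

theorem a24p2c_0 : rng (fun i => cnOk a24p2D (nthD (.con [] 0 0, 0) a24p2cs i)) (nat_lit 0) (nat_lit 49) = true := by decide +kernel

theorem a24p2t_0 : tgAll a24p2D a24p2cs a24p2Fs a24p2la (nat_lit 0) (nat_lit 10) = true := by decide +kernel

theorem a24p2c : ∀ i < 49, (fun i => cnOk a24p2D (nthD (.con [] 0 0, 0) a24p2cs i)) i = true :=
  (rng_add rng_zero a24p2c_0)

theorem a24p2ns {G : Type*} [Group G] [Finite G] {g : ℕ → G} (R : PcRel a24p2D g)
    (hP : a24p2D.p ^ a24p2D.n ≤ Nat.card (Subgroup.closure (g '' Set.Iio a24p2D.n))) (hG : ¬ 2 ^ 11 ∣ Nat.card G) :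
    NoStem 2 G :=
  noStem_of (D := a24p2D) (show Nat.Prime 2 by norm_num) a24p2ok R (allR a24p2cn a24p2c) (rng_add rng_zero (tgAll_rng a24p2t_0)) a24p2h3 hP hG

def a24p2L : List ℕ := [nat_lit 0x33a70abd349590c2aa2d3dd6418820, nat_lit 0x5da9583e3393903ba92d094c4608e0, nat_lit 0x3ba887d5536da0c2a45230d64bc420, nat_lit 0xa156702628bc83bb6895b0d52c8f0, nat_lit 0x1da149c935439a508a2f31d84ba960, nat_lit 0x359126d12f83a6c58a351dca43a820, nat_lit 0x3a67583ed46c50b601d2b8c2a310a2, nat_lit 0x35a13a363543a412a92f1dd6438980, nat_lit 0x3010d94d4f812812c4551dd6e3a596, nat_lit 0xbba13a353545a4c58a2f398a01a824, nat_lit 0x5a4973da60329c5a89a3432127c434, nat_lit 0x626a87d1506c6675b852b84a435860, nat_lit 0x3594025222aba635bd30616ed3a032, nat_lit 0x9962335c0a130f07bac9a490b692a1]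

theorem a24p2 : NoStem 2 M24 :=
  noStemT (S := SP.sub M24) (L := a24p2L) (fun t ht => (in_M24 (allL_iff.1 (by decide +kernel : allL (ok24) a24p2L = true) t ht)).sub)
    (baseM le_rfl) (D := a24p2D) (fun a b => a24p2ns a b (by rw [card_M24]; norm_num)) (pr := [[], [8, 1], [3, 5], [10, 5], [1, 1, 0], [3, 0], [1, 1], [5, 4], [4, 5], [7, 5], [7, 6], [8, 3], [8, 4], [11, 4], [11, 5], [13, 4], [12, 5], [14, 1], [15, 1], [20, 19], [22, 21], [25, 22]])
    (ch := [(5, [nat_lit 0xbdab49ca307b9ac5a928398a418820, nat_lit 0x33a70abd349590c2aa2d3dd6418820, nat_lit 0x5da9583e3393903ba92d094c4608e0, nat_lit 0x1da149c935439a508a2f31d84ba960, nat_lit 0x3a67583ed46c50b601d2b8c2a310a2, nat_lit 0x2ba13a49357d9a332a280aee4608e0, nat_lit 0x2b9149b54fada573a4500ac64644c0, nat_lit 0xda90aa133939f718a2d5b0e42a8c0]),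
  (2, [nat_lit 0xbdab49ca307b9ac5a928398a418820, nat_lit 0x3b556702028c88c5a2a9b8cb433c33, nat_lit 0x1ba6f4415495aa15a44db9ca434580, nat_lit 0x1bd4eb02624a0815ca91b9cb533590, nat_lit 0xbd52eb0291540815b662198af3c988, nat_lit 0x3da0d94d5543a8c5c44fb8ca432420, nat_lit 0x349d148916035415d5e43dcb41c193, nat_lit 0x359126d12f83a6c58a351dca43a820, nat_lit 0x345126cdcfaa681582d03dcaa19182, nat_lit 0x34936701111348c5c1ea1dcb33d434, nat_lit 0xbd236702a954c8c5be02398ad1a032, nat_lit 0x3aab26ced040a81591cf30cb1b8189, nat_lit 0x322c988a4e03d4c5d1a41dcb53cc30, nat_lit 0x3c2ca145ae0552c5ce44b8caf35028, nat_lit 0x1a5b583c129c50c5d89431caabb822, nat_lit 0xb89a87c0929aaac5b814398b11d829]),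
  (0, [nat_lit 0xbdab49ca307b9ac5a928398a418820, nat_lit 0x18250abd2d991015aa34b9cb63098e, nat_lit 0x38113a362f8124c5a935b8cae30836, nat_lit 0x339ed94e28ada8c5a9301dca038824]),
  (1, [nat_lit 0xbdab49ca307b9ac5a928398a418820, nat_lit 0xbba95821336d9e15aa32198a438980])]) (by decide +kernel)

noncomputable def a24p3rl : List (List (List ℕ)) :=
  [[[]],
  [[nat_lit 1, nat_lit 2], []],
  [[nat_lit 2], [nat_lit 2], []]]

noncomputable def a24p3fr : List (ℕ × List ℕ × List ℕ) :=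
  [(nat_lit 3, [nat_lit 0], (unp (nat_lit 2) (nat_lit 0xa504))),
  (nat_lit 3, [nat_lit 2], [nat_lit 2, nat_lit 2]),
  (nat_lit 4, [nat_lit 0], [nat_lit 0, nat_lit 0]),
  (nat_lit 4, [nat_lit 2], [nat_lit 2])]

noncomputable def a24p3D : PC :=
  ⟨nat_lit 3, nat_lit 3, nat_lit 24, nat_lit 2, nat_lit 15, nat_lit 26, nat_lit 4, a24p3rl, a24p3fr⟩

noncomputable def a24p3cs : List (Cn × ℕ) :=
  [(.con [nat_lit 1] (nat_lit 0) (nat_lit 0), (nat_lit 0x2000000)),
  (.fus (nat_lit 3) [nat_lit 1, nat_lit 0] [nat_lit 0, nat_lit 1], (nat_lit 0x600000)),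
  (.fus (nat_lit 3) (unp (nat_lit 1) (nat_lit 3)) [], (nat_lit 0x2020200)),
  (.fus (nat_lit 4) (unp (nat_lit 2) (nat_lit 0x2a03)) [], (nat_lit 256)),
  (.fus (nat_lit 4) [nat_lit 3, nat_lit 2] [nat_lit 2, nat_lit 3], (nat_lit 0x100000))]

noncomputable def a24p3Fs : List ℕ :=
  [(nat_lit 0),
  (nat_lit 0),
  (nat_lit 0x4000)]

noncomputable def a24p3la : List (List ℕ) :=
  [[(nat_lit 128)],
  [(nat_lit 0), (nat_lit 82)],
  [(nat_lit 512), (nat_lit 520), (nat_lit 1)]]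

theorem a24p3ok : a24p3D.ok = true := by decide +kernel

theorem a24p3cn : Nat.beq a24p3cs.length 5 = true := by decide +kernel

theorem a24p3h3 : band (Nat.ble a24p3cs.length a24p3D.fuel) (allL (fun f => force (a24p3D.wd f) (bdOk a24p3D.b a24p3D.N a24p3D.t)) a24p3Fs) = true := by decide +kernel

theorem a24p3c_0 : rng (fun i => cnOk a24p3D (nthD (.con [] 0 0, 0) a24p3cs i)) (nat_lit 0) (nat_lit 5) = true := by decide +kernel

theorem a24p3t_0 : tgAll a24p3D a24p3cs a24p3Fs a24p3la (nat_lit 0) (nat_lit 3) = true := by decide +kernel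

theorem a24p3c : ∀ i < 5, (fun i => cnOk a24p3D (nthD (.con [] 0 0, 0) a24p3cs i)) i = true :=
  (rng_add rng_zero a24p3c_0)

theorem a24p3ns {G : Type*} [Group G] [Finite G] {g : ℕ → G} (R : PcRel a24p3D g)
    (hP : a24p3D.p ^ a24p3D.n ≤ Nat.card (Subgroup.closure (g '' Set.Iio a24p3D.n))) (hG : ¬ 3 ^ 4 ∣ Nat.card G) :
    NoStem 3 G :=
  noStem_of (D := a24p3D) (show Nat.Prime 3 by norm_num) a24p3ok R (allR a24p3cn a24p3c) (rng_add rng_zero (tgAll_rng a24p3t_0)) a24p3h3 hP hG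

def a24p3L : List ℕ := [nat_lit 0x1daa8491c7799b7a404b5464564c20, nat_lit 0x7ac239ca0543ab6619373922a009b4, nat_lit 0x1beab99cb1049b7419347120a60836, nat_lit 0x8a93268c162304575027ba1eb85666, nat_lit 0xa01a311a05b2aa86493721e2e5cc2f]

theorem a24p3 : NoStem 3 M24 :=
  noStemT (S := SP.sub M24) (L := a24p3L) (fun t ht => (in_M24 (allL_iff.1 (by decide +kernel : allL (ok24) a24p3L = true) t ht)).sub)
    (baseM le_rfl) (D := a24p3D) (fun a b => a24p3ns a b (by rw [card_M24]; norm_num)) (pr := [[], [2, 2], [4, 3], [5, 5], [6, 2], [7, 2], [8, 1], [7, 7]])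
    (ch := [(2, [nat_lit 0xbdab49ca307b9ac5a928398a418820, nat_lit 0x1daa8491c7799b7a404b5464564c20, nat_lit 0x65aab114ca7c5a341e7483892ba420]),
  (0, [nat_lit 0xbdab49ca307b9ac5a928398a418820, nat_lit 0x7ac239ca0543ab6619373922a009b4, nat_lit 0x1beab99cb1049b7419347120a60836, nat_lit 0x431a09c8b1bb82bb112f3aa06a0aa3, nat_lit 0x202c99e30a4aafb9123728a6b09ab, nat_lit 0x602a89ba05b1da3a112b92a26b882f, nat_lit 0xa5db699e051c8287a92071a2458aac, nat_lit 0xb50379b8b159ea01a92c91a04789a8, nat_lit 0x58daf9ba3061c3401936910aa40ab7])]) (by decide +kernel)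

theorem m11 : HasCyclicSchurMultiplier Spor.M11 1 :=
  hasTrivial_of_list card_M11 [2, 3] [5, 11] (by simpa using ⟨a11p2, a11p3⟩) 4 (by decide +kernel)

theorem m23 : HasCyclicSchurMultiplier Spor.M23 1 :=
  hasTrivial_of_list card_M23 [2, 3] [5, 7, 11, 23] (by simpa using ⟨a23p2, a23p3⟩) 7 (by decide +kernel)

theorem m24 : HasCyclicSchurMultiplier M24 1 :=
  hasTrivial_of_list card_M24 [2, 3] [5, 7, 11, 23] (by simpa using ⟨a24p2, a24p3⟩) 10 (by decide +kernel)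

end H14.MulM
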