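import Mathlib
import Cfsg.Agent.H14.RK2
import Cfsg.Agent.H14.MulM
import Cfsg.Agent.H14.MSimple
import Cfsg.Agent.H13.Plane

/-! The double cover of `M12`. -/

set_option maxRecDepth 100000
set_option Elab.async false

namespace H14.Mul12

open Cfsg H13 H15 H14.PK H14.RK

noncomputable def sl0 : SL :=
  ⟨[nat_lit 0, nat_lit 1],
  [([], nat_lit 2, [nat_lit 0, nat_lit 0]), ([], nat_lit 3, [nat_lit 1, nat_lit 1]), ([], nat_lit 4, [nat_lit 0, nat_lit 2]), ([], nat_lit 5, [nat_lit 0, nat_lit 3]), ([], nat_lit 6, [nat_lit 0, nat_lit 4]), ([], nat_lit 7, [nat_lit 1, nat_lit 4]), ([], nat_lit 8, [nat_lit 1, nat_lit 5]), ([], nat_lit 9, [nat_lit 0, nat_lit 6]), ([], nat_lit 10, [nat_lit 0, nat_lit 7]), ([], nat_lit 11, [nat_lit 0, nat_lit 5]), ([nat_lit 6], nat_lit 12, [nat_lit 1, nat_lit 10])],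
  [[], [nat_lit 0], [nat_lit 1], [nat_lit 2], [nat_lit 3], [nat_lit 4], [nat_lit 5], [nat_lit 6], [nat_lit 7], [nat_lit 8], [nat_lit 9], [nat_lit 10]],
  [[(nat_lit 1, []), (nat_lit 3, []), (nat_lit 2, (unp (nat_lit 6) (nat_lit 0x2c78d03))), (nat_lit 5, []), (nat_lit 6, []), (nat_lit 7, []), (nat_lit 0, [nat_lit 11]), (nat_lit 10, []), (nat_lit 11, []), (nat_lit 8, (unp (nat_lit 6) (nat_lit 0x2d88c03))), (nat_lit 9, (unp (nat_lit 6) (nat_lit 0xae45d404))), (nat_lit 4, (unp (nat_lit 6) (nat_lit 0x2eadf54b05)))],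
  [(nat_lit 2, []), (nat_lit 1, (unp (nat_lit 6) (nat_lit 0xb6354c04))), (nat_lit 4, []), (nat_lit 0, (unp (nat_lit 6) (nat_lit 0xaa46cf04))), (nat_lit 6, (unp (nat_lit 6) (nat_lit 0x2ea6054c05))), (nat_lit 8, []), (nat_lit 9, []), (nat_lit 5, (unp (nat_lit 6) (nat_lit 0x2b85b03))), (nat_lit 3, (unp (nat_lit 6) (nat_lit 0x2791503))), (nat_lit 10, (unp (nat_lit 6) (nat_lit 0xbaa61404))), (nat_lit 11, (unp (nat_lit 6) (nat_lit 0x9e35d304))), (nat_lit 7, [nat_lit 12])]]⟩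

noncomputable def sl1 : SL :=
  ⟨[nat_lit 11, nat_lit 12],
  [([], nat_lit 13, [nat_lit 11, nat_lit 11]), ([], nat_lit 14, [nat_lit 11, nat_lit 12]), ([], nat_lit 15, [nat_lit 11, nat_lit 13]), ([], nat_lit 16, [nat_lit 11, nat_lit 14]), ([], nat_lit 17, [nat_lit 12, nat_lit 14]), ([], nat_lit 18, [nat_lit 11, nat_lit 15]), ([], nat_lit 19, [nat_lit 12, nat_lit 16]), ([], nat_lit 20, [nat_lit 11, nat_lit 17]), ([nat_lit 17], nat_lit 21, [nat_lit 11, nat_lit 19]), ([nat_lit 13], nat_lit 22, [nat_lit 12, nat_lit 15])],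
  [[], [nat_lit 11], [nat_lit 12], [nat_lit 13], [nat_lit 14], [nat_lit 15], [nat_lit 16], [nat_lit 17], [nat_lit 18], [nat_lit 19], [nat_lit 20]],
  [[(nat_lit 1, []), (nat_lit 3, []), (nat_lit 4, []), (nat_lit 5, []), (nat_lit 6, []), (nat_lit 8, []), (nat_lit 0, (unp (nat_lit 6) (nat_lit 0xbad79504))), (nat_lit 10, []), (nat_lit 9, (unp (nat_lit 6) (nat_lit 0xbad79b04))), (nat_lit 7, [nat_lit 21]), (nat_lit 2, (unp (nat_lit 6) (nat_lit 0x2d81603)))],
  [(nat_lit 2, []), (nat_lit 0, (unp (nat_lit 6) (nat_lit 0x2d79603))), (nat_lit 1, (unp (nat_lit 6) (nat_lit 0xba695c04))), (nat_lit 4, [nat_lit 25, nat_lit 38]), (nat_lit 7, []), (nat_lit 3, [nat_lit 22]), (nat_lit 9, []), (nat_lit 10, (unp (nat_lit 6) (nat_lit 0xba785804))), (nat_lit 5, (unp (nat_lit 6) (nat_lit 0x2c85703))), (nat_lit 6, (unp (nat_lit 6) (nat_lit 0x2779503))), (nat_lit 8, (unp (nat_lit 6) (nat_lit 0x298db03)))]]⟩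

noncomputable def sl2 : SL :=
  ⟨[nat_lit 21, nat_lit 22],
  [([], nat_lit 23, [nat_lit 21, nat_lit 21]), ([], nat_lit 24, [nat_lit 22, nat_lit 21]), ([], nat_lit 25, [nat_lit 21, nat_lit 22]), ([], nat_lit 26, [nat_lit 21, nat_lit 23]), ([], nat_lit 27, [nat_lit 21, nat_lit 24]), ([], nat_lit 28, [nat_lit 22, nat_lit 24]), ([], nat_lit 29, [nat_lit 21, nat_lit 28]), ([], nat_lit 30, [nat_lit 22, nat_lit 26]), ([nat_lit 26], nat_lit 31, [nat_lit 22, nat_lit 23]), ([nat_lit 29], nat_lit 32, [nat_lit 22, nat_lit 29])],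
  [[], [nat_lit 21], [nat_lit 22], [nat_lit 23], [nat_lit 24], [nat_lit 25], [nat_lit 26], [nat_lit 27], [nat_lit 28], [nat_lit 29]],
  [[(nat_lit 1, []), (nat_lit 3, []), (nat_lit 5, []), (nat_lit 6, []), (nat_lit 7, []), (nat_lit 4, [nat_lit 30, nat_lit 45]), (nat_lit 2, (unp (nat_lit 6) (nat_lit 0x2e9df03))), (nat_lit 0, [nat_lit 31, nat_lit 43]), (nat_lit 9, []), (nat_lit 8, [nat_lit 33])],
  [(nat_lit 2, []), (nat_lit 4, []), (nat_lit 3, [nat_lit 37, nat_lit 42]), (nat_lit 6, [nat_lit 31]), (nat_lit 8, []), (nat_lit 5, (unp (nat_lit 6) (nat_lit 0x2eaa303))), (nat_lit 0, [nat_lit 30]), (nat_lit 1, [nat_lit 45, nat_lit 46]), (nat_lit 7, [nat_lit 39, nat_lit 46]), (nat_lit 9, [nat_lit 32])]]⟩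

noncomputable def sl3 : SL :=
  ⟨(unp (nat_lit 6) (nat_lit 0x207de03)),
  [([], nat_lit 33, [nat_lit 31, nat_lit 30]), ([], nat_lit 34, [nat_lit 31, nat_lit 31]), ([], nat_lit 35, [nat_lit 32, nat_lit 31]), ([], nat_lit 36, [nat_lit 31, nat_lit 32]), ([], nat_lit 37, [nat_lit 32, nat_lit 32]), ([nat_lit 33], nat_lit 38, [nat_lit 30, nat_lit 36]), ([nat_lit 37], nat_lit 39, [nat_lit 30, nat_lit 35]), ([nat_lit 30], nat_lit 40, [nat_lit 31, nat_lit 35])],
  [[], [nat_lit 30], [nat_lit 31], [nat_lit 32], [nat_lit 33], [nat_lit 34], [nat_lit 35], [nat_lit 36], [nat_lit 37]],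
  [[(nat_lit 1, []), (nat_lit 2, [nat_lit 41, nat_lit 46]), (nat_lit 3, [nat_lit 45]), (nat_lit 0, [nat_lit 45, nat_lit 46]), (nat_lit 6, [nat_lit 38]), (nat_lit 5, [nat_lit 42, nat_lit 46]), (nat_lit 8, [nat_lit 39]), (nat_lit 4, [nat_lit 38]), (nat_lit 7, [nat_lit 39])],
  [(nat_lit 2, []), (nat_lit 4, []), (nat_lit 5, []), (nat_lit 7, []), (nat_lit 6, [nat_lit 45]), (nat_lit 0, [nat_lit 46]), (nat_lit 1, [nat_lit 39, nat_lit 46]), (nat_lit 8, [nat_lit 44]), (nat_lit 3, [nat_lit 38, nat_lit 46])],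
  [(nat_lit 3, []), (nat_lit 1, [nat_lit 44]), (nat_lit 6, []), (nat_lit 8, []), (nat_lit 2, [nat_lit 39, nat_lit 46]), (nat_lit 0, [nat_lit 38]), (nat_lit 7, [nat_lit 38]), (nat_lit 4, [nat_lit 42, nat_lit 46]), (nat_lit 5, [nat_lit 44])]]⟩

noncomputable def sl4 : SL :=
  ⟨(unp (nat_lit 6) (nat_lit 0x289e603)),
  [([], nat_lit 41, [nat_lit 38, nat_lit 38]), ([], nat_lit 42, [nat_lit 39, nat_lit 38]), ([], nat_lit 43, [nat_lit 38, nat_lit 39]), ([], nat_lit 44, [nat_lit 38, nat_lit 41]), ([], nat_lit 45, [nat_lit 39, nat_lit 41]), ([nat_lit 39], nat_lit 46, [nat_lit 40])],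
  [[], [nat_lit 38], [nat_lit 39], [nat_lit 41], [nat_lit 42], [nat_lit 43], [nat_lit 44], [nat_lit 45]],
  [[(nat_lit 1, []), (nat_lit 3, []), (nat_lit 5, []), (nat_lit 6, []), (nat_lit 2, []), (nat_lit 7, []), (nat_lit 0, []), (nat_lit 4, [])],
  [(nat_lit 2, []), (nat_lit 4, []), (nat_lit 3, []), (nat_lit 7, []), (nat_lit 6, []), (nat_lit 1, []), (nat_lit 5, []), (nat_lit 0, [])],
  [(nat_lit 2, [nat_lit 46]), (nat_lit 4, [nat_lit 46]), (nat_lit 3, [nat_lit 46]), (nat_lit 7, [nat_lit 46]), (nat_lit 6, [nat_lit 46]), (nat_lit 1, [nat_lit 46]), (nat_lit 5, [nat_lit 46]), (nat_lit 0, [nat_lit 46])]]⟩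

noncomputable def sl5 : SL :=
  ⟨[nat_lit 46],
  [],
  [[], [nat_lit 46]],
  [[(nat_lit 1, []), (nat_lit 0, [])]]⟩

noncomputable def slv : List SL :=
  [sl0, sl1, sl2, sl3, sl4, sl5]

noncomputable def lv : List SL :=
  slv

noncomputable def ds : List (List ℕ × ℕ × List ℕ) :=
  [([], nat_lit 47, (unp (nat_lit 6) (nat_lit 0x2795603))),
  ([], nat_lit 48, (unp (nat_lit 6) (nat_lit 0xb5a38604))),
  ([], nat_lit 49, (unp (nat_lit 6) (nat_lit 0x2ea626cf05))),
  ([], nat_lit 50, (unp (nat_lit 6) (nat_lit 0xad634704))),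
  ([], nat_lit 51, [nat_lit 46]),
  ([], nat_lit 52, (unp (nat_lit 6) (nat_lit 0xbac8cd04))),
  ([], nat_lit 53, (unp (nat_lit 6) (nat_lit 0x2a95c44905))),
  ([], nat_lit 54, (unp (nat_lit 6) (nat_lit 0xba78193c706))),
  ([], nat_lit 55, (unp (nat_lit 6) (nat_lit 0x2a79c48105)))]

def L : List ℕ := [nat_lit 0x552cb8c8a17d5893b866982e2221b0, nat_lit 0xa3cee5a2b02cc8d8a846b0ee14b012, nat_lit 0x72e872caed7d9239d4808c14811981, nat_lit 0x716d3898f0bac24aa9837a68013648, nat_lit 0xa9d73bc94c7d0648d850285c64012d, nat_lit 0xade912826151da2b392478d7043246, nat_lit 0xb4cf1549c97ac822d101bb6a03406c, nat_lit 0x3da2ba214d2b921abd90b826334844, nat_lit 0x3d1d5bc9605588c7cc412a63033503, nat_lit 0xa466574aa379c48baccd532d000489, nat_lit 0x9d0a7599ccbd46db3d215422404902, nat_lit 0xb2965bc22d74d88a5462790e132640, nat_lit 0x744f7a06c65560d7ad84988a892460, nat_lit 0x55687b362c9dd022acc9705f220e00, nat_lit 0x9c5f62c944aadac75101ba4e280cc0, nat_lit 0xaacaf53228bd8493d0839c9d0099a0,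 nat_lit 0xbc5ca3c2a15d18899452b0de969880, nat_lit 0xa5951285683be0dadc837326934840, nat_lit 0x5d0eeaa222b292379426bc26d91180, nat_lit 0x75aab998e37dda4a15218c94c80900, nat_lit 0x2aab13ca827b9ac5d8269a2e324120, nat_lit 0x2d637525c33d8d29bd02a357061020, nat_lit 0xa157754a633c5107b9a4a9ac913020, nat_lit 0x5c5c57a2cca55a951c44b9a6394020, nat_lit 0xb2e7473622a94d251c8cba1e382420, nat_lit 0xbae657a54ca38433d8d08b6a824820, nat_lit 0x9bacb38ab2bc4c87d0902b54c48c20, nat_lit 0xacd57b19c48ada97d212288ec1a020, nat_lit 0x2bd578a26c5d8d275530a10e21b420, nat_lit 0x59de5709529d5a9b4503bc28461820, nat_lit 0x544afab172a4cc43dd23b21d068820, nat_lit 0x5ddd59a4e87d186b4483534b280820, nat_lit 0xabacb50e708dd2da3c922a0ec30820, nat_lit 0x89caf71ac9acdb252c90b8e8860820, nat_lit 0xb2e8e991437d4cdb9e508b0a940820, nat_lit 0xa56f6510b28ada874d867a4e380820, nat_lit 0x752f68c2683ac8cabe4928d4668820, nat_lit 0xb5dd4799509d4895c5833c8ad40820, nat_lit 0x75177531e68d909a94709b4e490820,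 nat_lit 0x9962ab42a959e487b9a3a32e430820, nat_lit 0x9962ab42a959e487b9a3a32e430820, nat_lit 0xb5eae2a62d7d20359e465226460820, nat_lit 0x3a9f37216ca946d8dcc9b4a8480820, nat_lit 0x51de5a1963acd908d912ba5c468820, nat_lit 0xa397638de88dcd2acd8d2c14448820, nat_lit 0x2ce27bb6b25a9267d20c70ec440820, nat_lit 0xbdab49ca307b9ac5a928398a418820, nat_lit 0x3d9d3a0e307d4c252d24bb4a893020, nat_lit 0x8d9f7aa1c63ce0452e43a04a2025ac, nat_lit 0xbaab49c9e689c2c2d9247416810da0, nat_lit 0x3add178a869d423b1509bc140649a4, nat_lit 0xbdab49ca307b9ac5a928398a418820, nat_lit 0xa96f49b22179cd252d28736c410e00, nat_lit 0xadaf3a31f089db25a804718a810c29, nat_lit 0xaa8e5b32e674da35c512a01e280524, nat_lit 0x7ae37aa261a3a0455980398a9189b2]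

noncomputable def nt0 : Net :=
  mkNet (nat_lit 6) (nat_lit 24) (nat_lit 0x3000003030000000000000f0000fc030c00000303000000)

noncomputable def nt1 : Net :=
  mkNet (nat_lit 6) (nat_lit 24) (nat_lit 0x333000000c000000000000330000f3030000300003050415)

noncomputable def nt2 : Net :=
  mkNet (nat_lit 6) (nat_lit 24) (nat_lit 0x3333000000000000300000f0000c3030f0c033003000000)

noncomputable def nt3 : Net :=
  mkNet (nat_lit 6) (nat_lit 24) (nat_lit 0x300000000c00000fc0000f30f0f00030030400554)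

noncomputable def nt4 : Net :=
  mkNet (nat_lit 6) (nat_lit 24) (nat_lit 0x303330000c0000000c00000f0000330c0c0c330003000000)

noncomputable def nt5 : Net :=
  mkNet (nat_lit 6) (nat_lit 24) (nat_lit 0x30000c0c0000000300003f0000c00f0003003303441111)

noncomputable def nt6 : Net :=
  mkNet (nat_lit 6) (nat_lit 24) (nat_lit 0x30303000030000000c0000cf0000fc00030f300300000000)

noncomputable def nt7 : Net :=
  mkNet (nat_lit 6) (nat_lit 24) (nat_lit 0x303000000f0000000f00003f0000fc0c0c0c300033050415)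

noncomputable def nt8 : Net :=
  mkNet (nat_lit 6) (nat_lit 24) (nat_lit 0x3303000f000000000c00003c0000f00f0f03333033441111)

noncomputable def nt9 : Net :=
  mkNet (nat_lit 6) (nat_lit 24) (nat_lit 0x3333000c00000000cf0000cf0000c00c030f303303000000)

noncomputable def nt10 : Net :=
  mkNet (nat_lit 6) (nat_lit 24) (nat_lit 0x3033300f0c000000030000c300000f030c03033300155001)

noncomputable def nt11 : Net :=
  mkNet (nat_lit 6) (nat_lit 24) (nat_lit 0x33030000000000000000000c0000fc0c0c00003000511410)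

noncomputable def nt12 : Net :=
  mkNet (nat_lit 6) (nat_lit 24) (nat_lit 0x333000303000000030000c3000033000c0c003300441111)

noncomputable def nt13 : Net :=
  mkNet (nat_lit 6) (nat_lit 24) (nat_lit 0x33000000c0000000300000f0000c30f0f0c300330454500)

noncomputable def nt14 : Net :=
  mkNet (nat_lit 6) (nat_lit 24) (nat_lit 0x3030000f0000000000003000003c000300000000405405)

noncomputable def nt15 : Net :=
  mkNet (nat_lit 6) (nat_lit 24) (nat_lit 0x300000000c000000c30000cf0000f303030c003330400554)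

noncomputable def nt16 : Net :=
  mkNet (nat_lit 6) (nat_lit 24) (nat_lit 0x3330000c0c0000000c0000cc0000f00c0300003300011541)

noncomputable def nt17 : Net :=
  mkNet (nat_lit 6) (nat_lit 24) (nat_lit 0x303300300000000030000c3000033000f0c000330451044)

noncomputable def nt18 : Net :=
  mkNet (nat_lit 6) (nat_lit 24) (nat_lit 0x300030030c000000c30000ff00000f000f00330330015114)

noncomputable def nt19 : Net :=
  mkNet (nat_lit 6) (nat_lit 24) (nat_lit 0x3333000f000000000f0000cf0000c3030c0c333300000000)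

noncomputable def nt20 : Net :=
  mkNet (nat_lit 6) (nat_lit 24) (nat_lit 0x3000000000000000000300000cc000f0c000300000000)

noncomputable def nt21 : Net :=
  mkNet (nat_lit 6) (nat_lit 24) (nat_lit 0x30030003000000000f0000cf00003f0c0300333000451044)

noncomputable def nt22 : Net :=
  mkNet (nat_lit 6) (nat_lit 24) (nat_lit 0xc00000000c00000f00000c00f0300003030104511)

noncomputable def nt23 : Net :=
  mkNet (nat_lit 6) (nat_lit 24) (nat_lit 0x303000000000000f00000f0000000003030045450)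

noncomputable def nt24 : Net :=
  mkNet (nat_lit 6) (nat_lit 24) (nat_lit 0x303000000f0000000c0000cc00003c030000333030405405)

noncomputable def nt25 : Net :=
  mkNet (nat_lit 6) (nat_lit 24) (nat_lit 0x30000f00000000cc0000fc00000c000f00300330510105)

noncomputable def nt26 : Net :=
  mkNet (nat_lit 6) (nat_lit 24) (nat_lit 0x30000000000000cf0000cf00000f000300300030400554)

noncomputable def nt27 : Net :=
  mkNet (nat_lit 6) (nat_lit 24) (nat_lit 0x303000303000000cf0000cf0000ff030c00330000414051)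

noncomputable def nt28 : Net :=
  mkNet (nat_lit 6) (nat_lit 24) (nat_lit 0x3300000003000000030000330000330f0000030300544014)

noncomputable def nt29 : Net :=
  mkNet (nat_lit 6) (nat_lit 24) (nat_lit 0x3333000c03000000300000f00000c00c0300030300454500)

noncomputable def nt30 : Net :=
  mkNet (nat_lit 6) (nat_lit 24) (nat_lit 0x3030000c00000000030000c30000c30f0c00003000510105)

noncomputable def nt31 : Net :=
  mkNet (nat_lit 6) (nat_lit 24) (nat_lit 0x3300003000000000f0000cf0000cf030300300000555555)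

noncomputable def nt32 : Net :=
  mkNet (nat_lit 6) (nat_lit 24) (nat_lit 0x330000000000000c30000c3000003000f00003000414051)

noncomputable def nt33 : Net :=
  mkNet (nat_lit 6) (nat_lit 24) (nat_lit 0x330000000c000000300000f00000f00c0300030300150150)

noncomputable def nt34 : Net :=
  mkNet (nat_lit 6) (nat_lit 24) (nat_lit 0x3000000000000000fc0000fc00003c000300033000000000)

noncomputable def nt35 : Net :=
  mkNet (nat_lit 6) (nat_lit 24) (nat_lit 0x30300000c0000000c0000cc0000cc000f00333300141504)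

noncomputable def nt36 : Net :=
  mkNet (nat_lit 6) (nat_lit 24) (nat_lit 0x300000000c0000000c0000cc0000cc0c0000003300451044)

noncomputable def nt37 : Net :=
  mkNet (nat_lit 6) (nat_lit 24) (nat_lit 0x30330000000000003f00003f0000ff030300303300454500)

noncomputable def nt38 : Net :=
  mkNet (nat_lit 6) (nat_lit 24) (nat_lit 0x30000003000000003c0000fc0000fc000c00003000414051)

noncomputable def nt39 : Net :=
  mkNet (nat_lit 6) (nat_lit 24) (nat_lit 0x3030000f000000003c00003c0000fc030c00030000011541)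

noncomputable def nt40 : Net :=
  mkNet (nat_lit 6) (nat_lit 24) (nat_lit 0x3030000f000000003c00003c0000fc030c00030000544014)

noncomputable def nt41 : Net :=
  mkNet (nat_lit 6) (nat_lit 24) (nat_lit 0x303000c0c0000000c0000cc00000c0f0f00030300000000)

noncomputable def nt42 : Net :=
  mkNet (nat_lit 6) (nat_lit 24) (nat_lit 0x3033000f00000000030000c3000003030300330300150150)

noncomputable def nt43 : Net :=
  mkNet (nat_lit 6) (nat_lit 24) (nat_lit 0x3303000000000000300000f00000300c0300303300150150)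

noncomputable def nt44 : Net :=
  mkNet (nat_lit 6) (nat_lit 24) (nat_lit 0xfc0000fc00003c0f0000330000414051)

noncomputable def nt45 : Net :=
  mkNet (nat_lit 6) (nat_lit 24) (nat_lit 0x30000030c0000003c00003c0000fc0f0000303000011541)

noncomputable def nt46 : Net :=
  mkNet (nat_lit 6) (nat_lit 24) (nat_lit 0x555555)

noncomputable def nt47 : Net :=
  mkNet (nat_lit 6) (nat_lit 24) (nat_lit 0x3000000000c0000fc00000c030300000000000000)

noncomputable def nt48 : Net :=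
  mkNet (nat_lit 6) (nat_lit 24) (nat_lit 0x303000300000000c00000cf0000ff00000c003333104511)

noncomputable def nt49 : Net :=
  mkNet (nat_lit 6) (nat_lit 24) (nat_lit 0x300000000c000000c00000cc0000c0000f00300030141504)

noncomputable def nt50 : Net :=
  mkNet (nat_lit 6) (nat_lit 24) (nat_lit 0x3303300c00000000030000ff00000c030000003003454500)

noncomputable def nt51 : Net :=
  mkNet (nat_lit 6) (nat_lit 24) (nat_lit 0x555555)

noncomputable def nt52 : Net :=
  mkNet (nat_lit 6) (nat_lit 24) (nat_lit 0x3000000c0c000000c00000cc0000c00f0c00300030000000)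

noncomputable def nt53 : Net :=
  mkNet (nat_lit 6) (nat_lit 24) (nat_lit 0x303300000300000000000000000003030f00303330141504)

noncomputable def nt54 : Net :=
  mkNet (nat_lit 6) (nat_lit 24) (nat_lit 0x3033300300000000c00000f00000cf000c0c000030511410)

noncomputable def nt55 : Net :=
  mkNet (nat_lit 6) (nat_lit 24) (nat_lit 0x30000f0c0000003000003f00003c030f00303003510105)

noncomputable def nets : List Net :=
  [nt0, nt1, nt2, nt3, nt4, nt5, nt6, nt7, nt8, nt9, nt10, nt11, nt12, nt13, nt14, nt15, nt16, nt17, nt18, nt19, nt20, nt21, nt22, nt23, nt24, nt25, nt26, nt27, nt28, nt29, nt30, nt31, nt32, nt33, nt34, nt35, nt36, nt37, nt38, nt39, nt40, nt41, nt42, nt43, nt44, nt45, nt46, nt47, nt48, nt49, nt50, nt51, nt52, nt53, nt54, nt55]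

noncomputable def d2rl : List (List (List ℕ)) :=
  [[[]],
  [(unp (nat_lit 3) (nat_lit 0x6ad105)), (unp (nat_lit 3) (nat_lit 0xd5a04))],
  [[nat_lit 2, nat_lit 5], [nat_lit 2, nat_lit 5], []],
  [(unp (nat_lit 3) (nat_lit 0xd6304)), (unp (nat_lit 3) (nat_lit 0x1ab03)), [nat_lit 3, nat_lit 6], [nat_lit 4]],
  [[nat_lit 4], [nat_lit 4], [nat_lit 4], [nat_lit 4], []],
  [[nat_lit 5], [nat_lit 5, nat_lit 6], [nat_lit 5], [nat_lit 5], [nat_lit 5], []],
  [[nat_lit 6], [nat_lit 6], [nat_lit 6], [nat_lit 6], [nat_lit 6], [nat_lit 6], []]]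

noncomputable def d2fr : List (ℕ × List ℕ × List ℕ) :=
  [(nat_lit 7, [nat_lit 0, nat_lit 6], (unp (nat_lit 3) (nat_lit 0x16203))),
  (nat_lit 7, [nat_lit 4], [nat_lit 4]),
  (nat_lit 7, [nat_lit 5, nat_lit 6], (unp (nat_lit 3) (nat_lit 0x1aa03))),
  (nat_lit 8, (unp (nat_lit 3) (nat_lit 0xd0804)), (unp (nat_lit 3) (nat_lit 0x2c68806))),
  (nat_lit 8, [nat_lit 2], [nat_lit 5]),
  (nat_lit 8, [nat_lit 3], (unp (nat_lit 3) (nat_lit 0x88804))),
  (nat_lit 8, [nat_lit 4, nat_lit 6], [nat_lit 4, nat_lit 6]),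
  (nat_lit 8, [nat_lit 5], (unp (nat_lit 3) (nat_lit 0x1aa03))),
  (nat_lit 8, [nat_lit 6], [nat_lit 6])]

noncomputable def d2D : PC :=
  ⟨nat_lit 2, nat_lit 7, nat_lit 24, nat_lit 1, nat_lit 14, nat_lit 84, nat_lit 9, d2rl, d2fr⟩

noncomputable def d2cs : List (Cn × ℕ) :=
  [(.con [nat_lit 3] (nat_lit 3) (nat_lit 3), (nat_lit 0x10000000000)),
  (.con [nat_lit 2] (nat_lit 2) (nat_lit 0), (nat_lit 0x2400000000000)),
  (.con [nat_lit 5] (nat_lit 5) (nat_lit 1), (nat_lit 0x300000000000000)),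
  (.con [nat_lit 2] (nat_lit 0) (nat_lit 0), (nat_lit 0x2100000000000)),
  (.con [nat_lit 3] (nat_lit 2) (nat_lit 2), (nat_lit 0x220000000000000)),
  (.con [nat_lit 5] (nat_lit 3) (nat_lit 3), (nat_lit 0x1000000000000)),
  (.con [nat_lit 6] (nat_lit 3) (nat_lit 3), (nat_lit 0x80000000000000)),
  (.con [nat_lit 3] (nat_lit 3) (nat_lit 2), (nat_lit 0x240008000000000)),
  (.con [nat_lit 5] (nat_lit 3) (nat_lit 2), (nat_lit 0x100000000000000)),
  (.con [nat_lit 3] (nat_lit 3) (nat_lit 1), (nat_lit 0x342804000000000)),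
  (.con [nat_lit 6] (nat_lit 1) (nat_lit 1), (nat_lit 0x160000000000000)),
  (.con [nat_lit 3] (nat_lit 0) (nat_lit 0), (nat_lit 0x38b122000000000)),
  (.con [nat_lit 5] (nat_lit 1) (nat_lit 1), (nat_lit 0x310c00000000000)),
  (.con [nat_lit 1] (nat_lit 1) (nat_lit 1), (nat_lit 0x312a00081000000)),
  (.con [nat_lit 3] (nat_lit 3) (nat_lit 0), (nat_lit 0x3c3832000000000)),
  (.con [nat_lit 2] (nat_lit 1) (nat_lit 1), (nat_lit 0x322600100000000)),
  (.con [nat_lit 1] (nat_lit 0) (nat_lit 0), (nat_lit 0x28520342800000)),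
  (.con [nat_lit 1] (nat_lit 1) (nat_lit 0), (nat_lit 0x5bf183c3800000)),
  (.fus (nat_lit 7) [nat_lit 0, nat_lit 0] [], (nat_lit 0x20b428002000200)),
  (.fus (nat_lit 7) [nat_lit 2, nat_lit 2] [], (nat_lit 0x20400002000000)),
  (.fus (nat_lit 7) [nat_lit 1, nat_lit 0] [nat_lit 0, nat_lit 1], (nat_lit 0x8100a000000000)),
  (.fus (nat_lit 7) [nat_lit 2, nat_lit 0] [nat_lit 0, nat_lit 2], (nat_lit 0xa9108000000000)),
  (.fus (nat_lit 8) [nat_lit 5, nat_lit 4] (unp (nat_lit 4) (nat_lit 0x85403)), (nat_lit 0x2a1700100000100)),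
  (.fus (nat_lit 8) [nat_lit 7, nat_lit 5] [nat_lit 5, nat_lit 7], (nat_lit 0xbbd08001800000)),
  (.fus (nat_lit 8) [nat_lit 5, nat_lit 5] [nat_lit 6, nat_lit 8], (nat_lit 0x60c26180830340)),
  (.fus (nat_lit 8) [nat_lit 3, nat_lit 3] [nat_lit 6], (nat_lit 0x25bf383c3800040))]

noncomputable def d2Fs : List ℕ :=
  [(nat_lit 0),
  (nat_lit 0),
  (nat_lit 0),
  (nat_lit 0x100820000),
  (nat_lit 0x200000000),
  (nat_lit 0x800000),
  (nat_lit 0x100000000)]

noncomputable def d2la : List (List ℕ) :=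
  [[(nat_lit 0x2f21f9)],
  [(nat_lit 0x3ee2fa6), (nat_lit 0)],
  [(nat_lit 0), (nat_lit 0x9339c1), (nat_lit 0x3b28d3)],
  [(nat_lit 0x2a2451), (nat_lit 0x9388d1), (nat_lit 0), (nat_lit 0)],
  [(nat_lit 0x1005f0), (nat_lit 0x136724), (nat_lit 1424), (nat_lit 1), (nat_lit 0x320b5)],
  [(nat_lit 0x3329cd), (nat_lit 0x8112), (nat_lit 0x3329c7), (nat_lit 0x2048f1), (nat_lit 32), (nat_lit 0x3329c5)],
  [(nat_lit 0x132d29), (nat_lit 0x137132), (nat_lit 276), (nat_lit 1044), (nat_lit 64), (nat_lit 256), (nat_lit 260)]]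

theorem d2ok : d2D.ok = true := by decide +kernel

theorem d2cn : Nat.beq d2cs.length 26 = true := by decide +kernel

theorem d2h3 : band (Nat.ble d2cs.length d2D.fuel) (allL (fun f => force (d2D.wd f) (bdOk d2D.b d2D.N d2D.t)) d2Fs) = true := by decide +kernel

theorem d2c_0 : rng (fun i => cnOk d2D (nthD (.con [] 0 0, 0) d2cs i)) (nat_lit 0) (nat_lit 26) = true := by decide +kernel

theorem d2t_0 : tgAll d2D d2cs d2Fs d2la (nat_lit 0) (nat_lit 7) = true := by decide +kernel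

theorem d2c : ∀ i < 26, (fun i => cnOk d2D (nthD (.con [] 0 0, 0) d2cs i)) i = true :=
  (rng_add rng_zero d2c_0)

theorem d2ns {G : Type*} [Group G] [Finite G] {g : ℕ → G} (R : PcRel d2D g)
    (hP : d2D.p ^ d2D.n ≤ Nat.card (Subgroup.closure (g '' Set.Iio d2D.n))) (hG : ¬ 2 ^ 8 ∣ Nat.card G) :
    NoStem 2 G :=
  noStem_of (D := d2D) (show Nat.Prime 2 by norm_num) d2ok R (allR d2cn d2c) (rng_add rng_zero (tgAll_rng d2t_0)) d2h3 hP hG

theorem cH1_0 : relOk (fN 6 24 nets) (ssE lv) (nat_lit 0) (nat_lit 164) = true := by decide +kernel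

theorem cH1 : Chk (fN 6 24 nets) (ssE lv) :=
  (ChkT.zero.add cH1_0).chk (by decide +kernel)

theorem cK1_0 : relOk (fB 5 24 [0, 1, 2, 3, 4, 7, 5] L) (ssE lv) (nat_lit 0) (nat_lit 164) = true := by decide +kernel

theorem cK1 : Chk (fB 5 24 [0, 1, 2, 3, 4, 7, 5] L) (ssE lv) :=
  (ChkT.zero.add cK1_0).chk (by decide +kernel)

theorem cH2_0 : relOk (fN 6 24 nets) (defE ds []) (nat_lit 0) (nat_lit 9) = true := by decide +kernel

theorem cH2 : Chk (fN 6 24 nets) (defE ds []) :=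
  (ChkT.zero.add cH2_0).chk (by decide +kernel)

theorem cK2_0 : relOk (fB 5 24 [0, 1, 2, 3, 4, 7, 5] L) (defE ds []) (nat_lit 0) (nat_lit 9) = true := by decide +kernel

theorem cK2 : Chk (fB 5 24 [0, 1, 2, 3, 4, 7, 5] L) (defE ds []) :=
  (ChkT.zero.add cK2_0).chk (by decide +kernel)

theorem cHp2_0 : relOk (fN 6 24 nets) (shE 47 (pcE d2D)) (nat_lit 0) (nat_lit 37) = true := by decide +kernel

theorem cHp2 : Chk (fN 6 24 nets) (shE 47 (pcE d2D)) :=
  (ChkT.zero.add cHp2_0).chk (by decide +kernel)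

theorem cKp2_0 : relOk (fB 5 24 [0, 1, 2, 3, 4, 7, 5] L) (shE 47 (pcE d2D)) (nat_lit 0) (nat_lit 37) = true := by decide +kernel

theorem cKp2 : Chk (fB 5 24 [0, 1, 2, 3, 4, 7, 5] L) (shE 47 (pcE d2D)) :=
  (ChkT.zero.add cKp2_0).chk (by decide +kernel)

theorem cH3_0 : relOk (fN 6 24 nets) (mapR (fun i => (pw [i] 11, [])) (gsOf lv)) (nat_lit 0) (nat_lit 2) = true := by decide +kernel

theorem cH3 : Chk (fN 6 24 nets) (mapR (fun i => (pw [i] 11, [])) (gsOf lv)) :=
  (ChkT.zero.add cH3_0).chk (by decide +kernel)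

theorem cK3_0 : relOk (fB 5 24 [0, 1, 2, 3, 4, 7, 5] L) (mapR (fun i => (pw [i] 11, [])) (gsOf lv)) (nat_lit 0) (nat_lit 2) = true := by decide +kernel

theorem cK3 : Chk (fB 5 24 [0, 1, 2, 3, 4, 7, 5] L) (mapR (fun i => (pw [i] 11, [])) (gsOf lv)) :=
  (ChkT.zero.add cK3_0).chk (by decide +kernel)

theorem cH4_0 : relOk (fN 6 24 nets) (mapR (fun i => ([i, 46], [46, i])) (gsOf lv)) (nat_lit 0) (nat_lit 2) = true := by decide +kernel

theorem cH4 : Chk (fN 6 24 nets) (mapR (fun i => ([i, 46], [46, i])) (gsOf lv)) :=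
  (ChkT.zero.add cH4_0).chk (by decide +kernel)

theorem okN : H13.band (Nat.blt 0 6) (H13.band (Nat.ble 24 (p2 (6 - 1))) (allL (Net.ok 6 24) nets)) = true := by decide +kernel

/-- the elements of the cover -/
noncomputable def h : ℕ → Equiv.Perm (Fin 24) := permW 6 24 nets okN

theorem sH : Snd h (fN 6 24 nets) := sndP okN

theorem inL : ∀ t ∈ L, (SP.sub Spor.M12).In ⊤ t := fun t ht =>
  (in_M12 (allL_iff.1 (by decide +kernel : allL (okS [] [0x5335f] []) L = true) t ht)).sub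

/-- the elements of the group -/
noncomputable def k : ℕ → Spor.M12 := gT (SP.sub Spor.M12) L

theorem sK : Snd k (fB 5 24 [0, 1, 2, 3, 4, 7, 5] L) := sndB (baseM inf_le_left) inL

theorem top : cl k (gsOf lv) = ⊤ := clT_eq inL card_M12 (pr := [[], [2, 1, 1], [2, 2, 3, 3], [0, 1, 0, 0], [2, 1, 2, 2], [1, 0, 0], [2, 2, 1, 2], [1, 1, 1, 0], [1, 1, 2, 1, 2], [1, 1], [1, 2], [3, 2], [4, 2], [4, 3], [8, 8], [8, 9], [10, 1], [10, 1], [11, 1], [13, 1], [14, 1], [16, 17], [18, 17], [18, 18], [19, 2], [21, 2], [22, 1], [23, 1], [26, 26], [26, 27], [28, 27], [28, 28], [30, 3], [30, 4], [32, 2], [32, 2], [36, 36], [38, 38], [38, 1], [39, 1], [40, 1], [42, 2], [43, 2], [43, 2], [44, 2]])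
  (ch := [(0, [nat_lit 0xbdab49ca307b9ac5a928398a418820, nat_lit 0x552cb8c8a17d5893b866982e2221b0, nat_lit 0xa3cee5a2b02cc8d8a846b0ee14b012, nat_lit 0x72e872caed7d9239d4808c14811981, nat_lit 0x716d3898f0bac24aa9837a68013648, nat_lit 0xa9d73bc94c7d0648d850285c64012d, nat_lit 0xade912826151da2b392478d7043246, nat_lit 0xb4cf1549c97ac822d101bb6a03406c, nat_lit 0x3da2ba214d2b921abd90b826334844, nat_lit 0x3d1d5bc9605588c7cc412a63033503, nat_lit 0xa466574aa379c48baccd532d000489, nat_lit 0x9d0a7599ccbd46db3d215422404902]),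
  (1, [nat_lit 0xbdab49ca307b9ac5a928398a418820, nat_lit 0x9c5d6ba2842bc4959c32ac14660da0, nat_lit 0xb2965bc22d74d88a5462790e132640, nat_lit 0xbd1f19cac6514615d5a8710f04b040, nat_lit 0xbc66ab08a13b923a3e505b6a441980, nat_lit 0x89d6a992827dd32b398329aad80500, nat_lit 0x55687b362c9dd022acc9705f220e00, nat_lit 0x9d8b4ba2303a98d5b85279aa40a460, nat_lit 0xb15d1bc144a9cd2a2d82985ed1a120, nat_lit 0x3bad588a89bce4352e017b4a833080, nat_lit 0xba8e5b0a2d7d50ca4d307116190cc0]),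
  (2, [nat_lit 0xbdab49ca307b9ac5a928398a418820, nat_lit 0x7cd4b8a4a3b5e06ad1b2730e222020, nat_lit 0x8a9f4990e675608b2d23bb4a264820, nat_lit 0x74d763a4ac544cd7d204aa2f210c20, nat_lit 0x2d2cb889ccba8729d5a47c0e832420, nat_lit 0x3add498aedabcc35592c8c0b241020, nat_lit 0xacecaba4a859db0750c278e2493020, nat_lit 0x3ae752a2e67d0898aa02b0dd263420, nat_lit 0x546747b4f2aba03bad88b10a249820, nat_lit 0x7562a3c9ecb2c4d2d068992e934020]),
  (3, [nat_lit 0xbdab49ca307b9ac5a928398a418820, nat_lit 0x756eb8a1f055984a4da628ce990820, nat_lit 0xb5dd4799509d4895c5833c8ad40820, nat_lit 0x3a9f37216ca946d8dcc9b4a8480820, nat_lit 0xabacb50e708dd2da3c922a0ec30820, nat_lit 0xa55773a26355a4673d242c22d60820, nat_lit 0x51cb3acaec73c868adb0b228348820, nat_lit 0x5de8e29a329d503b29a93c1ec20820, nat_lit 0x994f1ba1c4b29237d190a997268820]),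
  (4, [nat_lit 0xbdab49ca307b9ac5a928398a418820, nat_lit 0x89df3ac2eda150655992591c918820, nat_lit 0x2bd47b11c65c5929d209aa2ed18820, nat_lit 0xbae957b6289ba44b1cd0524ac18820, nat_lit 0x75576518ac3dd28a3e449b63018820, nat_lit 0x752cb3a4a455cd0acdac7ca2818820, nat_lit 0x8aa6fa22f2a96093ac8db31c618820, nat_lit 0x2ccea5b1c9b448d7d506a42f218820])]) (by decide +kernel)

theorem R1 : Rel (fun i => (h i, k i)) (ssE lv) := (cH1.rel sH).prod (cK1.rel sK)

theorem R2 : Rel (fun i => (h i, k i)) (defE ds []) := (cH2.rel sH).prod (cK2.rel sK)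

theorem Rp2 : Rel (fun i => (h i, k i)) (shE 47 (pcE d2D)) := (cHp2.rel sH).prod (cKp2.rel sK)

theorem R3 : Rel (fun i => (h i, k i)) (mapR (fun i => (pw [i] 11, [])) (gsOf lv)) := (cH3.rel sH).prod (cK3.rel sK)

/-- the cover -/
noncomputable abbrev D := cl (fun i => (h i, k i)) (gsOf lv)

theorem C : CCov (prj D) (res _ (fun i => (h i, k i)) 46) 2 :=
  ccov_of R1 (by decide +kernel) top card_M12 (by decide +kernel) (eq_one (sK _ _ (by decide +kernel)))
    (ord_one (ord_of [2] (sH _ _ (by decide +kernel)) (List.forall_mem_cons.2 ⟨(neN (sys_permW _ _ nets okN) (b := 0) (by decide +kernel)), List.forall_mem_nil _⟩) (by decide))) (cH4.rel sH)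

theorem perf : commutator D = ⊤ :=
  perfect_cl C (have := simple_M12; perfect_of_simple (by rw [card_M12]; norm_num)) (by norm_num) R3

theorem d2 : NoStem 2 D :=
  have := C.fin
  cov_pc C ((R2.pass D).defM R1.ssM) Rp2 (u := [4]) (o := 2) (N := 64) (by decide +kernel) (sK _ _ (by decide +kernel))
    (ord_of [2] (sH _ _ (by decide +kernel)) (List.forall_mem_cons.2 ⟨(neN (sys_permW _ _ nets okN) (b := 0) (by decide +kernel)), List.forall_mem_nil _⟩) (by decide))
    (le_cardT inL (pr := [[6, 2], [1, 6, 4], [1, 0, 0], [1, 2], [5, 4], [8, 6], [12, 7]])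
    (ch := [(2, [nat_lit 0xbdab49ca307b9ac5a928398a418820, nat_lit 0x3d9d3a0e307d4c252d24bb4a893020, nat_lit 0x8d9f7aa1c63ce0452e43a04a2025ac, nat_lit 0xbaab49c9e689c2c2d9247416810da0, nat_lit 0x3add178a869d423b1509bc140649a4, nat_lit 0xa5a75b81c63bc295aa428c0a3411ac, nat_lit 0xa2e67726b0bbcc02d84c8b55222023, nat_lit 0x7da35b90e67520852d82984a3481b2]),
  (0, [nat_lit 0xbdab49ca307b9ac5a928398a418820, nat_lit 0xaaaf3a32267b8322d8083c164189a9, nat_lit 0xaaef17ca66a1e0c2d88970540189a8, nat_lit 0xbdaaf8b261a1db252d09718a018a04]),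
  (1, [nat_lit 0xbdab49ca307b9ac5a928398a418820, nat_lit 0xaaef49b1ed8ba12b152438548188c0])]) (by decide +kernel))
    fun a b => d2ns a b (by rw [C.card card_M12]; norm_num)

theorem mult : HasCyclicSchurMultiplier Spor.M12 2 :=
  cov_mult C perf card_M12 [2] [3] [5, 11] (by simpa using d2) (by simpa using MulM.a12p3) 7 (by decide +kernel)

end H14.Mul12
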