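import Cfsg.Agent.H14.OnOD

/-! The outer automorphism group of the O'Nan group has order two: `H14.OO.out`. -/

set_option maxRecDepth 100000

namespace H14.OO

open H13 H13.ON H14.PK H14.PK.TS H27.PKx Cfsg Cfsg.Spor MulAction

theorem frc {β : Type} [Inhabited β] (x : ℕ) (k : ℕ → β) : force x k = k x := (force_eq x k).trans rfl

theorem bt_msk {l : List ℕ} {i : ℕ} (h : bt (msk l) i = true) : i ∈ l := by
  induction l with
  | nil => exact (bt_zero h).elim
  | cons a l ih => exact (bt_sb.1 h).elim (fun c => List.mem_cons_of_mem _ (ih c)) fun c => c ▸ List.mem_cons_self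

theorem fix_mem {u L : List ℕ} (h : fixOk u L = true) {x : Fin 122760} (hx : evalW gen u • x = x) : x.1 ∈ L := by
  rw [fixOk, frc, frc, Nat.beq_eq] at h
  have hi : x.1 < (finPts 122760).n := x.2
  have e : (finPts 122760).pt x.1 = x := Fin.ext (Nat.mod_eq_of_lt x.2)
  have h1 := sys.rep u x.1 hi
  have h2 : (finPts 122760).ix (evalW gen u) x.1 = x.1 :=
    (finPts 122760).inj _ h1.1 _ hi (h1.2.symm.trans (by rw [e, hx]))
  have h3 := sys.lv_apPW 17 u (idP 122760 17) hi
  rw [h2] at h3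
  have h4 := congrArg (Nat.testBit · x.1) h
  simp only [Nat.lor_eq, Nat.testBit_or, testBit_ltP, testBit_ones] at h4
  change lv 122760 (apPW 122760 _ _ _ _) _ _ = lv 122760 _ _ _ at h3
  rw [h3, decide_eq_false (lt_irrefl _), decide_eq_true x.2, Bool.false_or, Bool.false_or, ← bt_eq] at h4
  exact bt_msk h4

theorem exS : ∃ S : TS (clW gen A6) 7 114, ∀ u, inOk A6 u = true →
    ∃ x : clW gen A6, x.1 = evalW gen u ∧ S.tb x = tw 7 114 Ys u := by
  have hT := tb_spG (by decide) (by decide) hY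
  obtain ⟨ψ, h⟩ := exists_hom_pair (cardH (hI.pair (inv_tb hT (by decide) (by decide +kernel)))
    ((relsH_of hI hR).pair (rels_tb hT (by decide +kernel)))) card_H.ge
  have h1 : ∀ u, inOk A6 u = true → (SP 7 114 (by decide) (by decide)).In ψ.range (tw 7 114 Ys u) := fun u hu =>
    ⟨_, (range_of_pair h).ge (mem_clW_of_inOk hu), tb_evalW hT u⟩
  have h2 := le_card_cl g1 (S := SP 7 114 (by decide) (by decide)) (K := ψ.range) (by
    simp only [List.forall_mem_cons]
    exact ⟨h1 _ (by decide +kernel), h1 _ (by decide +kernel), h1 _ (by decide +kernel), by simp⟩)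
  have h3 := ψ.rangeRestrict_surjective.bijective_of_nat_card_le (card_H.trans_le h2)
  have h4 : Function.Injective ψ := fun x y e => h3.1 (Subtype.ext e)
  refine ⟨(SP 7 114 (by decide) (by decide)).comap ψ h4, fun u hu => ?_⟩
  obtain ⟨a, b⟩ := h _ (mem_clW_of_inOk hu)
  refine ⟨⟨_, a⟩, congrArg Prod.fst (evalW_pair u), ?_⟩
  change (SP 7 114 (by decide) (by decide)).tb (ψ _) = _
  rw [b, evalW_pair, tb_evalW hT]

/-- the generators -/
noncomputable abbrev a : ON := evalW gen wA
/-- the generators -/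
noncomputable abbrev c : ON := evalW gen wC
/-- the generators -/
noncomputable abbrev d : ON := evalW gen wD
/-- the base point -/
abbrev o : Fin 122760 := (finPts 122760).pt 0

section
variable {S : TS (clW gen A6) 7 114}
  (hS : ∀ u, inOk A6 u = true → ∃ x : clW gen A6, x.1 = evalW gen u ∧ S.tb x = tw 7 114 Ys u)
include hS

theorem in3 : ∀ t ∈ [tw 7 114 Ys wA, tw 7 114 Ys wC, tw 7 114 Ys wK], S.In ⊤ t := by
  have h : ∀ u, inOk A6 u = true → S.In ⊤ (tw 7 114 Ys u) := fun u hu => (hS u hu).imp fun _ h => ⟨trivial, h.2⟩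
  simp only [List.forall_mem_cons]
  exact ⟨h _ (by decide +kernel), h _ (by decide +kernel), h _ (by decide +kernel), by simp⟩

theorem cen {u : List ℕ} {p : ℕ → ℕ → Bool} (hu : inOk A6 u = true) (e : cenOk u p = true) (x : clW gen A6)
    (hx : x.1 * evalW gen u = evalW gen u * x.1) : p (tw 7 114 Ys u) (S.tb x) = true := by
  obtain ⟨y, y1, y2⟩ := hS u hu
  rw [cenOk, frc, frc, ← y2] at e
  rw [← y2]
  refine (full_of_gen (Subgroup.card_top.trans card_H) (in3 hS) g1).transp (Q := fun x => p (S.tb y) (S.tb x) = true)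
    (fun x f hf e hx => ?_) e x trivial (Subtype.ext (by simpa [y1] using hx))
  simpa only [frc, mkT_eq hf, bor_eq_true, bn_iff, Nat.beq_eq, ← S.tb_mul, hx, not_true, false_or] using e

theorem le_of {H : Subgroup ON} (h1 : a ∈ H) (h2 : c ∈ H) (h3 : evalW gen wK ∈ H) : clW gen A6 ≤ H := fun x hx => by
  have h : ∀ u, inOk A6 u = true → evalW gen u ∈ H → S.el (tw 7 114 Ys u) ∈ H.subgroupOf (clW gen A6) := fun u hu e => by
    obtain ⟨y, y1, y2⟩ := hS u hu
    rw [← y2, el_tb, Subgroup.mem_subgroupOf, y1]; exact e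
  refine cl_le' (S := S) (K := H.subgroupOf (clW gen A6)) ?_
    ((cl_eq (Subgroup.card_top.trans card_H) (in3 hS) g1).ge (Subgroup.mem_top (⟨x, hx⟩ : clW gen A6)))
  simp only [List.forall_mem_cons]
  exact ⟨h _ (by decide +kernel) h1, h _ (by decide +kernel) h2, h _ (by decide +kernel) h3, by simp⟩

end

theorem eqT {u v : List ℕ} (h : (u, v) ∈ [(subW wT wA, wA), (subW wT wC, wC), (subW wT wD, invW 3 wD), (subW [wA, wC, wD] uK, wK),
    (wC ++ wA, powW wA 8 ++ wC), (wD ++ wC, wC ++ wD), (powW wD 2, powW wC 3), (powW wA 19, []), (powW (wA ++ wD) 11, []),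
    (powW wC 6, [])]) : evalW gen u = evalW gen v := evl.eq base eT h

theorem neT {u : List ℕ} (h : u ∈ [wA, powW wD 2, powW (powW wA 2 ++ wD) 11,
    powW (powW wA 2 ++ invW 3 wD) 11, powW (powW wA 4 ++ wD) 11, powW (powW wA 4 ++ invW 3 wD) 11]) : evalW gen u ≠ 1 :=
  evl.ne_one (i := 1) (by decide) (Bool.eq_false_iff.2 (bn_iff.1 (allL_iff.1 nT u h)))

theorem a19 : a ^ 19 = 1 := by simpa using eqT (u := powW wA 19) (v := []) (by simp)

theorem dd : d ^ 2 = c ^ 3 := by simpa using eqT (u := powW wD 2) (v := powW wC 3) (by simp)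

theorem dc : d * c = c * d := by simpa [evalW_append] using eqT (u := wD ++ wC) (v := wC ++ wD) (by simp)

theorem cenA (g : ON) (h : g * a = a * g) : ∃ i : ℕ, g = a ^ i := by
  obtain ⟨S, hS⟩ := exS
  have h0 : a • o = o := stab.le (mem_clW_of_inOk (by decide +kernel))
  have h1 : a • g • o = g • o := by rw [← mul_smul, ← h, mul_smul, h0]
  have h2 : g ∈ clW gen A6 := stab.ge (Fin.ext (List.mem_singleton.1 (fix_mem fA h1)))
  have h3 : evalW gen ww ∈ clW gen A6 := mem_clW_of_inOk (by decide +kernel)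
  have hu : inOk A6 (invW 3 ww ++ (wA ++ ww)) = true := by decide +kernel
  have e : evalW gen (invW 3 ww ++ (wA ++ ww)) = (evalW gen ww)⁻¹ * (a * evalW gen ww) := by
    rw [evalW_append, evalW_append, evalW_invW hI]
  have h4 := cen hS hu cA ⟨_, mul_mem (inv_mem h3) (mul_mem h2 h3)⟩ (by
    rw [e]; simp only [mul_assoc, mul_inv_cancel_left]; rw [← mul_assoc g, h, mul_assoc])
  obtain ⟨y, y1, y2⟩ := hS _ hu
  simp only [← y2, bn_iff, allLt_iff, Nat.beq_eq, ← S.tb_pow, tb_eq_iff, not_forall, not_not] at h4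
  obtain ⟨i, -, hi⟩ := h4
  have h5 : (evalW gen ww)⁻¹ * (g * evalW gen ww) = y.1 ^ i := congrArg Subtype.val hi
  rw [y1, e] at h5
  generalize evalW gen ww = w at h5
  rw [← mul_assoc _ a, ← inv_inv w, inv_inv w⁻¹, conj_pow] at h5
  exact ⟨i, by simpa [mul_assoc] using h5⟩

theorem cenC (x : ON) (h : x * c = c * x) (h2 : x ^ 2 = c ^ 3) : x = d ∨ x = d⁻¹ := by
  obtain ⟨S, hS⟩ := exS
  have k1 : ∀ q : Fin 122760, c • x • q = x • q ↔ c • q = q := fun q => by
    rw [← mul_smul, ← h, mul_smul, smul_left_cancel_iff]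
  have k2 : Fintype.card {q : Fin 122760 // c • q = q} = 9 := by
    rw [Fintype.card_of_subtype (fx.map (finPts 122760).pt).toFinset fun q => ?_]
    · decide +kernel
    rw [List.mem_toFinset, List.mem_map]
    refine ⟨?_, fun e => ⟨_, fix_mem fC e, Fin.ext (Nat.mod_eq_of_lt q.2)⟩⟩
    rintro ⟨i, hi, rfl⟩
    exact evl.fix (bs := fx) (rs := [wC]) (by decide) (by decide +kernel) (by simp) hi
  obtain ⟨⟨q, hq⟩, e⟩ := Equiv.Perm.exists_fixed_point_of_prime (p := 2) (n := 1) (by rw [k2]; decide)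
    (σ := (MulAction.toPerm x).subtypePerm k1) (Equiv.ext fun q => Subtype.ext (by
      change x • x • q.1 = q.1
      rw [← mul_smul, ← pow_two, h2, pow_three, mul_smul, mul_smul, q.2, q.2, q.2]))
  have e : x • q = q := congrArg Subtype.val e
  obtain ⟨D, hD, rfl⟩ : ∃ D ∈ dat, (finPts 122760).pt D.p = q := by
    obtain ⟨D, hD, e⟩ := List.mem_map.1 ((show dat.map Dt.p = fx from rfl) ▸ fix_mem fC hq)
    exact ⟨D, hD, e ▸ Fin.ext (Nat.mod_eq_of_lt q.2)⟩
  have k := allL_iff.1 dOk D hD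
  simp only [Dt.ok, band_eq_true, bor_eq_true, allL_iff, Nat.beq_eq] at k
  obtain ⟨⟨k3, k4⟩, ⟨k5, k6⟩, k7⟩ := k
  have m1 : evalW gen D.u • o = (finPts 122760).pt D.p := evl.smul (by decide) (Nat.beq_eq ▸ k5)
  have m2 := evl.eq base k6 (r := (wC ++ D.u, D.u ++ D.c)) (by simp)
  have m3 := evl.eq base k6 (r := (D.c ++ D.c, wC ++ wC)) (by simp)
  simp only [evalW_append] at m2 m3
  have m4 : evalW gen D.c = (evalW gen D.u)⁻¹ * c * evalW gen D.u := by rw [mul_assoc, m2, inv_mul_cancel_left]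
  have m5 : (evalW gen D.u)⁻¹ * x * evalW gen D.u ∈ clW gen A6 := stab.ge (by
    rw [mem_stabilizer_iff, mul_smul, mul_smul, m1, e, ← m1, inv_smul_smul])
  have m6 := cen hS (by decide +kernel) cC ⟨_, m5⟩ (by
    rw [evalW_append, ← m3, m4]
    simp only [mul_assoc, mul_inv_cancel_left]
    rw [← mul_assoc x, h, mul_assoc, ← mul_assoc x, h, mul_assoc])
  rw [frc, ← S.tb_mul] at m6
  rcases bor_eq_true.1 (allL_iff.1 m6 D hD) with m7 | m7
  · obtain ⟨y, y1, y2⟩ := hS _ k3
    refine (bn_iff.1 m7 (Nat.beq_eq ▸ ?_)).elim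
    rw [← k4, ← y2, tb_eq_iff, Subtype.ext_iff, y1, evalW_append, evalW_append, m4, Subgroup.coe_mul]
    simp only [mul_assoc, mul_inv_cancel_left]
    rw [← mul_assoc x, ← pow_two, h2, pow_three]
    simp only [mul_assoc]
  obtain ⟨y, hy, m7⟩ := anyL_iff.1 m7
  obtain ⟨⟨n1, n2⟩, n3⟩ := k7 y hy
  obtain ⟨z, z1, z2⟩ := hS _ n1
  have m8 : x * evalW gen D.u = evalW gen D.u * evalW gen y.2 := by
    rw [← z1, ← S.tb_inj ((Nat.eq_of_beq_eq_true m7).trans (n2.symm.trans z2.symm))]
    simp only [mul_assoc, mul_inv_cancel_left]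
  refine n3.imp (fun n => ?_) fun n => ?_
  · have := evl.eq base n List.mem_cons_self
    rwa [evalW_append, evalW_append, ← m8, mul_left_inj] at this
  · have := evl.eq base n List.mem_cons_self
    rw [evalW_append, evalW_append, ← m8, ← mul_assoc, mul_eq_right] at this
    exact eq_inv_of_mul_eq_one_right this

theorem ext3 {α β : MulAut ON} (h1 : α a = β a) (h2 : α c = β c) (h3 : α d = β d) : α = β := by
  obtain ⟨S, hS⟩ := exS
  have h4 : evalW gen wK ∈ α.toMonoidHom.eqLocus β.toMonoidHom := by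
    rw [← eqT (u := subW [wA, wC, wD] uK) (by simp), evalW_subW]
    refine evalW_mem fun l hl => ?_
    have : l < 3 := (by decide : ∀ l ∈ uK, l < 3) l hl
    interval_cases l
    exacts [h1, h2, h3]
  have h5 := coatom.2 _ (lt_of_le_of_ne (stab.ge.trans (le_of hS h1 h2 h4)) fun e => by
    have k := (evl.smul (u := wD) (i := 0) (j := 5486) (by decide) (by decide +kernel)).symm.trans
      (mem_stabilizer_iff.1 (e.ge h3))
    exact absurd k (by decide))
  exact MulEquiv.ext fun x => h5.ge (Subgroup.mem_top x)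

theorem exT : ∃ τ : MulAut ON, τ a = a ∧ τ c = c ∧ τ d = d⁻¹ := by
  have r := (evl.genW wT).rels base rT
  have i : Inv (genW gen wT) 3 := inv_of_rels (m := 8) (fun l hl => genW_of_le hl) (by decide) r (by decide +kernel)
  have r' : Rels (genW gen wT) rels := fun u hu => r u (by simp [hu])
  let f : ON →* ON := presHom i hgs (pres_eq ▸ r')
  have h : ∀ x, f (gen (ix x)) = genW gen wT (ix x) := fun x => by rw [hg, presHom_of]
  have h1 : (fun l => f (gen l)) = genW gen wT := funext fun l => by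
    rcases Nat.lt_or_ge l 8 with c | c
    · interval_cases l
      exacts [h .g, by
        have a : gen 1 * gen 0 = 1 := hI 0
        have b : genW gen wT 1 * genW gen wT 0 = 1 := i 0
        rw [eq_inv_of_mul_eq_one_left a, map_inv, eq_inv_of_mul_eq_one_left b]
        exact congrArg _ (h .g), h .a, h .b, h .c, h .d, h .e, h .f]
    · rw [one l c, map_one, genW_of_le c]
  have h2 : ∀ u, f (evalW gen u) = evalW gen (subW wT u) := fun u => by rw [map_evalW, h1, evalW_subW]
  have h3 : f a = a := (h2 _).trans (eqT (by simp))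
  have := simple
  have h4 : Function.Injective f := f.ker_eq_bot_iff.1 (f.normal_ker.eq_bot_or_eq_top.resolve_right fun c =>
    neT (u := wA) (by simp) (h3.symm.trans (c.ge (Subgroup.mem_top _))))
  have h5 : f c = c := (h2 _).trans (eqT (by simp))
  have h6 : f d = d⁻¹ := ((h2 wD).trans (eqT (v := invW 3 wD) (by simp))).trans (evalW_invW hI _)
  exact ⟨MulEquiv.ofBijective f (Finite.injective_iff_bijective.1 h4), h3, h5, h6⟩

theorem out : Nat.card (Out ON) = 2 := by
  obtain ⟨τ, t1, t2, t3⟩ := exT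
  have := Fact.mk (by norm_num : Nat.Prime 19)
  refine card_Out_eq_two (τ := τ) (fun g hg => ?_) fun α => ?_
  · subst hg
    obtain ⟨i, rfl⟩ := cenA g (mul_inv_eq_iff_eq_mul.1 t1)
    have h1 : Commute ((a ^ i) ^ 2) d := by
      have := congrArg (MulAut.conj (a ^ i)) t3
      rw [map_inv, ← MulAut.mul_apply, ← map_mul, ← pow_two, t3, inv_inv] at this
      exact mul_inv_eq_iff_eq_mul.1 this
    have h2 := h1.pow_left 10
    rw [← pow_mul, show 2 * 10 = 19 + 1 from rfl, pow_succ, ← pow_mul, mul_comm i, pow_mul, a19, one_pow, one_mul] at h2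
    rw [MulAut.conj_apply, h2.eq, mul_inv_cancel_right] at t3
    exact neT (u := powW wD 2) (by simp) (by rw [evalW_powW, pow_two]; exact mul_eq_one_iff_eq_inv.2 t3)
  obtain ⟨g, h1, k, hk, h2⟩ := exists_inner_rigid (p := 19) (a := a) (c := c) (r := 7) (s := 11) (ks := [1, 2, 4]) (by norm_num)
    (orderOf_eq_prime a19 (neT (by simp))) (by rw [card_eq]; norm_num) cenA
    (mul_inv_eq_iff_eq_mul.2 (by simpa [evalW_append] using eqT (u := wC ++ wA) (v := powW wA 8 ++ wC) (by simp)))
    (by decide) (by decide) (by decide) α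
  refine ⟨g, ?_⟩
  generalize MulAut.conj g * α = β at h1 h2
  have h3 := cenC (β d) (by simpa [h1] using congrArg β dc) (by simpa [h1] using congrArg β dd)
  have h4 : (a ^ k * β d) ^ 11 = 1 := by
    simpa [evalW_append, h2] using congrArg β (eqT (u := powW (wA ++ wD) 11) (v := []) (by simp))
  simp only [List.mem_cons, List.not_mem_nil, or_false] at hk
  rcases hk with rfl | rfl | rfl <;> rcases h3 with h3 | h3 <;> rw [h3] at h4
  · exact Or.inl (ext3 (h2.trans (pow_one _)) h1 h3)
  · exact Or.inr (ext3 (h2.trans ((pow_one _).trans t1.symm)) (h1.trans t2.symm) (h3.trans t3.symm))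
  · exact (neT (u := powW (powW wA 2 ++ wD) 11) (by simp) (by simpa [evalW_append] using h4)).elim
  · exact (neT (u := powW (powW wA 2 ++ invW 3 wD) 11) (by simp) (by simpa [evalW_append, evalW_invW hI] using h4)).elim
  · exact (neT (u := powW (powW wA 4 ++ wD) 11) (by simp) (by simpa [evalW_append] using h4)).elim
  · exact (neT (u := powW (powW wA 4 ++ invW 3 wD) 11) (by simp) (by simpa [evalW_append, evalW_invW hI] using h4)).elim

end H14.OO
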