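import Mathlib
import Cfsg.Agent.H14.MCls2
import Cfsg.Agent.H14.M24St

/-! Tools for locating subgroups of `M24`: Sylow counting, coset counting and descent on octads. -/

namespace H14

open Cfsg Finset MulAction PK PK.TS
open scoped Pointwise

section

variable {G : Type*} [Group G] [Finite G] {p k m : ℕ} {K H T E : Subgroup G}

theorem exists_le_cj (hp : p.Prime) (hK : Nat.card K = p ^ k) (hG : Nat.card G = p ^ k * m) (hm : ¬ p ∣ m) {j : ℕ}
    (hT : Nat.card T = p ^ j) : ∃ g, T ≤ H13.cj g K := by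
  have := Fact.mk hp
  obtain ⟨Q, hQ⟩ := (IsPGroup.of_card hT).exists_le_sylow
  obtain ⟨g, e⟩ := sylow_eq_cj hp hK hG hm Q
  exact ⟨g, e ▸ hQ⟩

theorem exists_sub_card (hp : p.Prime) (hH : p ^ k ∣ Nat.card H) : ∃ T ≤ H, Nat.card T = p ^ k := by
  have := Fact.mk hp
  obtain ⟨Q, hQ⟩ := Sylow.exists_subgroup_card_pow_prime p hH
  exact ⟨_, Subgroup.map_subtype_le Q, (Subgroup.card_map_of_injective H.subtype_injective).trans hQ⟩

theorem exists_cj_le (hp : p.Prime) (hK : Nat.card K = p ^ k) (hG : Nat.card G = p ^ k * m) (hm : ¬ p ∣ m)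
    (hH : p ^ k ∣ Nat.card H) : ∃ g, K ≤ H13.cj g H := by
  obtain ⟨T, a, b⟩ := exists_sub_card hp hH
  obtain ⟨g, c⟩ := exists_le_cj hp hK hG hm b
  have := Subgroup.eq_of_le_of_card_ge c (by rw [H13.card_cj, hK, b])
  exact ⟨g⁻¹, fun x hx => a (this ▸ by simpa [H13.mem_cj, mul_assoc] using hx)⟩

theorem sylow_cnt (hp : p.Prime) {x : G} (hx : x ∈ H) (ho : orderOf x = p) (h2 : ¬ p ^ 2 ∣ Nat.card H) :
    ∃ k, Nat.card H = Nat.card ↥(H ⊓ Subgroup.normalizer (Subgroup.zpowers x : Set G)) * k ∧ k % p = 1 := by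
  have := Fact.mk hp
  have l := Subgroup.zpowers_le.2 hx
  have c : Nat.card ((Subgroup.zpowers x).subgroupOf H) = p := by
    rw [Nat.card_congr (Subgroup.subgroupOfEquivOfLe l).toEquiv, Nat.card_zpowers, ho]
  let P : Sylow p H := Sylow.ofCard ((Subgroup.zpowers x).subgroupOf H) (by
    have a : p ^ 1 ∣ Nat.card H := by rw [pow_one, ← c]; exact Subgroup.card_subgroup_dvd_card _
    rw [hp.pow_dvd_iff_le_factorization Nat.card_pos.ne'] at a h2
    rw [c, show (Nat.card H).factorization p = 1 by omega, pow_one])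
  refine ⟨Nat.card (Sylow p H), ?_, Eq.trans (card_sylow_modEq_one p H) (Nat.mod_eq_of_lt hp.one_lt)⟩
  rw [P.card_eq_index_normalizer, ← (Subgroup.normalizer (P : Set H)).card_mul_index]
  congr 1
  rw [show (P : Set H) = ((Subgroup.zpowers x).subgroupOf H : Subgroup H) from rfl, ← Subgroup.subgroupOf_normalizer_eq l,
    ← Subgroup.inf_subgroupOf_left]
  exact Nat.card_congr (Subgroup.subgroupOfEquivOfLe inf_le_left).toEquiv

theorem card_mul_le (hT : T ≤ K) (hE : E ≤ K) : Nat.card T * Nat.card E ≤ Nat.card ↥(T ⊓ E) * Nat.card K := by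
  have a : T.relIndex E ≤ T.relIndex K := Subgroup.relIndex_le_of_le_right hE Subgroup.index_ne_zero_of_finite
  have b : Nat.card ↥(T ⊓ E) * T.relIndex E = Nat.card E := by
    rw [← (T.subgroupOf E).card_mul_index, ← Subgroup.inf_subgroupOf_right T,
      Nat.card_congr (Subgroup.subgroupOfEquivOfLe inf_le_right).toEquiv, Subgroup.inf_subgroupOf_right]; rfl
  have c : Nat.card T * T.relIndex K = Nat.card K := by
    rw [← (T.subgroupOf K).card_mul_index, Nat.card_congr (Subgroup.subgroupOfEquivOfLe hT).toEquiv]; rfl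
  rw [← b, ← c]
  calc _ ≤ Nat.card T * (Nat.card ↥(T ⊓ E) * T.relIndex K) := by gcongr
    _ = _ := by ring

theorem cosets_le (h : K ≤ H) (r : Fin m → G) (hr : ∀ i, r i ∈ H) (hn : ∀ i j, (r i)⁻¹ * r j ∈ K → i = j) :
    m * Nat.card K ≤ Nat.card H := by
  simpa using Nat.card_le_card_of_injective (fun x : Fin m × K => (⟨r x.1 * x.2, H.mul_mem (hr _) (h x.2.2)⟩ : H)) (by
    rintro ⟨i, x⟩ ⟨j, y⟩ e
    have e : r i * x = r j * y := Subtype.mk.inj e
    obtain rfl := hn i j (by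
      rw [show (r i)⁻¹ * r j = x * y⁻¹ by rw [inv_mul_eq_iff_eq_mul, ← mul_assoc, e]; simp]
      exact K.mul_mem x.2 (K.inv_mem y.2))
    rw [Subtype.ext (mul_left_cancel e)])

omit [Finite G] in
theorem eq_of_cj {g : G} {α : Type*} [MulAction G α] {x : α} (h : H13.cj g H = stabilizer G x) : H = stabilizer G (g⁻¹ • x) := by
  rw [← H13.cj_stabilizer, ← h]; ext; simp [H13.mem_cj, mul_assoc]

omit [Finite G] in
theorem dvd_of_ord {w n : ℕ} {S : TS G w n} {t : ℕ} (hp : p.Prime) (ht : S.In H t) (e : ordOk w n t p = true) :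
    p ∣ Nat.card H := ht.order hp e ▸ Subgroup.orderOf_dvd_natCard _ ht.el_mem

end

/-- every octad is in `rs` or is moved down by a member of `gs` -/
noncomputable def dscOk (gs rs : List ℕ) : Bool := all2 23 33 fun i => H13.force (H13.get 25 H13.TOct i) fun m =>
  H13.bor (memL m rs) (H13.anyL (fun g => Nat.blt (pm g m) m) gs)

theorem oct_descent {K : Subgroup M24} {gs rs : List ℕ} (hg : ∀ t ∈ gs, S24.In K t) (e : dscOk gs rs = true) :
    ∀ o ∈ octads, ∃ k ∈ K, ∃ r ∈ rs, k • o = toSet r := by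
  have a : ∀ o ∈ octads, ∀ m < 2 ^ 24, o = toSet m → m ∈ rs ∨ ∃ g ∈ gs, pm g m < m :=
    forall_oct (fun m hm c m' hm' e => by
      obtain rfl := toSet_inj hm hm' e
      simpa [H13.bor_eq_true, memL_iff, H13.anyL_iff] using c) e
  intro o ho
  obtain ⟨m, hm, rfl⟩ := exists_toSet o
  induction m using Nat.strong_induction_on with
  | _ m ih =>
    rcases a _ ho m hm rfl with c | ⟨g, c, d⟩
    · exact ⟨1, K.one_mem, m, c, one_smul _ _⟩
    · obtain ⟨k, hk, r, hr, f⟩ := ih _ d (d.trans hm) (el24_smul (hg g c) m ▸ smul_octad (S24.el g).2 ho)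
      exact ⟨k * S24.el g, K.mul_mem hk (hg g c).el_mem, r, hr, by rw [mul_smul, el24_smul (hg g c), f]⟩

/-- the pointwise stabiliser of a set -/
def ptw (s : Finset GolayPt) : Subgroup M24 := fixingSubgroup M24 (s : Set GolayPt)

theorem mem_ptw {s : Finset GolayPt} {g : M24} : g ∈ ptw s ↔ ∀ p ∈ s, g • p = p := mem_fixingSubgroup_iff _

theorem cj_ptw (k : M24) (s : Finset GolayPt) : H13.cj k (ptw s) = ptw (k • s) := by
  ext g
  simp only [H13.mem_cj, mem_ptw, mul_smul, inv_smul_eq_iff, mem_smul_finset, forall_exists_index, and_imp,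
    forall_apply_eq_imp_iff₂]

theorem ptw0 : ptw (toSet 0x149f) = stS [0, 1, 2, 3, 4, 7, 10, 12] [] [] := by
  ext g
  rw [mem_ptw, show toSet 0x149f = ([0, 1, 2, 3, 4, 7, 10, 12].map pt).toFinset by decide +kernel]
  simp [mem_stS]

theorem in_ptw {T m : ℕ} (h : H13.band (ok24 T) (fixM T m) = true) : S24.In (ptw (toSet m)) T := by
  have a := in24 (H13.band_eq_true.1 h).1
  refine a.of_el (mem_ptw.2 fun p hp => mem_fixS.1 ?_)
  rwa [fixS_eq (g := S24.el T) (a.tb_el.symm ▸ (H13.band_eq_true.1 h).2 :)]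

theorem ptw_free {o : Finset GolayPt} (ho : o ∈ octads) {g : M24} (hg : g ∈ ptw o) {p : GolayPt} (hp : p ∉ o) (h : g • p = p) :
    g = 1 := Subtype.ext (eq_one_of_fix_octad g.2 ho subset_rfl (by rw [ho.2]; norm_num) hp (mem_ptw.1 hg) h)

/-- a chain for the pointwise stabiliser of the standard octad -/
def e0Ch : Ch := [(0, [nat_lit 0xbdab49ca307b9ac5a928398a418820]),
  (1, [nat_lit 0xbdab49ca307b9ac5a928398a418820]),
  (2, [nat_lit 0xbdab49ca307b9ac5a928398a418820]),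
  (3, [nat_lit 0xbdab49ca307b9ac5a928398a418820]),
  (4, [nat_lit 0xbdab49ca307b9ac5a928398a418820]),
  (7, [nat_lit 0xbdab49ca307b9ac5a928398a418820]),
  (5, [nat_lit 0xbdab49ca307b9ac5a928398a418820, nat_lit 0x5c613a22d56a5ecba9d2394c418820, nat_lit 0x7d6c971a11bcd6c6aa853c90418820, nat_lit 0xb5de894d6da9a0c8a8b43b92418820, nat_lit 0x33a70abd349590c2aa2d3dd6418820, nat_lit 0x94dd1b5e89354ac42a0b3bda418820, nat_lit 0x8adb2452ef816acb28d33a5c418820, nat_lit 0x451368ae6e2c0cc92ab73b5e418820, nat_lit 0x9c8cbbd90573d2ca29b13d60418820, nat_lit 0x71a4d7d4a89de8c4a9703da2418820, nat_lit 0x6c22e496b65d2ec7aa663a24418820, nat_lit 0x835662a5f78a2ccaaa4e3d26418820, nat_lit 0xabee5339abb4a2c829093ce8418820, nat_lit 0xa20b75c6464b5cc9a9f63c2a418820, nat_lit 0x4950f6c0d2a2e6c72af53c6c418820, nat_lit 0x2a695835d34464c32acf3aee418820])]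

theorem e0_full : S24.Full (ptw (toSet 0x149f)) e0Ch := ptw0 ▸
  full_stS [(0, [nat_lit 0xbdab49ca307b9ac5a928398a418820, nat_lit 0xb82d5a4e5183dcd62d4941cc520c41, nat_lit 0xb8416ad2728c1ee6b16a4a0e629062, nat_lit 0xb8820b56939460f7358b5250731483, nat_lit 0xb8c4105ab49ca307b9ac5a928398a4, nat_lit 0xb9062082d5a4e5183dcd62d4941cc5, nat_lit 0xb948310416ad2728c1ee6b16a4a0e6, nat_lit 0xb98a418820b56939460f7358b52507, nat_lit 0xb9cc520c4105ab49ca307b9ac5a928, nat_lit 0xba0e629062082d5a4e5183dcd62d49, nat_lit 0xba5073148310416ad2728c1ee6b16a, nat_lit 0xba928398a418820b56939460f7358b, nat_lit 0xbad4941cc520c4105ab49ca307b9ac, nat_lit 0xbb16a4a0e629062082d5a4e5183dcd, nat_lit 0xbb58b525073148310416ad2728c1ee, nat_lit 0xbb9ac5a928398a418820b56939460f, nat_lit 0xbbdcd62d4941cc520c4105ab49ca30, nat_lit 0xbc1ee6b16a4a0e629062082d5a4e51, nat_lit 0xbc60f7358b525073148310416ad272, nat_lit 0xbca307b9ac5a928398a418820b5693, nat_lit 0xbce5183dcd62d4941cc520c4105ab4,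 nat_lit 0xbd2728c1ee6b16a4a0e629062082d5, nat_lit 0xbd6939460f7358b525073148310416, nat_lit 0x5883388a1c8f5140b46cd317aed7]),
  (1, [nat_lit 0xbdab49ca307b9ac5a928398a418820, nat_lit 0xbace589acc7cd0d75609a11411c840, nat_lit 0x63e9182495996ca5a0ee30a416dc60, nat_lit 0xbc54770a697ad90b150daca8618480, nat_lit 0x59eca721347dc4688e53231b0a84a0, nat_lit 0xbccb5585c87da098d1ac508f2190c0, nat_lit 0x8aa74b31b57dc8270c2b92608298e0, nat_lit 0x8526d792d171aab4c8aa10cf760500, nat_lit 0x6162878576990ee8195590e9768920, nat_lit 0x751759a6057de44b0cd10b50c38940, nat_lit 0x54d31711e6a04f6aa04dbb25028d60, nat_lit 0x455707ca6eb08b1684f420d5749980, nat_lit 0x74d0bb2af17d0a685644188293b1a0, nat_lit 0xac616985e428a8b3a648bb4cc50dc0, nat_lit 0x915d058a69306844586a656e78b5e0, nat_lit 0x6aac9789cb88693612a730cb744a00, nat_lit 0xa2daeb49e2a99532b090ba42838e20, nat_lit 0xbba8ab116d7c52899d90286a219a40, nat_lit 0x3d98b889e1548aea40c9ba08da8e60, nat_lit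 0x741e5b5eb310d6d3c941324888b280, nat_lit 0xb21e79dcab20e30506861364c726a0, nat_lit 0x398aa988905a50f75e321b68ca86c0, nat_lit 0x62cd2209ea9c1d62d2a7885036a6e0]),
  (2, [nat_lit 0xbdab49ca307b9ac5a928398a418820, nat_lit 0x9d14c488b7934887b8d0ac6cb38c20, nat_lit 0x3aeacb4cb21ddae80951a25e641020, nat_lit 0x126c7535d25de666428faa22419420, nat_lit 0xa42ae5d9f341db7910456286989820, nat_lit 0x88c566ca74bc1e5aa96c4a08671c20, nat_lit 0xb5050a8eed625f1918e42a9cb9a020, nat_lit 0x64ab782c768d1a79988f7090a2a420, nat_lit 0x74ea79410b2b1b4b24c3b92227a820, nat_lit 0x2c851a55c39d9e96a0d781d8a22c20, nat_lit 0x338a87d2333dc6aada0b688924b020, nat_lit 0x78ae78b90552d891c2a49cac6a3420, nat_lit 0x88d30a32c59984a410ef92db7ab820, nat_lit 0x95d36a958d39223589ca41a9383c20, nat_lit 0xa206d72e55492253ccc2559f764020, nat_lit 0x5b092aa0ed728659a68678af0b4420, nat_lit 0x6d4aa73c94498779b2d1440e25c820, nat_lit 0x2386a5d4477962d41acca5e504cc20, nat_lit 0x19496b9e48809267a9d15cdacad020,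 nat_lit 0x4baef28e8241d938c8ca5b490b5420, nat_lit 0x6d4643a12e12a345de0f2cd8695820, nat_lit 0x51c65439eb65224ac2726993615c20]),
  (3, [nat_lit 0xbdab49ca307b9ac5a928398a418820, nat_lit 0x732cd7dcd55a2051cd5191e8920820, nat_lit 0x69e72711f11b1368569752cc828820, nat_lit 0x6d211b29834be5371d0bb90b530820, nat_lit 0x8b24f339b3aa6c51ac978291438820, nat_lit 0x9dd312b475b40ee5d18a249e640820, nat_lit 0x959b1a226f514ec5c0d7a8c8e48820, nat_lit 0xbb2066c5eb9d2451d4eeb112850820, nat_lit 0xb9d4e7b6558a27680ca44d18658820, nat_lit 0x9a5ed41a325d8a7aa9d71c28460820, nat_lit 0x9116e42a8938e6683ed165ea568820, nat_lit 0x6dcef4c95062ed4198b54466470820, nat_lit 0x919379d0f0439556ad83216d178820, nat_lit 0xba4688cdaa911e7aad862bad480820, nat_lit 0x6d0b77b9352206a9c2cb330f288820, nat_lit 0x8a074754c7b29a45cd8f2de0990820, nat_lit 0x890f769acb752b090caa4258f98820, nat_lit 0x9bab238ecb2c5af42490b998aa0820, nat_lit 0xb956493e6369a29542d4620eea8820, nat_lit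 0x75069bade481cca9d58d2c648b0820, nat_lit 0x3448d458f264e091bcaba3aaab8820]),
  (4, [nat_lit 0xbdab49ca307b9ac5a928398a418820, nat_lit 0x81d26ada7493d772454d7310518820, nat_lit 0x438ea6b274ac08bbd8b24c5e618820, nat_lit 0x74a685c2f6345eca9289534a718820, nat_lit 0xa394c49ea6b48902ce2b7dda818820, nat_lit 0x831b2bd10e8ceab39945b11e918820, nat_lit 0x7deb25b509b428c29dc62466a18820, nat_lit 0x64a708bd5771d066a6a5b508b18820, nat_lit 0x9222e3168bb56e499de9541ac18820, nat_lit 0x5a9f08a0ce2da72650f7a912d18820, nat_lit 0x9ae926550a23db7315278da0e18820, nat_lit 0xa90d6ba5b12c9706214e99e8f18820, nat_lit 0x4d547b90ce8ad93921a57d2d018820, nat_lit 0x9413622daa3d0d7439ec2ceb118820, nat_lit 0x45cd62260c53d6d8d4a7a3a7218820, nat_lit 0x650ae35c964aa28942ab7b4f318820, nat_lit 0x29ec941a309dd6d6488faa9d418820, nat_lit 0x39a2e414937b2f45cad06a55518820, nat_lit 0x522eea449569ca682e724bd9618820, nat_lit 0x5c9f32412c51905a39a78d6d718820]),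
  (7, [nat_lit 0xbdab49ca307b9ac5a928398a418820, nat_lit 0x8bcd6925d5a5d674326d540a418820, nat_lit 0x7520f4cee6b450a69e4b654a418820]),
  (5, [nat_lit 0xbdab49ca307b9ac5a928398a418820, nat_lit 0x5c613a22d56a5ecba9d2394c418820, nat_lit 0x7d6c971a11bcd6c6aa853c90418820, nat_lit 0xb5de894d6da9a0c8a8b43b92418820, nat_lit 0x33a70abd349590c2aa2d3dd6418820, nat_lit 0x94dd1b5e89354ac42a0b3bda418820, nat_lit 0x8adb2452ef816acb28d33a5c418820, nat_lit 0x451368ae6e2c0cc92ab73b5e418820, nat_lit 0x9c8cbbd90573d2ca29b13d60418820, nat_lit 0x71a4d7d4a89de8c4a9703da2418820, nat_lit 0x6c22e496b65d2ec7aa663a24418820, nat_lit 0x835662a5f78a2ccaaa4e3d26418820, nat_lit 0xabee5339abb4a2c829093ce8418820, nat_lit 0xa20b75c6464b5cc9a9f63c2a418820, nat_lit 0x4950f6c0d2a2e6c72af53c6c418820, nat_lit 0x2a695835d34464c32acf3aee418820])] (by decide +kernel)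

theorem card_ptw {o : Finset GolayPt} (ho : o ∈ octads) : Nat.card (ptw o) = 16 := by
  obtain ⟨k, hk, rfl⟩ := exists_smul_oct0 ho
  exact ((congrArg (fun K : Subgroup M24 => Nat.card K) (cj_ptw ⟨k, hk⟩ _)).symm.trans (H13.card_cj _ _)).trans
    (e0_full.card.trans (by decide +kernel))

/-- a property of all members of the pointwise stabiliser of an octad -/
theorem all_ptw {g r : ℕ} {Q : M24 → Prop} {p : ℕ → Bool} (hp : ∀ x, p (S24.tb x) = true → Q x)
    (e : H13.band (H13.band (ok24 g) (Nat.beq (pm g 0x149f) r))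
      (eallT 5 24 (fun T => H13.force (cjT 5 24 g T) p) e0Ch) = true) : ∀ x ∈ ptw (toSet r), Q x := by
  obtain ⟨e1, e⟩ := H13.band_eq_true.1 e
  obtain ⟨e1, e2⟩ := H13.band_eq_true.1 e1
  have a := in24 e1
  rw [← Nat.eq_of_beq_eq_true e2, ← el24_smul a, ← cj_ptw]
  intro x hx
  simpa [mul_assoc] using e0_full.allT (Q := fun y => Q (S24.el g * y * (S24.el g)⁻¹)) (fun y c => hp _ (by
    rwa [H13.force_eq, ← a.tb_el, ← tb_cj] at c)) e _ hx

end H14
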