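import Mathlib
import Cfsg.Agent.H14.Witt

/-! Counting `k`-subsets of a set of the 24 points (`H14.Sr.cntK`, `cntK_eq`), lists of the traces of octads (`W_tab`) and the
independent sets of the projective plane of order 4. -/

namespace H14.Sr

open Finset Cfsg H13
open scoped Pointwise

/-- the number of `k`-subsets `s` of `U` below `n` with `p (acc ||| s)` -/
noncomputable def cntK (p : ℕ → Bool) (U n : ℕ) : ℕ → ℕ → ℕ :=
  Nat.rec (motive := fun _ => ℕ → ℕ → ℕ) (fun k acc => Nat.rec (bif' (p acc) 1 0) (fun _ _ => 0) k)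
    (fun n ih k acc => Nat.rec (bif' (p acc) 1 0) (fun k' _ => bif' (bit U n)
      (Nat.add (ih k acc) (force (Nat.lor acc (Nat.shiftLeft 1 n)) (ih k'))) (ih k acc)) k) n

theorem cntK_aux {p : ℕ → Bool} {P : Finset GolayPt → Prop} (hp : ∀ m < 2 ^ 24, p m = true ↔ P (toSet m)) (U n : ℕ)
    (hn : n ≤ 24) : ∀ k, ∀ acc < 2 ^ 24, cntK p U n k acc =
      {s : Finset GolayPt | (∀ q ∈ s, idx q < n ∧ q ∈ toSet U) ∧ s.card = k ∧ P (toSet acc ∪ s)}.ncard := by
  have z : ∀ n, ∀ acc < 2 ^ 24, bif' (p acc) 1 0 =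
      {s : Finset GolayPt | (∀ q ∈ s, idx q < n ∧ q ∈ toSet U) ∧ s.card = 0 ∧ P (toSet acc ∪ s)}.ncard := by
    intro n acc ha
    rw [bif'_eq]
    split_ifs with c
    · refine (Set.ncard_eq_one.2 ⟨∅, Set.ext fun s => ⟨fun h => card_eq_zero.1 h.2.1, ?_⟩⟩).symm
      rintro rfl; exact ⟨by simp, rfl, by rw [union_empty]; exact (hp _ ha).1 c⟩
    · refine ((Set.ncard_eq_zero (Set.toFinite _)).2 (Set.eq_empty_of_forall_notMem fun s h => c ((hp _ ha).2 ?_))).symm
      have := h.2.2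
      rwa [card_eq_zero.1 h.2.1, union_empty] at this
  induction n with
  | zero =>
    intro k acc ha
    rcases k with _ | k
    · exact z 0 acc ha
    · refine ((Set.ncard_eq_zero (Set.toFinite _)).2 (Set.eq_empty_of_forall_notMem fun s h => ?_)).symm
      obtain ⟨q, hq⟩ : s.Nonempty := card_pos.1 (h.2.1 ▸ Nat.succ_pos k)
      exact absurd (h.1 q hq).1 (Nat.not_lt_zero _)
  | succ n ih =>
    intro k acc ha
    rcases k with _ | k
    · exact z _ acc ha
    have hn' : n < 24 := hn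
    rw [show cntK p U (n + 1) (k + 1) acc = bif' (bit U n) (cntK p U n (k + 1) acc +
      force (Nat.lor acc (Nat.shiftLeft 1 n)) (cntK p U n k)) (cntK p U n (k + 1) acc) from rfl, bif'_eq, frc, sh1,
      ih hn'.le _ _ ha, ih hn'.le _ _ (lor_lt ha (two_pow_lt24 hn')), toSet_lor, toSet_two_pow hn']
    have nm : ∀ s : Finset GolayPt, (∀ q ∈ s, idx q < n ∧ q ∈ toSet U) → pt n ∉ s := fun s h c => by
      have := (h _ c).1; rw [idx_pt hn'] at this; omega
    split_ifs with c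
    · rw [← Set.InjOn.ncard_image (f := insert (pt n)) (s := {s : Finset GolayPt | (∀ q ∈ s, idx q < n ∧ q ∈ toSet U) ∧ s.card = k ∧
        P (toSet acc ∪ {pt n} ∪ s)}) (fun s hs t ht e => by
        rw [← erase_insert (nm s hs.1), e, erase_insert (nm t ht.1)]), ← Set.ncard_union_eq]
      · congr 1; ext s
        constructor
        · rintro (h | ⟨t, h, rfl⟩)
          · exact ⟨fun q hq => ⟨(h.1 q hq).1.trans (Nat.lt_succ_self n), (h.1 q hq).2⟩, h.2⟩
          · refine ⟨fun q hq => ?_, by rw [card_insert_of_notMem (nm t h.1), h.2.1], by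
              rw [insert_eq, ← union_assoc]; exact h.2.2⟩
            rcases mem_insert.1 hq with rfl | hq
            · exact ⟨by rw [idx_pt hn']; omega, (pt_mem_toSet hn').2 c⟩
            · exact ⟨(h.1 q hq).1.trans (Nat.lt_succ_self n), (h.1 q hq).2⟩
        · intro h
          have lt : ∀ q ∈ s, q ≠ pt n → idx q < n ∧ q ∈ toSet U := fun q hq c => ⟨lt_of_le_of_ne (Nat.lt_succ_iff.1 (h.1 q hq).1)
            fun e => c (by rw [← e, pt_idx]), (h.1 q hq).2⟩
          by_cases d : pt n ∈ s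
          · refine Or.inr ⟨s.erase (pt n), ⟨fun q hq => lt q (mem_of_mem_erase hq) (ne_of_mem_erase hq), by
              rw [card_erase_of_mem d, h.2.1]; rfl, ?_⟩, insert_erase d⟩
            rw [union_assoc, ← insert_eq, insert_erase d]; exact h.2.2
          · exact Or.inl ⟨fun q hq => lt q hq fun e => d (e ▸ hq), h.2⟩
      · rw [Set.disjoint_left]
        rintro _ h ⟨t, -, rfl⟩
        exact nm _ h.1 (mem_insert_self _ _)
    · congr 1; ext s
      refine and_congr_left' (forall₂_congr fun q _ => and_congr_left fun hq => ⟨fun h => h.trans (Nat.lt_succ_self n), fun h =>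
        lt_of_le_of_ne (Nat.lt_succ_iff.1 h) fun e => c ?_⟩)
      rw [← e, bit_eq]; exact mem_toSet.1 hq

theorem cntK_eq {p : ℕ → Bool} {P : Finset GolayPt → Prop} (hp : ∀ m < 2 ^ 24, p m = true ↔ P (toSet m)) (U k : ℕ) :
    {s : Finset GolayPt | s ⊆ toSet U ∧ s.card = k ∧ P s}.ncard = cntK p U 24 k 0 := by
  rw [cntK_aux hp U 24 le_rfl k 0 (by norm_num), toSet_zero]
  congr 1; ext s
  simp only [Set.mem_ofPred_eq, empty_union, idx_lt, true_and]; rfl

theorem forall_of_cntK {p : ℕ → Bool} {P : Finset GolayPt → Prop} (hp : ∀ m < 2 ^ 24, p m = true → P (toSet m)) {U k : ℕ}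
    (h : cntK (fun m => !p m) U 24 k 0 = 0) : ∀ s ⊆ toSet U, s.card = k → P s := by
  rw [← cntK_eq (P := fun s => p (enc s) = false) (fun m hm => by rw [enc_toSet hm, Bool.not_eq_true']),
    Set.ncard_eq_zero (Set.toFinite _)] at h
  intro s hs hc
  rw [← toSet_enc s]
  refine hp _ (enc_lt s) ?_
  by_contra c
  exact (h ▸ show s ∈ {s : Finset GolayPt | s ⊆ toSet U ∧ s.card = k ∧ p (enc s) = false} from ⟨hs, hc, by simpa using c⟩ :
    s ∈ (∅ : Set _))

theorem W_tab {F U k L n : ℕ} {P : Finset GolayPt → Prop} (hF : F < 2 ^ 24) (h : octOk F U k L n = true)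
    (h' : all2 64 64 (fun a => force (cw a) fun c => bimp (wOk F U k c) (inT L n c)) = true) :
    (∀ c ∈ W F U k, P c) ↔ ∀ i < n, P (toSet (tb L i &&& U)) := by
  refine ⟨fun a i hi => a _ ((toSet_and _ _).symm ▸ (octOk_spec hF h hi).2.2), fun a => (forall_W hF).2 fun b hb c => ?_⟩
  have := (all2_iff _ _ _).1 h' b hb
  rw [frc, bimp_iff] at this
  obtain ⟨j, hj, d⟩ := (anyLt_iff _ _).1 (this c)
  rw [← beq_iff'.1 d]; exact a j hj

section
variable {α : Type*} [Fintype α] [DecidableEq α] {B : Set (Finset α)} {e : α ↪ GolayPt} {U : ℕ} {C : Set (Finset GolayPt)}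

omit [DecidableEq α] in
theorem Emb.ncard (h : Emb e U B C) (P : Finset GolayPt → Prop) :
    {s : Finset α | P (s.map e)}.ncard = {s | s ⊆ toSet U ∧ P s}.ncard := by
  rw [← Set.ncard_image_of_injective _ (map_injective e)]
  congr 1; ext s
  refine ⟨?_, fun hs => ?_⟩
  · rintro ⟨t, ht, rfl⟩; exact ⟨h.pts ▸ map_subset_map.2 (subset_univ t), ht⟩
  · obtain ⟨t, rfl⟩ := exists_pre h.pts hs.1
    exact ⟨t, hs.2, rfl⟩

theorem Emb.ind_iff (h : Emb e U B C) (s : Finset α) (m : ℕ) :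
    (∀ l ∈ B, (l ∩ s).card ≤ m) ↔ ∀ c ∈ C, (c ∩ s.map e).card ≤ m := by
  rw [← h.blk, Set.forall_mem_image]
  exact forall₂_congr fun l _ => by rw [← map_inter, card_map]
end

/-- the octads through three points -/
def L21 : ℕ := nat_lit 0xe0900bd40063c84303c20c83c12017b30103a800c7a44413a02a2398081b9086079070838ea00389142385028b84190782402f82125381c8438081b380254b

/-- no line meets the set in three points -/
noncomputable def ind21 (m : ℕ) : Bool := allLt 21 fun i => Nat.ble (pc (Nat.land (Nat.land (tb L21 i) 0x7ffffc) m)) 2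

theorem ind21_iff (m : ℕ) : ind21 m = true ↔ ∀ c ∈ W 0x800003 0x7ffffc 5, (c ∩ toSet m).card ≤ 2 := by
  rw [W_tab (L := L21) (n := 21) (by norm_num) (by decide +kernel) (by decide +kernel), ind21, allLt_iff]
  exact forall₂_congr fun i _ => by rw [card_inter_toSet _ (and_lt24 _ (tb_lt _ _)), Nat.ble_eq]; rfl

theorem cnt4 : {s : Finset GolayPt | s ⊆ toSet 0x7ffffc ∧ s.card = 4 ∧ ∀ c ∈ W 0x800003 0x7ffffc 5, (c ∩ s).card ≤ 2}.ncard = 2520 :=
  (cntK_eq (fun m _ => ind21_iff m) _ _).trans (by decide +kernel)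

theorem cnt6 : {s : Finset GolayPt | s ⊆ toSet 0x7ffffc ∧ s.card = 6 ∧ ∀ c ∈ W 0x800003 0x7ffffc 5, (c ∩ s).card ≤ 2}.ncard = 168 :=
  (cntK_eq (fun m _ => ind21_iff m) _ _).trans (by decide +kernel)

/-- the points that can be added to an independent set -/
noncomputable def cmp21 (m n : ℕ) : ℕ :=
  Nat.rec 0 (fun i ih => bif' (band (bit 0x7ffffc i) (ind21 (Nat.lor m (Nat.shiftLeft 1 i)))) (Nat.lor ih (Nat.shiftLeft 1 i)) ih) n

theorem sub_cmp21 {m : ℕ} {s : Finset GolayPt} (h1 : s ⊆ toSet 0x7ffffc) (h2 : toSet m ⊆ s)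
    (h3 : ∀ c ∈ W 0x800003 0x7ffffc 5, (c ∩ s).card ≤ 2) : s ⊆ toSet (cmp21 m 24) := by
  have key : ∀ n ≤ 24, ∀ q ∈ s, idx q < n → q ∈ toSet (cmp21 m n) := by
    intro n
    induction n with
    | zero => exact fun _ _ _ h => absurd h (Nat.not_lt_zero _)
    | succ n ih =>
      intro hn q hq hl
      rw [show cmp21 m (n + 1) = bif' (band (bit 0x7ffffc n) (ind21 (Nat.lor m (Nat.shiftLeft 1 n))))
        (Nat.lor (cmp21 m n) (Nat.shiftLeft 1 n)) (cmp21 m n) from rfl, bif'_eq, sh1]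
      rcases Nat.lt_succ_iff_lt_or_eq.1 hl with c | rfl
      · split_ifs
        · rw [toSet_lor]; exact mem_union_left _ (ih (by omega) q hq c)
        · exact ih (by omega) q hq c
      · rw [if_pos, toSet_lor, toSet_two_pow hn, pt_idx]
        · exact mem_union_right _ (mem_singleton_self q)
        · rw [band_iff, bit_eq, ← mem_toSet, ind21_iff, toSet_lor, toSet_two_pow hn, pt_idx]
          exact ⟨h1 hq, fun c hc => (card_le_card (inter_subset_inter_left (union_subset h2 (singleton_subset_iff.2 hq)))).trans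
            (h3 c hc)⟩
  exact fun q hq => key 24 le_rfl q hq (idx_lt q)

theorem hyp21 : ∀ s ⊆ toSet 0x7ffffc, s.card = 4 → (∀ c ∈ W 0x800003 0x7ffffc 5, (c ∩ s).card ≤ 2) →
    ∃ h ⊆ toSet 0x7ffffc, (h.card = 6 ∧ (∀ c ∈ W 0x800003 0x7ffffc 5, (c ∩ h).card ≤ 2) ∧ s ⊆ h) ∧
      ∀ h' ⊆ toSet 0x7ffffc, h'.card = 6 → (∀ c ∈ W 0x800003 0x7ffffc 5, (c ∩ h').card ≤ 2) → s ⊆ h' → h' = h := by
  refine forall_of_cntK (p := fun m => bimp (ind21 m) (force (cmp21 m 24) fun h => band (Nat.beq (Nat.land 0x7ffffc h) h)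
    (band (Nat.beq (pc h) 6) (band (ind21 h) (Nat.beq (Nat.land m h) m))))) (fun m hm h hi => ?_) (by decide +kernel)
  rw [bimp_iff, frc, band_iff, band_iff, band_iff, beq_iff', beq_iff', beq_iff', ind21_iff, ind21_iff] at h
  obtain ⟨a, b, c, d⟩ := h hi
  have hl : cmp21 m 24 < 2 ^ 24 := a ▸ and_lt24 _ (by norm_num)
  have b' := (card_toSet hl).trans b
  exact ⟨_, (toSet_subset_iff _ hl).2 ((Nat.and_comm _ _).trans a), ⟨b', c, (toSet_subset_iff _ hm).2 d⟩,
    fun h' h1 h2 h3 h4 => eq_of_subset_of_card_le (sub_cmp21 h1 h4 h3) (b'.trans h2.symm).le⟩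

end H14.Sr
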