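import Mathlib
import Cfsg.Agent.H14.P24
import Cfsg.Agent.H14.GolaySteiner

/-!
Search-tree certificates for the uniqueness of block systems on a subset `U` of the 24 points.
* `H14.Sr.St U t k A H AH B`: blocks are `k`-subsets of `U`, every `t`-subset of `U` lies in a block, distinct blocks meet in a
  number of points allowed by the mask `A`, every block meets `H` in a number of points allowed by `AH`.
* `H14.Sr.W F U k`: the traces on `U` of size `k` of the octads through `F`.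
* `H14.Sr.Tr`, `chk`, `chk_sound`: a checked tree shows that `B` is an image of `W F U k` under a permutation fixing `X` pointwise.
* `H14.Sr.fixW`: a permutation preserving `W` and fixing enough points fixes more points.
-/

namespace H14.Sr

open Finset Cfsg H13
open scoped Pointwise symmDiff

theorem frc {β : Type} [Inhabited β] (x : ℕ) (k : ℕ → β) : force x k = k x := (force_eq x k).trans rfl

theorem beq_iff' {a b : ℕ} : Nat.beq a b = true ↔ a = b := by rw [Nat.beq_eq]

theorem sh1 (p : ℕ) : Nat.shiftLeft 1 p = 2 ^ p := Nat.one_shiftLeft p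

theorem toSet_lor (a b : ℕ) : toSet (Nat.lor a b) = toSet a ∪ toSet b := toSet_or a b

theorem lor_lt {a b : ℕ} (ha : a < 2 ^ 24) (hb : b < 2 ^ 24) : Nat.lor a b < 2 ^ 24 := or_lt24 ha hb

/-- entry of a table of masks -/
def tb (T i : ℕ) : ℕ := tbl 24 0x1000000 T i

theorem tb_lt (T i : ℕ) : tb T i < 2 ^ 24 := Nat.mod_lt _ (by norm_num)

theorem tb_shift (T m i : ℕ) : tb (T >>> (24 * m)) i = tb T (m + i) := by
  change ((T >>> (24 * m)) >>> (24 * i)) % _ = (T >>> (24 * (m + i))) % _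
  rw [mul_add, Nat.shiftRight_add]

theorem tb_push_zero (T : ℕ) {s : ℕ} (hs : s < 2 ^ 24) : tb (T * 0x1000000 + s) 0 = s := by
  change ((T * 0x1000000 + s) >>> 0) % 0x1000000 = s
  rw [Nat.shiftRight_zero]; omega

theorem push_shift (T : ℕ) {s : ℕ} (hs : s < 2 ^ 24) : (T * 0x1000000 + s) >>> (24 * 1) = T := by
  rw [Nat.shiftRight_eq_div_pow]; omega

/-- block systems on `U` with restricted intersection numbers -/
structure St (U t k A H AH : ℕ) (B : Set (Finset GolayPt)) : Prop where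
  sub : ∀ b ∈ B, b ⊆ toSet U
  card : ∀ b ∈ B, b.card = k
  ex : ∀ s ⊆ toSet U, s.card = t → ∃ b ∈ B, s ⊆ b
  int : ∀ b ∈ B, ∀ c ∈ B, b ≠ c → A.testBit (b ∩ c).card = true
  hy : ∀ b ∈ B, AH.testBit (b ∩ toSet H).card = true

/-- traces of octads -/
def W (F U k : ℕ) : Set (Finset GolayPt) := {b | b.card = k ∧ ∃ o ∈ octads, toSet F ⊆ o ∧ b = o ∩ toSet U}

/-- the first `n` masks of the table are blocks -/
def Kn (B : Set (Finset GolayPt)) (T n : ℕ) : Prop := ∀ i < n, toSet (tb T i) ∈ B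

/-- the block contains `s` and misses `e` -/
def Cm (b : Finset GolayPt) (s e : ℕ) : Prop := s < 2 ^ 24 ∧ e < 2 ^ 24 ∧ toSet s ⊆ b ∧ Disjoint (toSet e) b

variable {U t k A H AH F X T n s e l : ℕ} {B : Set (Finset GolayPt)} {b : Finset GolayPt} {R : Prop}

theorem mem_smul_iff (g : Equiv.Perm GolayPt) : b ∈ g⁻¹ • B ↔ g • b ∈ B := Set.mem_inv_smul_set_iff

theorem St.smul (h : St U t k A H AH B) {g : Equiv.Perm GolayPt} (hU : g • toSet U = toSet U) (hH : g • toSet H = toSet H) :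
    St U t k A H AH (g⁻¹ • B) where
  sub b hb := smul_finset_subset_smul_finset_iff.1 (hU.symm ▸ h.sub _ ((mem_smul_iff g).1 hb) : g • b ⊆ g • toSet U)
  card b hb := (card_smul_finset g b).symm.trans (h.card _ ((mem_smul_iff g).1 hb))
  ex s hs hc := by
    obtain ⟨b, hb, h1⟩ := h.ex (g • s) (hU ▸ smul_finset_subset_smul_finset hs) ((card_smul_finset g s).trans hc)
    refine ⟨g⁻¹ • b, Set.smul_mem_smul_set hb, ?_⟩
    rw [← smul_finset_subset_smul_finset_iff (a := g), smul_inv_smul]; exact h1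
  int b hb c hc hne := by
    have := h.int _ ((mem_smul_iff g).1 hb) _ ((mem_smul_iff g).1 hc) fun e => hne (smul_left_cancel g e)
    rwa [← smul_finset_inter, card_smul_finset] at this
  hy b hb := by
    have := h.hy _ ((mem_smul_iff g).1 hb)
    rwa [← hH, ← smul_finset_inter, card_smul_finset] at this

theorem St.eq_of_le (h : St U t k A H AH B) (hA : A < 2 ^ t) {c : Finset GolayPt} (hb : b ∈ B) (hc : c ∈ B)
    (ht : t ≤ (b ∩ c).card) : b = c := by
  by_contra hne
  have := h.int _ hb _ hc hne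
  rw [Nat.testBit_eq_false_of_lt (lt_of_lt_of_le hA (Nat.pow_le_pow_right (by norm_num) ht))] at this
  cases this

theorem St.eq_of_sub (h : St U t k A H AH B) (hA : A < 2 ^ t) (htk : t ≤ k) {C : Set (Finset GolayPt)} (hC : C ⊆ B)
    (hex : ∀ s ⊆ toSet U, s.card = t → ∃ b ∈ C, s ⊆ b) : B = C := by
  refine Set.Subset.antisymm (fun c hc => ?_) hC
  obtain ⟨s, hs, hst⟩ := exists_subset_card_eq (htk.trans (h.card c hc).ge)
  obtain ⟨b, hb, h1⟩ := hex s (hs.trans (h.sub c hc)) hst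
  rwa [h.eq_of_le hA hc (hC hb) (hst ▸ card_le_card (subset_inter hs h1))]

/-- deductions from the allowed sizes `A` of the intersection with `l` -/
noncomputable def lcore (A l s e : ℕ) (c : ℕ → ℕ → Bool) : Bool :=
  force (Nat.land l (Nat.xor (Nat.lor s e) 0xffffff)) fun fr => force (Nat.shiftLeft 1 (pc fr)) fun p =>
    force (Nat.mod (Nat.shiftRight A (pc (Nat.land s l))) (Nat.mul 2 p)) fun m =>
      bif' (Nat.beq m 0) true (bif' (Nat.beq m 1) (force (Nat.lor e fr) fun e' => c s e')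
        (bif' (Nat.beq m p) (force (Nat.lor s fr) fun s' => c s' e) (c s e)))

theorem lcore_sound {c : ℕ → ℕ → Bool} (hA : A.testBit (b ∩ toSet l).card = true) (hl : l < 2 ^ 24) (hC : Cm b s e)
    (hc : ∀ s' e', Cm b s' e' → c s' e' = true → R) (h : lcore A l s e c = true) : R := by
  obtain ⟨h1, h2, h3, h4⟩ := hC
  rw [lcore, frc, frc, frc, sh1] at h
  have hfl : Nat.land l (Nat.xor (Nat.lor s e) 0xffffff) < 2 ^ 24 := and_lt24 _ hl
  have hF : toSet (Nat.land l (Nat.xor (Nat.lor s e) 0xffffff)) = toSet l \ (toSet s ∪ toSet e) :=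
    (toSet_diff _ _).trans (congrArg _ (toSet_or s e))
  have hlo : (toSet s ∩ toSet l).card = pc (Nat.land s l) := card_inter_toSet l h1
  generalize Nat.land l (Nat.xor (Nat.lor s e) 0xffffff) = fr at h hfl hF
  have hf := card_toSet hfl
  generalize pc (Nat.land s l) = lo at h hlo
  generalize pc fr = f at h hf
  have hsplit : (b ∩ toSet l).card = lo + (b ∩ toSet fr).card := by
    rw [← hlo, ← card_union_of_disjoint]
    · congr 1; ext x
      have a := @h3 x
      have a' : x ∈ toSet e → x ∉ b := fun h => disjoint_left.1 h4 h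
      simp only [hF, mem_inter, mem_union, mem_sdiff]
      generalize (x ∈ toSet s) = P at *
      generalize (x ∈ toSet e) = Q at *
      generalize (x ∈ toSet l) = L at *
      tauto
    · rw [hF, disjoint_left]
      intro x hx hx'
      exact (mem_sdiff.1 (mem_inter.1 hx').2).2 (mem_union_left _ (mem_inter.1 hx).1)
  have hx : (b ∩ toSet fr).card ≤ f := hf ▸ card_le_card inter_subset_right
  have hb : (Nat.mod (Nat.shiftRight A lo) (Nat.mul 2 (2 ^ f))).testBit (b ∩ toSet fr).card = true := by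
    have : Nat.mod (Nat.shiftRight A lo) (Nat.mul 2 (2 ^ f)) = (A >>> lo) % 2 ^ (f + 1) := by rw [pow_succ, mul_comm]; rfl
    rw [this, Nat.testBit_mod_two_pow, Nat.testBit_shiftRight, ← hsplit, hA, Bool.and_true, decide_eq_true_eq]
    omega
  generalize Nat.mod (Nat.shiftRight A lo) (Nat.mul 2 (2 ^ f)) = m at h hb
  rw [bif'_eq, bif'_eq, bif'_eq, frc, frc] at h
  by_cases c0 : Nat.beq m 0 = true
  · rw [beq_iff'.1 c0, Nat.zero_testBit] at hb; cases hb
  rw [if_neg c0] at h
  by_cases c1 : Nat.beq m 1 = true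
  · rw [beq_iff'.1 c1, Nat.testBit_one_eq_true_iff_self_eq_zero, card_eq_zero, ← disjoint_iff_inter_eq_empty] at hb
    rw [if_pos c1] at h
    refine hc _ _ ⟨h1, lor_lt h2 hfl, h3, ?_⟩ h
    rw [toSet_lor]
    exact disjoint_union_left.2 ⟨h4, hb.symm⟩
  rw [if_neg c1] at h
  by_cases c2 : Nat.beq m (2 ^ f) = true
  · rw [beq_iff'.1 c2, Nat.testBit_two_pow, decide_eq_true_eq, ← hf] at hb
    rw [if_pos c2] at h
    refine hc _ _ ⟨lor_lt h1 hfl, h2, ?_, h4⟩ h
    rw [toSet_lor]
    exact union_subset h3 (inter_eq_right.1 (eq_of_subset_of_card_le inter_subset_right hb.le))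
  · rw [if_neg c2] at h
    exact hc _ _ ⟨h1, h2, h3, h4⟩ h

/-- deductions from a known block -/
noncomputable def lstep (A l s e : ℕ) (c : ℕ → ℕ → Bool) : Bool :=
  bif' (band (Nat.beq (Nat.land s l) s) (Nat.beq (Nat.land l e) 0)) (c s e) (lcore A l s e c)

theorem lstep_sound {c : ℕ → ℕ → Bool} (hS : St U t k A H AH B) (hb : b ∈ B) (hB : toSet l ∈ B) (hl : l < 2 ^ 24)
    (hC : Cm b s e) (hc : ∀ s' e', Cm b s' e' → c s' e' = true → R) (h : lstep A l s e c = true) : R := by
  rw [lstep, bif'_eq] at h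
  split_ifs at h with c0
  · exact hc _ _ hC h
  · refine lcore_sound (hS.int _ hb _ hB ?_) hl hC hc h
    rintro rfl
    rw [band_iff, Nat.beq_eq, Nat.beq_eq] at c0
    exact c0 ⟨(toSet_subset_iff l hC.1).1 hC.2.2.1, (disjoint_toSet_iff e hl).1 hC.2.2.2.symm⟩

/-- `m` deduction steps, with the indices packed in the first argument -/
noncomputable def run (A T n m : ℕ) (c : ℕ → ℕ → Bool) : ℕ → ℕ → ℕ → Bool :=
  Nat.rec (motive := fun _ => ℕ → ℕ → ℕ → Bool) (fun _ s e => c s e)
    (fun _ ih h s e => force (Nat.land h 1023) fun j => band (Nat.blt j n) (force (tb T j) fun l =>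
      force (Nat.shiftRight h 10) fun h' => lstep A l s e (ih h'))) m

theorem run_sound {c : ℕ → ℕ → Bool} (hS : St U t k A H AH B) (hb : b ∈ B) (hK : Kn B T n)
    (hc : ∀ s' e', Cm b s' e' → c s' e' = true → R) (m : ℕ) : ∀ h s e, Cm b s e → run A T n m c h s e = true → R := by
  induction m with
  | zero => exact fun _ s e hC h => hc s e hC h
  | succ m ih =>
    intro h s e hC hr
    change force _ _ = true at hr
    simp only [frc, band_iff, Nat.blt_eq] at hr
    exact lstep_sound hS hb (hK _ hr.1) (tb_lt _ _) hC (ih _) hr.2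

/-- the block is determined -/
noncomputable def cls (U k s e : ℕ) (c : ℕ → Bool) : Bool :=
  force (Nat.land U (Nat.xor e 0xffffff)) fun r => bif' (Nat.beq (pc s) k) (c s) (bif' (Nat.beq (pc r) k) (c r)
    (bor (Nat.blt k (pc s)) (Nat.blt (pc r) k)))

theorem cls_sound {c : ℕ → Bool} (hS : St U t k A H AH B) (hU : U < 2 ^ 24) (hb : b ∈ B) (hC : Cm b s e)
    (hc : ∀ s' < 2 ^ 24, b = toSet s' → c s' = true → R) (h : cls U k s e c = true) : R := by
  rw [cls, frc, bif'_eq, bif'_eq] at h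
  have hr : Nat.land U (Nat.xor e 0xffffff) < 2 ^ 24 := and_lt24 _ hU
  have h1 : b ⊆ toSet (Nat.land U (Nat.xor e 0xffffff)) :=
    (subset_sdiff.2 ⟨hS.sub b hb, hC.2.2.2.symm⟩).trans (toSet_diff U e).ge
  generalize Nat.land U (Nat.xor e 0xffffff) = r at h hr h1
  have h2 := card_le_card h1
  have h3 := card_le_card hC.2.2.1
  rw [hS.card b hb, card_toSet hr] at h2
  rw [hS.card b hb, card_toSet hC.1] at h3
  by_cases c0 : Nat.beq (pc s) k = true
  · rw [if_pos c0] at h
    exact hc _ hC.1 (eq_of_subset_of_card_le hC.2.2.1 (by rw [hS.card b hb, card_toSet hC.1, beq_iff'.1 c0])).symm h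
  rw [if_neg c0] at h
  by_cases c1 : Nat.beq (pc r) k = true
  · rw [if_pos c1] at h
    exact hc _ hr (eq_of_subset_of_card_le h1 (by rw [hS.card b hb, card_toSet hr, beq_iff'.1 c1])) h
  · rw [if_neg c1, bor_iff, Nat.blt_eq, Nat.blt_eq] at h; omega

/-- `s` is a `t`-subset of `U` -/
noncomputable def tOk (U t s : ℕ) : Bool := band (Nat.beq (Nat.land U s) s) (Nat.beq (pc s) t)

theorem tOk_spec (hS : St U t k A H AH B) (hU : U < 2 ^ 24) (h : tOk U t s = true) : ∃ b ∈ B, Cm b s 0 := by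
  rw [tOk, band_iff, Nat.beq_eq, Nat.beq_eq] at h
  have hs : s < 2 ^ 24 := h.1 ▸ and_lt24 _ hU
  obtain ⟨b, hb, h1⟩ := hS.ex (toSet s) ((toSet_subset_iff U hs).2 ((Nat.and_comm _ _).trans h.1)) ((card_toSet hs).trans h.2)
  exact ⟨b, hb, hs, by norm_num, h1, by rw [toSet_zero]; exact disjoint_empty_left _⟩

/-- a list of forced blocks: the low entries of the table -/
noncomputable def bulk (U t k A T0 n : ℕ) (hs : List ℕ) : ℕ → Bool :=
  List.rec (motive := fun _ => ℕ → Bool) (fun T => Nat.beq T T0) (fun w hs ih T => force (Nat.shiftRight T 24) fun T' =>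
    force (Nat.land w 0xffffff) fun s => band (tOk U t s) (band (run A T' (Nat.add n hs.length) (Nat.land (Nat.shiftRight w 24) 31)
      (fun s e => cls U k s e fun s' => Nat.beq s' (tb T 0)) (Nat.shiftRight w 29) s 0) (ih T'))) hs

theorem Kn.push (hK : Kn B (T >>> (24 * 1)) n) (h : toSet (tb T 0) ∈ B) : Kn B T (n + 1) := by
  intro i hi
  rcases i with _ | i
  · exact h
  · have := hK i (by omega)
    rwa [tb_shift, add_comm] at this

theorem bulk_sound {T0 : ℕ} (hS : St U t k A H AH B) (hU : U < 2 ^ 24) (hK : Kn B T0 n) (hs : List ℕ) :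
    ∀ T, bulk U t k A T0 n hs T = true → Kn B T (n + hs.length) := by
  induction hs with
  | nil => intro T h; rwa [beq_iff'.1 h]
  | cons w hs ih =>
    intro T h
    change force _ _ = true at h
    simp only [frc, band_iff] at h
    have h1 := ih _ h.2.2
    obtain ⟨b, hb, hC⟩ := tOk_spec hS hU h.1
    refine Kn.push (n := n + hs.length) h1 (run_sound hS hb h1 (fun s e hC h => cls_sound hS hU hb hC (fun s' _ e h => ?_) h) _ _ _ _ hC h.2.1)
    rwa [← beq_iff'.1 h, ← e]

/-- the table fixes `X` pointwise -/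
noncomputable def fixX (X r : ℕ) : Bool := allLt 24 fun i => bimp (bit X i) (Nat.beq (ap r i) i)

/-- the mask is in the table -/
noncomputable def inT (T n x : ℕ) : Bool := anyLt n fun j => Nat.beq (tb T j) x

theorem inT_spec (hK : Kn B T n) {x : ℕ} (h : inT T n x = true) : toSet x ∈ B := by
  obtain ⟨j, hj, h⟩ := (anyLt_iff _ _).1 h
  rw [← beq_iff'.1 h]; exact hK j hj

/-- a permutation of `U` fixing `X` pointwise -/
noncomputable def gOk (U X r : ℕ) : Bool := band (okP r) (band (Nat.beq (pm r U) U) (fixX X r))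

theorem gOk_spec {r : ℕ} (h : gOk U X r = true) :
    ∃ g : Equiv.Perm GolayPt, Tab g r ∧ g • toSet U = toSet U ∧ ∀ p ∈ toSet X, g p = p := by
  simp only [gOk, band_iff, fixX, allLt_iff, bimp_iff, Nat.beq_eq] at h
  obtain ⟨g, -, rfl⟩ := in_perm h.1
  refine ⟨g, SP_tab g, by rw [SP_smul, h.2.1], fun p hp => ?_⟩
  rw [← pt_idx p] at hp ⊢
  rw [(SP_tab g).apply_pt (idx_lt p), h.2.2 _ (idx_lt p) ((pt_mem_toSet (idx_lt p)).1 hp)]

/-- a symmetry of the state -/
noncomputable def symOk (U H X T n s e r : ℕ) : Bool :=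
  band (gOk U X r) (band (Nat.beq (pm r H) H) (band (Nat.beq (pm r s) s) (band (Nat.beq (pm r e) e)
    (allLt n fun i => force (pm r (tb T i)) (inT T n)))))

/-- the mask is an octad through `F` with `k` points in `U` -/
noncomputable def wOk (F U k c : ℕ) : Bool :=
  band (Nat.beq (pc c) 8) (band (Nat.beq (Nat.land F c) F) (Nat.beq (pc (Nat.land c U)) k))

theorem forall_W {P : Finset GolayPt → Prop} (hF : F < 2 ^ 24) :
    (∀ b ∈ W F U k, P b) ↔ ∀ a < 4096, wOk F U k (cw a) = true → P (toSet (Nat.land (cw a) U)) := by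
  simp only [wOk, band_iff, Nat.beq_eq]
  constructor
  · rintro h a ha ⟨h1, h2, h3⟩
    exact h _ ⟨(card_toSet (and_lt24 _ (cw_lt ha))).trans h3, _, ⟨toSet_cw_mem ha, (card_toSet (cw_lt ha)).trans h1⟩,
      (toSet_subset_iff _ hF).2 h2, toSet_and _ _⟩
  · rintro h _ ⟨h1, o, ho, h2, rfl⟩
    obtain ⟨a, ha, rfl⟩ := mem_Code_iff.1 ho.1
    rw [← toSet_and] at h1 ⊢
    exact h a ha ⟨(card_toSet (cw_lt ha)).symm.trans ho.2, (toSet_subset_iff _ hF).1 h2,
      (card_toSet (and_lt24 _ (cw_lt ha))).symm.trans h1⟩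

/-- the image of `W` is in the table -/
noncomputable def leafOk (F U k X T n r : ℕ) : Bool :=
  band (gOk U X r) (all2 64 64 fun a => force (cw a) fun c => bimp (wOk F U k c) (force (pm r (Nat.land c U)) (inT T n)))

/-- search trees -/
inductive Tr : Type
  | run (m h : ℕ) (t : Tr)
  | hyp (t : Tr)
  | cl (t : Tr)
  | add (N : ℕ) (hs : List ℕ) (s : ℕ) (t : Tr)
  | br (p : ℕ) (rs : List ℕ) (t u : Tr)
  | leaf (r : ℕ)
  | no

/-- the images of `p` under the tables -/
noncomputable def orbM (p : ℕ) (rs : List ℕ) : ℕ :=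
  List.rec (Nat.shiftLeft 1 p) (fun r _ ih => Nat.lor (Nat.shiftLeft 1 (ap r p)) ih) rs

/-- the check of a search tree -/
noncomputable def chk (F U t k A H AH X : ℕ) (tr : Tr) : ℕ → ℕ → ℕ → ℕ → Bool :=
  Tr.rec (motive := fun _ => ℕ → ℕ → ℕ → ℕ → Bool)
    (fun m h _ ih T n s e => run A T n m (ih T n) h s e)
    (fun _ ih T n s e => lcore AH H s e (ih T n))
    (fun _ ih T n s e => cls U k s e fun s' => force (Nat.xor s' 0xffffff) (ih T n s'))
    (fun N hs s' _ ih T n s e => cls U k s e fun s => force (Nat.add (Nat.mul T 0x1000000) s) fun T1 =>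
      force (Nat.add (Nat.shiftLeft T1 (Nat.mul 24 hs.length)) N) fun T2 => force (Nat.succ n) fun n1 =>
        band (bulk U t k A T1 n1 hs T2) (band (tOk U t s') (force (Nat.add n1 hs.length) fun n2 => ih T2 n2 s' 0)))
    (fun p rs _ _ ih ih' T n s e => band (Nat.blt p 24) (band (allL (symOk U H X T n s e) rs)
      (band (force (Nat.lor s (Nat.shiftLeft 1 p)) fun s' => ih T n s' e) (force (Nat.lor e (orbM p rs)) (ih' T n s)))))
    (fun r T n _ _ => leafOk F U k X T n r)
    (fun _ _ _ _ => false) tr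

/-- `B` is an image of `W` -/
def Gl (F U k X : ℕ) (B : Set (Finset GolayPt)) : Prop :=
  ∃ g : Equiv.Perm GolayPt, g • toSet U = toSet U ∧ (∀ p ∈ toSet X, g p = p) ∧ B = g • W F U k

theorem orbM_spec {p : ℕ} {rs : List ℕ} (hp : p < 24) (h : ∀ r ∈ rs, ap r p < 24) (c1 : pt p ∉ b)
    (c2 : ∀ r ∈ rs, pt (ap r p) ∉ b) : orbM p rs < 2 ^ 24 ∧ Disjoint (toSet (orbM p rs)) b := by
  induction rs with
  | nil =>
    rw [show orbM p [] = 2 ^ p from sh1 p, toSet_two_pow hp]
    exact ⟨two_pow_lt24 hp, disjoint_singleton_left.2 c1⟩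
  | cons r rs ih =>
    have a := ih (fun r hr => h r (List.mem_cons_of_mem _ hr)) fun r hr => c2 r (List.mem_cons_of_mem _ hr)
    have h1 := h r List.mem_cons_self
    rw [show orbM p (r :: rs) = Nat.lor (Nat.shiftLeft 1 (ap r p)) (orbM p rs) from rfl, toSet_lor, sh1, toSet_two_pow h1]
    exact ⟨lor_lt (two_pow_lt24 h1) a.1, disjoint_union_left.2 ⟨disjoint_singleton_left.2 (c2 r List.mem_cons_self), a.2⟩⟩

theorem symOk_spec {r : ℕ} (hS : St U t k A H AH B) (hK : Kn B T n) (hC : Cm b s e) (h : symOk U H X T n s e r = true) :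
    ∃ g : Equiv.Perm GolayPt, Tab g r ∧ g • toSet U = toSet U ∧ (∀ p ∈ toSet X, g p = p) ∧ St U t k A H AH (g⁻¹ • B) ∧
      Kn (g⁻¹ • B) T n ∧ Cm (g⁻¹ • b) s e := by
  simp only [symOk, band_iff, beq_iff', allLt_iff, frc] at h
  obtain ⟨h0, h1, h2, h3, h4⟩ := h
  obtain ⟨g, hg, a1, a2⟩ := gOk_spec h0
  have e1 : g • toSet H = toSet H := by rw [hg.smul_toSet, h1]
  have e2 : g • toSet s = toSet s := by rw [hg.smul_toSet, h2]
  have e3 : g • toSet e = toSet e := by rw [hg.smul_toSet, h3]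
  refine ⟨g, hg, a1, a2, hS.smul a1 e1, fun i hi => ?_, hC.1, hC.2.1, ?_, ?_⟩
  · rw [mem_smul_iff, hg.smul_toSet]; exact inT_spec hK (h4 i hi)
  · rw [← smul_finset_subset_smul_finset_iff (a := g), smul_inv_smul, e2]; exact hC.2.2.1
  · rw [disjoint_left]
    intro x hx hx'
    refine disjoint_left.1 hC.2.2.2 ?_ (mem_inv_smul_finset_iff.1 hx')
    rw [← e3]; exact smul_mem_smul_finset hx

theorem leafOk_spec {r : ℕ} (hF : F < 2 ^ 24) (hA : A < 2 ^ t) (htk : t ≤ k)
    (hW : ∀ s ⊆ toSet U, s.card = t → ∃ b ∈ W F U k, s ⊆ b) (hS : St U t k A H AH B) (hK : Kn B T n)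
    (hr : leafOk F U k X T n r = true) : Gl F U k X B := by
  simp only [leafOk, band_iff, all2_iff, frc, bimp_iff] at hr
  obtain ⟨g, hg, a1, a2⟩ := gOk_spec hr.1
  refine ⟨g, a1, a2, hS.eq_of_sub hA htk ?_ fun s hs hc => ?_⟩
  · rintro _ ⟨c, hc, rfl⟩
    refine (forall_W (P := fun c => g • c ∈ B) hF).2 (fun a ha h => ?_) c hc
    rw [hg.smul_toSet]; exact inT_spec hK (hr.2 a ha h)
  · obtain ⟨c, hc, h1⟩ := hW (g⁻¹ • s) (by
      rw [← smul_finset_subset_smul_finset_iff (a := g), smul_inv_smul, a1]; exact hs) ((card_smul_finset _ _).trans hc)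
    refine ⟨g • c, Set.smul_mem_smul_set hc, ?_⟩
    rw [← smul_inv_smul g s]; exact smul_finset_subset_smul_finset h1

theorem chk_sound (hU : U < 2 ^ 24) (hH : H < 2 ^ 24) (hF : F < 2 ^ 24) (hA : A < 2 ^ t) (htk : t ≤ k)
    (hW : ∀ s ⊆ toSet U, s.card = t → ∃ b ∈ W F U k, s ⊆ b) (tr : Tr) :
    ∀ T n s e B b, St U t k A H AH B → Kn B T n → b ∈ B → Cm b s e → chk F U t k A H AH X tr T n s e = true → Gl F U k X B := by
  induction tr with
  | run m h _ ih =>
    exact fun T n s e B b hS hK hb hC hr => run_sound hS hb hK (fun s' e' => ih T n s' e' B b hS hK hb) m h s e hC hr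
  | hyp _ ih =>
    exact fun T n s e B b hS hK hb hC hr => lcore_sound (hS.hy b hb) hH hC (fun s' e' => ih T n s' e' B b hS hK hb) hr
  | cl _ ih =>
    refine fun T n s e B b hS hK hb hC hr => cls_sound hS hU hb hC (fun s' h1 h2 h => ?_) hr
    rw [frc] at h
    refine ih T n s' _ B b hS hK hb ⟨h1, xor_lt24 h1 (by norm_num), h2.ge, ?_⟩ h
    rw [h2, toSet_compl]
    exact disjoint_compl_left
  | add N hs s' _ ih =>
    refine fun T n s e B b hS hK hb hC hr => cls_sound hS hU hb hC (fun s h1 h2 h => ?_) hr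
    rw [frc, frc, frc, band_iff, band_iff, frc] at h
    obtain ⟨b', hb', hC'⟩ := tOk_spec hS hU h.2.1
    have h3 : Kn B (T * 0x1000000 + s) (n + 1) :=
      Kn.push (by rwa [push_shift T h1]) (by rwa [tb_push_zero T h1, ← h2])
    exact ih _ _ _ _ B b' hS (bulk_sound hS hU h3 hs _ h.1) hb' hC' h.2.2
  | br p rs t1 t2 ih ih' =>
    intro T n s e B b hS hK hb hC hr
    replace hr : band (Nat.blt p 24) (band (allL (symOk U H X T n s e) rs)
      (band (force (Nat.lor s (Nat.shiftLeft 1 p)) fun s' => chk F U t k A H AH X t1 T n s' e)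
        (force (Nat.lor e (orbM p rs)) (chk F U t k A H AH X t2 T n s)))) = true := hr
    rw [band_iff, band_iff, band_iff, frc, frc, Nat.blt_eq, allL_iff, sh1] at hr
    obtain ⟨hp, h1, h2, h3⟩ := hr
    have key : ∀ B b, St U t k A H AH B → Kn B T n → b ∈ B → Cm b s e → pt p ∈ b → Gl F U k X B := by
      refine fun B b hS hK hb hC hp' => ih _ _ _ _ B b hS hK hb ⟨lor_lt hC.1 (two_pow_lt24 hp), hC.2.1, ?_, hC.2.2.2⟩ h2
      rw [toSet_lor, toSet_two_pow hp]
      exact union_subset hC.2.2.1 (singleton_subset_iff.2 hp')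
    by_cases c1 : pt p ∈ b
    · exact key B b hS hK hb hC c1
    by_cases c2 : ∃ r ∈ rs, pt (ap r p) ∈ b
    · obtain ⟨r, hr, c2⟩ := c2
      obtain ⟨g, hg, a1, a2, b1, b2, b3⟩ := symOk_spec hS hK hC (h1 r hr)
      obtain ⟨g', a3, a4, a5⟩ := key _ _ b1 b2 (Set.smul_mem_smul_set hb) b3
        (mem_inv_smul_finset_iff.2 (by rw [Equiv.Perm.smul_def, hg.apply_pt hp]; exact c2))
      refine ⟨g * g', by rw [mul_smul, a3, a1], fun x hx => by rw [Equiv.Perm.mul_apply, a4 x hx, a2 x hx], ?_⟩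
      rw [mul_smul, ← a5, smul_inv_smul]
    · have h4 := orbM_spec hp (fun r hr => (symOk_spec hS hK hC (h1 r hr)).elim fun _ h => h.1.lt hp) c1
        fun r hr h => c2 ⟨r, hr, h⟩
      refine ih' _ _ _ _ B b hS hK hb ⟨hC.1, lor_lt hC.2.1 h4.1, hC.2.2.1, ?_⟩ h3
      rw [toSet_lor]
      exact disjoint_union_left.2 ⟨hC.2.2.2, h4.2⟩
  | leaf r => exact fun T n s e B b hS hK _ _ hr => leafOk_spec hF hA htk hW hS hK hr
  | no => intro T n s e B b _ _ _ _ hr; cases hr

end H14.Sr
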